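import Cfsg.Agent.Lib.LocEven.StrongAlperin
import Cfsg.Agent.Lib.TwoFusion.FusionTools
import Cfsg.Agent.Lib.Invol.Dihedral
import Mathlib.GroupTheory.Sylow
import Mathlib.Tactic.Group

/-!
Fusion tools: odd automorphisms, members of the conjugation family, invariants of fusion.
-/

set_option autoImplicit false
set_option linter.unusedSectionVars false

open Subgroup CfsgLib.ConjFunctor CfsgLib.LocEven.StrongAlperin

namespace CfsgLib.DihTimesDih

variable {G : Type*} [Group G] [Finite G]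

/-- An element of odd order moving `u` by a fixed `2`-element does not move it. -/
theorem eq_one_of_odd_shift {n u w : G} (hn : Odd (orderOf n)) {k : ℕ} (hw : w ^ 2 ^ k = 1)
    (hu : n * u * n⁻¹ = u * w) (hwn : n * w * n⁻¹ = w) : w = 1 := by
  have h : ∀ m : ℕ, n ^ m * u * (n ^ m)⁻¹ = u * w ^ m := by
    intro m
    induction m with
    | zero => simp
    | succ m ih =>
      have hc : n * w ^ m * n⁻¹ = w ^ m := by rw [← conj_pow, hwn]
      calc n ^ (m + 1) * u * (n ^ (m + 1))⁻¹ = n * (n ^ m * u * (n ^ m)⁻¹) * n⁻¹ := by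
            rw [pow_succ']; group
        _ = (n * u * n⁻¹) * (n * w ^ m * n⁻¹) := by rw [ih]; group
        _ = u * w ^ (m + 1) := by rw [hu, hc, mul_assoc, ← pow_succ']
  have h1 := h (orderOf n)
  rw [pow_orderOf_eq_one, one_mul, inv_one, mul_one, left_eq_mul] at h1
  have h2 : orderOf w ∣ Nat.gcd (orderOf n) (2 ^ k) :=
    Nat.dvd_gcd (orderOf_dvd_of_pow_eq_one h1) (orderOf_dvd_of_pow_eq_one hw)
  have h3 : Nat.Coprime (orderOf n) (2 ^ k) := (Nat.coprime_two_right.2 hn).pow_right _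
  rw [h3.gcd_eq_one, Nat.dvd_one, orderOf_eq_one_iff] at h2
  exact h2

/-- An element of odd order fixing the involutions of a self-centralizing abelian subgroup that it
normalizes centralizes the whole 2-group. -/
theorem centralizes_of_abelian {n : G} (hn : Odd (orderOf n)) {U R : Subgroup G} (hU : IsPGroup 2 U)
    (hnU : ∀ u ∈ U, n * u * n⁻¹ ∈ U) (hRU : R ≤ U) (hnR : ∀ r ∈ R, n * r * n⁻¹ ∈ R)
    (hUR : ∀ u ∈ U, ∀ r ∈ R, u * r * u⁻¹ ∈ R) (hcomm : ∀ a ∈ R, ∀ b ∈ R, a * b = b * a)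
    (hfix : ∀ r ∈ R, r * r = 1 → n * r * n⁻¹ = r)
    (hself : ∀ u ∈ U, (∀ r ∈ R, u * r = r * u) → u ∈ R) :
    ∀ u ∈ U, n * u * n⁻¹ = u := by
  have hpow : ∀ u ∈ U, ∃ k : ℕ, u ^ 2 ^ k = 1 := by
    intro u hu
    obtain ⟨k, hk⟩ := hU ⟨u, hu⟩
    exact ⟨k, congrArg Subtype.val hk⟩
  have hR : ∀ k : ℕ, ∀ r ∈ R, r ^ 2 ^ k = 1 → n * r * n⁻¹ = r := by
    intro k
    induction k with
    | zero => intro r _ h; simp at h; simp [h]
    | succ k ih =>
      intro r hr h
      have h2 : n * (r * r) * n⁻¹ = r * r := ih (r * r) (R.mul_mem hr hr) (by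
        rw [← pow_two, ← pow_mul, ← pow_succ']; exact h)
      set c := r⁻¹ * (n * r * n⁻¹) with hc
      have hcR : c ∈ R := R.mul_mem (R.inv_mem hr) (hnR r hr)
      have hcc : c * c = 1 := by
        have e : c * c = (r * r)⁻¹ * (n * (r * r) * n⁻¹) := by
          have hx := hnR r hr
          calc c * c = r⁻¹ * ((n * r * n⁻¹) * r⁻¹) * (n * r * n⁻¹) := by rw [hc]; group
            _ = r⁻¹ * (r⁻¹ * (n * r * n⁻¹)) * (n * r * n⁻¹) := by
              rw [hcomm _ hx _ (R.inv_mem hr)]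
            _ = _ := by group
        rw [e, h2, inv_mul_cancel]
      have hc1 : c = 1 := eq_one_of_odd_shift hn (k := 1) (by simpa [pow_two] using hcc)
        (u := r) (by rw [hc]; group) (hfix c hcR hcc)
      rw [hc, inv_mul_eq_one] at hc1
      exact hc1.symm
  intro u hu
  set c := u⁻¹ * (n * u * n⁻¹) with hc
  have hcU : c ∈ U := U.mul_mem (U.inv_mem hu) (hnU u hu)
  have hfixR : ∀ r ∈ R, n * r * n⁻¹ = r := fun r hr => by
    obtain ⟨k, hk⟩ := hpow r (hRU hr)
    exact hR k r hr hk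
  have hcR : c ∈ R := by
    refine hself c hcU fun r hr => ?_
    have e1 : n * (u * r * u⁻¹) * n⁻¹ = u * r * u⁻¹ := hfixR _ (hUR u hu r hr)
    have e2 : (n * u * n⁻¹) * r = u * r * u⁻¹ * (n * u * n⁻¹) := by
      calc (n * u * n⁻¹) * r = (n * u * n⁻¹) * (n * r * n⁻¹) := by rw [hfixR r hr]
        _ = (n * (u * r * u⁻¹) * n⁻¹) * (n * u * n⁻¹) := by group
        _ = _ := by rw [e1]
    calc c * r = u⁻¹ * ((n * u * n⁻¹) * r) := by rw [hc]; group
      _ = u⁻¹ * (u * r * u⁻¹ * (n * u * n⁻¹)) := by rw [e2]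
      _ = r * c := by rw [hc]; group
  obtain ⟨k, hk⟩ := hpow c hcU
  have hc1 : c = 1 := eq_one_of_odd_shift hn hk (u := u) (by rw [hc]; group) (hfixR c hcR)
  rw [hc, inv_mul_eq_one] at hc1
  exact hc1.symm

/-- An element of a normal subgroup of `N(U)` whose odd-order elements centralize `U` lies in `U`. -/
theorem mem_of_normal_fixing (P : Sylow 2 G) {U : Subgroup G} (h : Fam 2 (P : Subgroup G) U)
    (M : Subgroup G) (hMN : M ≤ normalizer (U : Set G))
    (hMn : normalizer (U : Set G) ≤ normalizer (M : Set G))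
    (hodd : ∀ m ∈ M, Odd (orderOf m) → ∀ u ∈ U, m * u * m⁻¹ = u)
    {s : G} (hsP : s ∈ (P : Subgroup G)) (hsM : s ∈ M) : s ∈ U := by
  haveI : Fact (Nat.Prime 2) := ⟨Nat.prime_two⟩
  obtain ⟨hcen, hcore⟩ := fam_props P h
  set N := normalizer (U : Set G) with hN
  set π := QuotientGroup.mk' (Cfsg.pPrimeCore 2 ↥N) with hπ
  haveI : (M.subgroupOf N).Normal := (normal_subgroupOf_iff_le_normalizer hMN).2 hMn
  have himg : IsPGroup 2 ↥((M.subgroupOf N).map π) := by
    rintro ⟨y, hy⟩
    obtain ⟨m, hm, rfl⟩ := hy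
    set a := 2 ^ (orderOf (m : G)).factorization 2 with ha
    have hdvd : a ∣ orderOf (m : G) := Nat.ordProj_dvd _ _
    have hao : orderOf ((m : G) ^ a) = orderOf (m : G) / a :=
      orderOf_pow_of_dvd (pow_ne_zero _ (by norm_num)) hdvd
    have hoddm : Odd (orderOf ((m : G) ^ a)) := by
      rw [hao, ha, Nat.odd_iff]
      have := Nat.not_dvd_ordCompl Nat.prime_two (orderOf_pos (m : G)).ne'
      omega
    have hc : (m : G) ^ a ∈ centralizer (U : Set G) := by
      rw [mem_centralizer_iff]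
      intro u hu
      have := hodd _ (pow_mem hm a) hoddm u hu
      exact (mul_inv_eq_iff_eq_mul.1 this).symm
    have hL : m ^ a ∈ Cfsg.pPrimePCore 2 ↥N := by
      have h1 : ((m ^ a : ↥N) : G) ∈ (Cfsg.pPrimePCore 2 ↥N).map N.subtype := by
        rw [hcore, Subgroup.coe_pow]; exact mem_sup_right hc
      obtain ⟨w, hw, hwe⟩ := h1
      rwa [← show w = m ^ a from Subtype.ext hwe]
    have hL' : π (m ^ a) ∈ Cfsg.pCore 2 (↥N ⧸ Cfsg.pPrimeCore 2 ↥N) := hL
    obtain ⟨k, hk⟩ := (CfsgLib.Solvable.pCore_isPGroup 2 _) ⟨_, hL'⟩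
    refine ⟨(orderOf (m : G)).factorization 2 + k, Subtype.ext ?_⟩
    have hk' : π (m ^ a) ^ 2 ^ k = 1 := congrArg Subtype.val hk
    show π m ^ _ = 1
    rw [pow_add, pow_mul, ← map_pow]
    exact hk'
  have hle : (M.subgroupOf N).map π ≤ Cfsg.pCore 2 (↥N ⧸ Cfsg.pPrimeCore 2 ↥N) :=
    CfsgLib.Solvable.le_pCore
      (Normal.map inferInstance π (QuotientGroup.mk'_surjective _)) himg
  have hs : s ∈ U ⊔ centralizer (U : Set G) := by
    rw [← hcore]
    exact ⟨⟨s, hMN hsM⟩, hle ⟨⟨s, hMN hsM⟩, hsM, rfl⟩, rfl⟩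
  rw [sup_comm] at hs
  obtain ⟨c, hc, u, hu, rfl⟩ := (CfsgLib.Solvable.mem_sup_of_le_normalizer (fun u hu => by
    refine (normal_subgroupOf_iff_le_normalizer (centralizer_le_normalizer _)).1 ?_ (le_normalizer hu)
    infer_instance)).1 hs
  have hcP : c ∈ (P : Subgroup G) := by
    have := (P : Subgroup G).mul_mem hsP ((P : Subgroup G).inv_mem (h.1.le hu))
    simpa using this
  exact U.mul_mem (hcen ⟨hcP, hc⟩) hu

/-- A function invariant under the normalizer of `P` and under odd elements normalizing members of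
the family is invariant under fusion in `P`. -/
theorem fusion_invariant (P : Sylow 2 G) {α : Sort*} (f : G → α)
    (hN : ∀ y ∈ normalizer ((P : Subgroup G) : Set G), ∀ t ∈ (P : Subgroup G), f (y * t * y⁻¹) = f t)
    (hF : ∀ U, Fam 2 (P : Subgroup G) U → ∀ n ∈ normalizer (U : Set G), Odd (orderOf n) →
      ∀ t ∈ U, f (n * t * n⁻¹) = f t) :
    ∀ a ∈ (P : Subgroup G), ∀ g : G, g * a * g⁻¹ ∈ (P : Subgroup G) → f (g * a * g⁻¹) = f a := by
  haveI : Fact (Nat.Prime 2) := ⟨Nat.prime_two⟩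
  intro a ha g hg
  have hD : zpowers a ≤ (P : Subgroup G) := zpowers_le.2 ha
  have hDg : cj g⁻¹⁻¹ (zpowers a) ≤ (P : Subgroup G) := by
    rw [inv_inv]
    intro x hx
    obtain ⟨k, hk⟩ := mem_zpowers_iff.1 (mem_cj.1 hx)
    have := (P : Subgroup G).zpow_mem hg k
    rw [conj_zpow, hk] at this
    simpa [mul_assoc] using this
  obtain ⟨c, hc, X, hX, y, hy, hgeq⟩ := sgood_all P (zpowers a) g⁻¹ hD hDg
  have hchain : ∀ (D : Subgroup G) (X : G), SC 2 (P : Subgroup G) D X → D ≤ (P : Subgroup G) →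
      ∀ b ∈ D, X⁻¹ * b * X ∈ (P : Subgroup G) ∧ f (X⁻¹ * b * X) = f b := by
    intro D X h
    induction h with
    | nil D => intro hD b hb; simpa using hD hb
    | cons D U x X hDU hU hx hrest ih =>
      intro _ b hb
      have hxall : ∀ t ∈ U, x⁻¹ * t * x ∈ U ∧ f (x⁻¹ * t * x) = f t := by
        clear ih hrest
        induction hx using closure_induction with
        | mem n hn =>
          intro t ht
          obtain ⟨hnN, hno, -⟩ := hn
          refine ⟨(mem_normalizer_iff''.1 hnN t).1 ht, ?_⟩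
          have := hF U hU n⁻¹ (inv_mem hnN)
            (by rw [orderOf_inv]; exact Nat.coprime_two_right.1 hno) t ht
          simpa using this
        | one => intro t ht; simpa using ht
        | mul n m _ _ hn hm =>
          intro t ht
          obtain ⟨h1, h2⟩ := hn t ht
          obtain ⟨h3, h4⟩ := hm _ h1
          have e : (n * m)⁻¹ * t * (n * m) = m⁻¹ * (n⁻¹ * t * n) * m := by group
          rw [e]
          exact ⟨h3, h4.trans h2⟩
        | inv n hn' hn =>
          intro t ht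
          have hnN : n ∈ normalizer (U : Set G) := stepGroup_le U hn'
          have h1 : n * t * n⁻¹ ∈ U := (mem_normalizer_iff.1 hnN t).1 ht
          obtain ⟨-, h2⟩ := hn _ h1
          refine ⟨by simpa using h1, ?_⟩
          simp only [mul_assoc, inv_mul_cancel, inv_mul_cancel_left, mul_one] at h2
          rw [inv_inv]
          simpa [mul_assoc] using h2.symm
      obtain ⟨h1, h2⟩ := hxall b (hDU hb)
      have hle : cj x⁻¹ D ≤ (P : Subgroup G) := fun w hw => by
        have hw' : x * w * x⁻¹ ∈ U := hDU (by simpa [mul_assoc] using mem_cj.1 hw)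
        have := (hxall _ hw').1
        exact hU.1.le (by simpa [mul_assoc] using this)
      have hmem : x⁻¹ * b * x ∈ cj x⁻¹ D := by simpa using conj_mem_cj (g := x⁻¹) hb
      obtain ⟨h3, h4⟩ := ih hle _ hmem
      have e : (x * X)⁻¹ * b * (x * X) = X⁻¹ * (x⁻¹ * b * x) * X := by group
      rw [e]
      exact ⟨h3, h4.trans h2⟩
  obtain ⟨h1, h2⟩ := hchain _ X hX hD a (mem_zpowers a)
  have e : g * a * g⁻¹ = y⁻¹ * (X⁻¹ * a * X) * y⁻¹⁻¹ := by
    have hca : c⁻¹ * a * c = a := by
      rw [mul_assoc, mem_centralizer_iff.1 hc a (mem_zpowers a), inv_mul_cancel_left]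
    have hg' : g = (c * X * y)⁻¹ := by rw [← hgeq, inv_inv]
    rw [hg']
    calc (c * X * y)⁻¹ * a * (c * X * y)⁻¹⁻¹ = y⁻¹ * X⁻¹ * (c⁻¹ * a * c) * X * y := by group
      _ = _ := by rw [hca]; group
  rw [e, hN _ (inv_mem hy) _ h1, h2]

/-- A nontrivial sign character of `P` invariant under fusion gives a normal subgroup of index two. -/
theorem exists_index_two (P : Sylow 2 G) (Q : Subgroup G) (hQ : Q.relIndex (P : Subgroup G) = 2)
    (hinv : ∀ a ∈ (P : Subgroup G), ∀ g : G, g * a * g⁻¹ ∈ (P : Subgroup G) →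
      (g * a * g⁻¹ ∈ Q ↔ a ∈ Q)) :
    ∃ M : Subgroup G, M.Normal ∧ M.index = 2 := by
  classical
  obtain ⟨u, huP, huQ⟩ : ∃ u ∈ (P : Subgroup G), u ∉ Q := by
    by_contra hcon
    push Not at hcon
    have : Q.relIndex (P : Subgroup G) = 1 := relIndex_eq_one.2 hcon
    omega
  obtain ⟨M, hM, hM2, -⟩ := CfsgLib.TwoFusion.FusionTools.exists_index_two_of_parity (P : Subgroup G) Q
    (CfsgLib.TwoFusion.FusionTools.sylow_index_odd P) hQ u fun k g hg => by
      have h1 : g⁻¹ * u ^ k * g⁻¹⁻¹ ∈ Q ↔ u ^ k ∈ Q :=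
        hinv _ (pow_mem huP k) g⁻¹ (by simpa using hg)
      rw [inv_inv] at h1
      rw [h1]
      have hidx : (Q.subgroupOf (P : Subgroup G)).index = 2 := hQ
      induction k with
      | zero => simp [one_mem]
      | succ k ih =>
        have := Subgroup.mul_mem_iff_of_index_two hidx (a := (⟨u, huP⟩ : (P : Subgroup G)) ^ k)
          (b := ⟨u, huP⟩)
        simp only [mem_subgroupOf, Subgroup.coe_mul, Subgroup.coe_pow] at this
        rw [pow_succ, this, Nat.even_add_one]
        have hih : u ^ k ∈ Q ↔ Even k := by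
          clear * - huP huQ hidx
          induction k with
          | zero => simp [one_mem]
          | succ k ih =>
            have := Subgroup.mul_mem_iff_of_index_two hidx (a := (⟨u, huP⟩ : (P : Subgroup G)) ^ k)
              (b := ⟨u, huP⟩)
            simp only [mem_subgroupOf, Subgroup.coe_mul, Subgroup.coe_pow] at this
            rw [pow_succ, this, Nat.even_add_one, ih]
            simp [huQ]
        rw [hih]
        simp [huQ]
  exact ⟨M, hM, hM2⟩

/-- An element normalizing `P` is an element of odd order times an element of `P`. -/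
theorem exists_odd_part (P : Sylow 2 G) {y : G} (hy : y ∈ normalizer ((P : Subgroup G) : Set G)) :
    ∃ n ∈ normalizer ((P : Subgroup G) : Set G), Odd (orderOf n) ∧ ∃ s ∈ (P : Subgroup G), y = n * s := by
  haveI : Fact (Nat.Prime 2) := ⟨Nat.prime_two⟩
  set o := orderOf y with ho
  set a := 2 ^ o.factorization 2 with ha
  set b := o / a with hb
  have hab : a * b = o := Nat.ordProj_mul_ordCompl_eq_self o 2
  clear_value o
  have hodd : Odd b := by
    rw [hb, ha, Nat.odd_iff]
    have := Nat.not_dvd_ordCompl Nat.prime_two (orderOf_pos y).ne'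
    rw [← ho] at this
    omega
  have hcop : Nat.Coprime a b := (Nat.coprime_two_left.2 hodd).pow_left _
  refine ⟨y ^ ((a : ℤ) * Nat.gcdA a b), zpow_mem hy _, ?_, y ^ ((b : ℤ) * Nat.gcdB a b), ?_, ?_⟩
  · refine Odd.of_dvd_nat hodd (orderOf_dvd_of_pow_eq_one ?_)
    rw [← zpow_natCast, ← zpow_mul,
      show (a : ℤ) * Nat.gcdA a b * b = (o : ℤ) * Nat.gcdA a b by rw [← hab]; push_cast; ring,
      zpow_mul, zpow_natCast, ho, pow_orderOf_eq_one, one_zpow]
  · have hp : IsPGroup 2 ↥(zpowers (y ^ ((b : ℤ) * Nat.gcdB a b))) := by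
      have hd : orderOf (y ^ ((b : ℤ) * Nat.gcdB a b)) ∣ a := orderOf_dvd_of_pow_eq_one (by
        rw [← zpow_natCast, ← zpow_mul,
          show (b : ℤ) * Nat.gcdB a b * a = (o : ℤ) * Nat.gcdB a b by rw [← hab]; push_cast; ring,
          zpow_mul, zpow_natCast, ho, pow_orderOf_eq_one, one_zpow])
      obtain ⟨k, -, hk⟩ := (Nat.dvd_prime_pow Nat.prime_two).1 hd
      exact IsPGroup.of_card (n := k) (by rw [Nat.card_zpowers, hk])
    have hsup := P.is_maximal' (Q := zpowers (y ^ ((b : ℤ) * Nat.gcdB a b)) ⊔ (P : Subgroup G))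
      (hp.to_sup_of_normal_right' P.isPGroup' (zpowers_le.2 (zpow_mem hy _))) le_sup_right
    exact hsup ▸ mem_sup_left (mem_zpowers _)
  · rw [← zpow_add, ← Nat.gcd_eq_gcd_ab, hcop.gcd_eq_one, Nat.cast_one, zpow_one]

/-- Central elements of `P` conjugate in `G` are conjugate in the normalizer of `P`. -/
theorem central_conj (P : Sylow 2 G) {a b g : G} (hga : g * a * g⁻¹ = b)
    (ha : ∀ s ∈ (P : Subgroup G), s * a = a * s) (hb : ∀ s ∈ (P : Subgroup G), s * b = b * s) :
    ∃ n ∈ normalizer ((P : Subgroup G) : Set G), n * a * n⁻¹ = b := by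
  haveI : Fact (Nat.Prime 2) := ⟨Nat.prime_two⟩
  obtain ⟨n, hn, hne⟩ := P.conj_eq_normalizer_conj_of_mem_centralizer a g⁻¹
    (mem_centralizer_iff.2 ha) (by rw [inv_inv, hga]; exact mem_centralizer_iff.2 hb)
  refine ⟨n⁻¹, inv_mem hn, ?_⟩
  rw [inv_inv] at hne ⊢
  rw [← hne, hga]

/-- With a strongly embedded subgroup all involutions are conjugate. -/
theorem isConj_of_classicalSE {Q : Type*} [Group Q] [Finite Q] {H : Subgroup Q} (hH : H ≠ ⊤)
    (hse : ∀ g : Q, g ∉ H → ¬ 2 ∣ Nat.card ↥(H ⊓ H.map (MulAut.conj g).toMonoidHom))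
    {s t : Q} (hs : s ∈ H) (ht : t ∈ H) (hs2 : orderOf s = 2) (ht2 : orderOf t = 2) : IsConj s t := by
  haveI : Fact (Nat.Prime 2) := ⟨Nat.prime_two⟩
  have hcent : ∀ x ∈ H, orderOf x = 2 → ∀ y : Q, Commute y x → y ∈ H := by
    intro x hx hx2 y hy
    refine CfsgLib.LocEven.classicalSE_normalizer_le hse (zpowers_le.2 hx)
      (by rw [Nat.card_zpowers, hx2]) ?_
    have hc : y ∈ centralizer ((zpowers x : Subgroup Q) : Set Q) := mem_centralizer_iff.2 fun z hz => by
      obtain ⟨k, rfl⟩ := mem_zpowers_iff.1 hz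
      exact ((hy.zpow_right k).eq).symm
    exact centralizer_le_normalizer _ hc
  have hkey : ∀ x ∈ H, orderOf x = 2 → ∀ u : Q, u ∉ H → orderOf u = 2 → IsConj x u := by
    intro x hx hx2 u hu hu2
    rcases Nat.even_or_odd (orderOf (x * u)) with he | ho
    · exfalso
      set d := orderOf (x * u) with hd
      set w := (x * u) ^ (d / 2) with hw
      have hdpos : 0 < d := orderOf_pos _
      obtain ⟨e, he⟩ := he
      have hw2 : orderOf w = 2 := by
        rw [hw, show d / 2 = e by omega,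
          orderOf_pow_of_dvd (by omega) (⟨2, by omega⟩ : e ∣ orderOf (x * u)), ← hd, he]
        rw [← two_mul, Nat.mul_div_cancel _ (by omega)]
      have hxx : x * x = 1 := by rw [← pow_two, ← hx2]; exact pow_orderOf_eq_one x
      have huu : u * u = 1 := by rw [← pow_two, ← hu2]; exact pow_orderOf_eq_one u
      have hww : w⁻¹ = w := inv_eq_of_mul_eq_one_right (by
        rw [← pow_two, ← hw2]; exact pow_orderOf_eq_one w)
      have hxi : x⁻¹ = x := inv_eq_of_mul_eq_one_right hxx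
      have hui : u⁻¹ = u := inv_eq_of_mul_eq_one_right huu
      have hconx : x * (x * u) * x⁻¹ = (x * u)⁻¹ := by
        rw [hxi, mul_inv_rev, hxi, hui, ← mul_assoc x x u, hxx, one_mul]
      have hconu : u * (x * u) * u⁻¹ = (x * u)⁻¹ := by
        rw [mul_inv_rev, hui, hxi, mul_assoc, mul_assoc x, huu, mul_one]
      have hcx : Commute w x := by
        have h := congrArg (· ^ (d / 2)) hconx
        simp only [conj_pow, inv_pow, ← hw, hww] at h
        exact (mul_inv_eq_iff_eq_mul.1 h).symm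
      have hcu : Commute u w := by
        have h := congrArg (· ^ (d / 2)) hconu
        simp only [conj_pow, inv_pow, ← hw, hww] at h
        exact mul_inv_eq_iff_eq_mul.1 h
      exact hu (hcent w (hcent x hx hx2 w hcx) hw2 u hcu)
    · exact CfsgLib.Invol.isConj_of_odd (by rw [← pow_two, ← hx2]; exact pow_orderOf_eq_one x) (by rw [← pow_two, ← hu2]; exact pow_orderOf_eq_one u) ho
  obtain ⟨g, hg⟩ : ∃ g, g ∉ H := by
    by_contra hcon
    push Not at hcon
    exact hH (eq_top_iff.2 fun g _ => hcon g)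
  have hu : g * s * g⁻¹ ∉ H := by
    intro hmem
    refine hse g hg ?_
    have h1 : zpowers (g * s * g⁻¹) ≤ H ⊓ H.map (MulAut.conj g).toMonoidHom :=
      zpowers_le.2 ⟨hmem, ⟨s, hs, by simp⟩⟩
    refine dvd_trans ?_ (Subgroup.card_dvd_of_le h1)
    rw [Nat.card_zpowers, CfsgLib.Invol.orderOf_conj, hs2]
  have hsu : IsConj s (g * s * g⁻¹) := isConj_iff.2 ⟨g, rfl⟩
  exact hsu.trans (hkey t ht ht2 _ hu (by rw [CfsgLib.Invol.orderOf_conj, hs2])).symm

end CfsgLib.DihTimesDih
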