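import Cfsg.Agent.Lib.DihTimesDih.Local

/-!
Both factors dihedral of order at least eight: fusion of the central involutions, members of the
conjugation family, and the normalizing elements coming from a fused reflection.
-/

set_option autoImplicit false
set_option linter.unusedSectionVars false

open Subgroup CfsgLib.ConjFunctor CfsgLib.LocEven.StrongAlperin
open scoped Classical

namespace CfsgLib.DihTimesDih

variable {G : Type*} [Group G]

/-- A Sylow 2-subgroup with two dihedral direct factors. -/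
structure Pair (G : Type*) [Group G] where
  S : Sylow 2 G
  A : Subgroup G
  B : Subgroup G
  dA : Dih A
  dB : Dih B
  hp : Cfsg.IsInternalDirectProduct A B (S : Subgroup G)

theorem internal_symm {A B C : Subgroup G} (h : Cfsg.IsInternalDirectProduct A B C) :
    Cfsg.IsInternalDirectProduct B A C :=
  ⟨h.2.1, h.1, fun b hb a ha => (h.2.2.1 a ha b hb).symm, by rw [inf_comm]; exact h.2.2.2.1,
    by rw [sup_comm]; exact h.2.2.2.2⟩

namespace Pair

variable (E : Pair G)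

/-- The factors in the other order. -/
def swap : Pair G := ⟨E.S, E.B, E.A, E.dB, E.dA, internal_symm E.hp⟩

/-- A central involution of the Sylow subgroup, or the identity. -/
def Cen (w : G) : Prop :=
  w ∈ (E.S : Subgroup G) ∧ w * w = 1 ∧ ∀ s ∈ (E.S : Subgroup G), s * w = w * s

theorem hc {a b : G} (ha : a ∈ E.A) (hb : b ∈ E.B) : a * b = b * a := E.hp.2.2.1 a ha b hb

theorem isP : IsPGroup 2 (E.S : Subgroup G) := E.S.isPGroup'

theorem sq_mul {a b : G} (ha : a ∈ E.A) (hb : b ∈ E.B) : (a * b) * (a * b) = (a * a) * (b * b) :=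
  mul_sq_of_commute (E.hc ha hb)

theorem sq_one {a b : G} (ha : a ∈ E.A) (hb : b ∈ E.B) (h : (a * b) * (a * b) = 1) :
    a * a = 1 ∧ b * b = 1 := by
  rw [E.sq_mul ha hb] at h
  exact split_unique E.hp.2.2.2.1 (mul_mem ha ha) (one_mem _) (mul_mem hb hb) (one_mem _)
    (by rw [h, one_mul])

theorem comm_split {a b a' b' : G} (ha : a ∈ E.A) (hb : b ∈ E.B) (ha' : a' ∈ E.A) (hb' : b' ∈ E.B)
    (h : (a * b) * (a' * b') = (a' * b') * (a * b)) : a * a' = a' * a ∧ b * b' = b' * b := by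
  refine split_unique E.hp.2.2.2.1 (mul_mem ha ha') (mul_mem ha' ha) (mul_mem hb hb')
    (mul_mem hb' hb) ?_
  calc a * a' * (b * b') = a * (a' * b) * b' := by group
    _ = a * b * (a' * b') := by rw [E.hc ha' hb]; group
    _ = a' * b' * (a * b) := h
    _ = a' * (b' * a) * b := by group
    _ = _ := by rw [← E.hc ha hb']; group

theorem comm_mul {a b a' b' : G} (ha : a ∈ E.A) (hb : b ∈ E.B) (ha' : a' ∈ E.A) (hb' : b' ∈ E.B)
    (h : a * a' = a' * a) (h' : b * b' = b' * b) : (a * b) * (a' * b') = (a' * b') * (a * b) := by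
  calc a * b * (a' * b') = a * (b * a') * b' := by group
    _ = (a * a') * (b * b') := by rw [← E.hc ha' hb]; group
    _ = (a' * a) * (b' * b) := by rw [h, h']
    _ = a' * (a * b') * b := by group
    _ = _ := by rw [E.hc ha hb']; group

theorem cen_one : E.Cen 1 := ⟨one_mem _, one_mul 1, fun s _ => by simp⟩

theorem cen_zA : E.Cen E.dA.z := by
  refine ⟨E.hp.1 E.dA.hzD, E.dA.hzz, fun s hs => ?_⟩
  obtain ⟨a, ha, b, hb, rfl⟩ := exists_split E.hp hs
  calc a * b * E.dA.z = a * (b * E.dA.z) := by group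
    _ = a * E.dA.z * b := by rw [← E.hc E.dA.hzD hb]; group
    _ = _ := by rw [E.dA.hzc a ha]; group

theorem cen_zB : E.Cen E.dB.z := E.swap.cen_zA

theorem cen_mul {v w : G} (hv : E.Cen v) (hw : E.Cen w) : E.Cen (v * w) := by
  refine ⟨mul_mem hv.1 hw.1, ?_, fun s hs => ?_⟩
  · rw [mul_sq_of_commute (hw.2.2 v hv.1), hv.2.1, hw.2.1, one_mul]
  · rw [← mul_assoc, hv.2.2 s hs, mul_assoc, hw.2.2 s hs, ← mul_assoc]

theorem cen_z3 : E.Cen (E.dA.z * E.dB.z) := E.cen_mul E.cen_zA E.cen_zB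

theorem cen_cases {w : G} (h : E.Cen w) :
    w = 1 ∨ w = E.dA.z ∨ w = E.dB.z ∨ w = E.dA.z * E.dB.z := by
  obtain ⟨hw, hww, hc⟩ := h
  obtain ⟨a, ha, b, hb, rfl⟩ := exists_split E.hp hw
  obtain ⟨haa, hbb⟩ := E.sq_one ha hb hww
  obtain ⟨h1, h2⟩ := E.comm_split E.dA.hqD E.dB.hqD ha hb
    (hc _ (mul_mem (E.hp.1 E.dA.hqD) (E.hp.2.1 E.dB.hqD)))
  rcases E.dA.hRinv a (E.dA.cent_q ha h1.symm) haa with rfl | rfl <;>
    rcases E.dB.hRinv b (E.dB.cent_q hb h2.symm) hbb with rfl | rfl <;> simp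

theorem z3_ne_zA : E.dA.z * E.dB.z ≠ E.dA.z := by
  rw [Ne, mul_eq_left]; exact E.dB.hz1

theorem zA_ne_zB : E.dA.z ≠ E.dB.z := fun h => E.dA.hz1 <| by
  rw [← Subgroup.mem_bot, ← E.hp.2.2.2.1]
  exact ⟨E.dA.hzD, h ▸ E.dB.hzD⟩

theorem z3_ne_one : E.dA.z * E.dB.z ≠ 1 := fun h => E.zA_ne_zB <| by
  rw [eq_inv_of_mul_eq_one_left h, E.dB.z_inv]

variable [Finite G]

/-- Central involutions are not moved by conjugation inside the centre. -/
theorem conj_eq (g : G) {w : G} (hw : E.Cen w) (hg : E.Cen (g * w * g⁻¹)) : g * w * g⁻¹ = w := by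
  haveI : Fact (Nat.Prime 2) := ⟨Nat.prime_two⟩
  suffices hN : ∀ n ∈ normalizer ((E.S : Subgroup G) : Set G), ∀ w, E.Cen w → n * w * n⁻¹ = w by
    obtain ⟨n, hn, he⟩ := central_conj E.S (g := g) rfl hw.2.2 hg.2.2
    rw [← he]; exact hN n hn w hw
  intro n hn
  have hcen : ∀ m ∈ normalizer ((E.S : Subgroup G) : Set G), ∀ w, E.Cen w → E.Cen (m * w * m⁻¹) := by
    rintro m hm w ⟨hw, hww, hwc⟩
    refine ⟨(mem_normalizer_iff.1 hm w).1 hw, by rw [conj_mul, hww]; group, fun s hs => ?_⟩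
    have := hwc _ ((mem_normalizer_iff''.1 hm s).1 hs)
    calc s * (m * w * m⁻¹) = m * (m⁻¹ * s * m * w) * m⁻¹ := by group
      _ = _ := by rw [this]; group
  -- the product of the central involutions is fixed: its square roots commute
  have hz3 : ∀ m ∈ normalizer ((E.S : Subgroup G) : Set G),
      m * (E.dA.z * E.dB.z) * m⁻¹ = E.dA.z * E.dB.z := by
    intro m hm
    have key : ∀ F : Pair G, F.S = E.S → m * (E.dA.z * E.dB.z) * m⁻¹ = F.dA.z →
        F.dA.z * F.dB.z = E.dA.z * E.dB.z → False := by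
      intro F hFS he _
      have hroots : ∀ u ∈ (E.S : Subgroup G), u * u = E.dA.z * E.dB.z →
          ∀ v ∈ (E.S : Subgroup G), v * v = E.dA.z * E.dB.z → u * v = v * u := by
        intro u hu hu2 v hv hv2
        obtain ⟨a, ha, b, hb, rfl⟩ := exists_split E.hp hu
        obtain ⟨a', ha', b', hb', rfl⟩ := exists_split E.hp hv
        rw [E.sq_mul ha hb] at hu2
        rw [E.sq_mul ha' hb'] at hv2
        obtain ⟨h1, h2⟩ := split_unique E.hp.2.2.2.1 (mul_mem ha ha) E.dA.hzD (mul_mem hb hb)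
          E.dB.hzD hu2
        obtain ⟨h3, h4⟩ := split_unique E.hp.2.2.2.1 (mul_mem ha' ha') E.dA.hzD (mul_mem hb' hb')
          E.dB.hzD hv2
        have hR : ∀ {D : Subgroup G} (d : Dih D) {x : G}, x ∈ D → x * x = d.z → x ∈ d.R :=
          fun d x hx h => d.mem_R_of_sq hx (by rw [h]; exact d.hz1)
        exact E.comm_mul ha hb ha' hb' (E.dA.hRcomm _ (hR E.dA ha h1) _ (hR E.dA ha' h3))
          (E.dB.hRcomm _ (hR E.dB hb h2) _ (hR E.dB hb' h4))
      have hqr : ∀ r ∈ F.B, r ∉ F.dB.R → m⁻¹ * (F.dA.q * r) * m ∈ (E.S : Subgroup G) ∧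
          (m⁻¹ * (F.dA.q * r) * m) * (m⁻¹ * (F.dA.q * r) * m) = E.dA.z * E.dB.z := by
        intro r hr hrR
        refine ⟨(mem_normalizer_iff''.1 hm _).1 (hFS ▸ mul_mem (F.hp.1 F.dA.hqD) (F.hp.2.1 hr)), ?_⟩
        calc m⁻¹ * (F.dA.q * r) * m * (m⁻¹ * (F.dA.q * r) * m)
            = m⁻¹ * ((F.dA.q * r) * (F.dA.q * r)) * m := by group
          _ = _ := by rw [F.sq_mul F.dA.hqD hr, F.dA.hqq, F.dB.refl r hr hrR, mul_one, ← he]; group
      obtain ⟨ha, ha2⟩ := hqr _ F.dB.hr₀.1 F.dB.hr₀.2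
      obtain ⟨hb, hb2⟩ := hqr _ F.dB.hr₁.1 F.dB.hr₁.2
      have hcm := hroots _ ha ha2 _ hb hb2
      have hcm' : F.dA.q * F.dB.r₀ * (F.dA.q * F.dB.r₁) = F.dA.q * F.dB.r₁ * (F.dA.q * F.dB.r₀) := by
        have := congrArg (fun x => m * x * m⁻¹) hcm
        simpa [mul_assoc] using this
      have h := (F.comm_split F.dA.hqD F.dB.hr₀.1 F.dA.hqD F.dB.hr₁.1 hcm').2
      rcases F.dB.cent_refl F.dB.hr₀.1 F.dB.hr₀.2 F.dB.hr₁.1 h.symm with h1 | h1 | h1 | h1
      · exact (F.dB.refl_ne F.dB.hr₁.2).1 h1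
      · exact (F.dB.refl_ne F.dB.hr₁.2).2 h1
      · exact F.dB.r₁K₁ (h1 ▸ F.dB.r₀K₁)
      · exact F.dB.r₁K₁ (h1 ▸ mul_mem F.dB.r₀K₁ F.dB.zK₁)
    rcases E.cen_cases (hcen m hm _ E.cen_z3) with h | h | h | h
    · rw [mul_inv_eq_one, mul_eq_left] at h
      exact absurd h E.z3_ne_one
    · exact (key E rfl h rfl).elim
    · exact (key E.swap rfl h (E.hc E.dA.hzD E.dB.hzD).symm).elim
    · exact h
  obtain ⟨k, hk, hodd, s, hs, rfl⟩ := exists_odd_part E.S hn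
  suffices h : ∀ w, E.Cen w → k * w * k⁻¹ = w by
    intro w hw
    have hs' : s * w * s⁻¹ = w := by rw [hw.2.2 s hs, mul_inv_cancel_right]
    calc k * s * w * (k * s)⁻¹ = k * (s * w * s⁻¹) * k⁻¹ := by group
      _ = w := by rw [hs', h w hw]
  have hA : k * E.dA.z * k⁻¹ = E.dA.z := by
    rcases E.cen_cases (hcen k hk _ E.cen_zA) with h | h | h | h
    · rw [mul_inv_eq_one, mul_eq_left] at h; exact absurd h E.dA.hz1
    · exact h
    · exfalso
      have hB : k * E.dB.z * k⁻¹ = E.dA.z := by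
        have h3 := hz3 k hk
        rw [← conj_mul, h] at h3
        have h4 : k * E.dB.z * k⁻¹ = E.dB.z * (E.dA.z * E.dB.z) := by
          rw [← h3, ← mul_assoc, E.dB.hzz, one_mul]
        rw [h4, ← mul_assoc, ← E.hc E.dA.hzD E.dB.hzD, mul_assoc, E.dB.hzz, mul_one]
      have h2 : ∀ j : ℕ, (k * k) ^ j * E.dA.z * ((k * k) ^ j)⁻¹ = E.dA.z := by
        intro j
        induction j with
        | zero => simp
        | succ j ih =>
          calc (k * k) ^ (j + 1) * E.dA.z * ((k * k) ^ (j + 1))⁻¹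
              = (k * k) ^ j * (k * (k * E.dA.z * k⁻¹) * k⁻¹) * ((k * k) ^ j)⁻¹ := by
                rw [pow_succ]; group
            _ = E.dA.z := by rw [h, hB, ih]
      obtain ⟨j, hj⟩ := hodd
      have h5 : (k * k) ^ (j + 1) = k := by
        rw [← pow_two, ← pow_mul, show 2 * (j + 1) = orderOf k + 1 by omega, pow_succ,
          pow_orderOf_eq_one, one_mul]
      have h6 := h2 (j + 1)
      rw [h5, h] at h6
      exact E.zA_ne_zB h6.symm
    · exfalso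
      have h3 := hz3 k hk
      have h4 := h3.trans h.symm
      exact E.z3_ne_zA (mul_left_cancel (mul_right_cancel h4))
  have hB : k * E.dB.z * k⁻¹ = E.dB.z := by
    have h3 := hz3 k hk
    rw [← conj_mul, hA] at h3
    exact mul_left_cancel h3
  intro w hw
  rcases E.cen_cases hw with rfl | rfl | rfl | rfl
  · simp
  · exact hA
  · exact hB
  · exact hz3 k hk

theorem not_isConj {v w : G} (hv : E.Cen v) (hw : E.Cen w) (hne : v ≠ w) : ¬ IsConj v w := by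
  intro h
  obtain ⟨g, hg⟩ := isConj_iff.1 h
  exact hne (by rw [← hg, E.conj_eq g hv (hg ▸ hw)])

theorem norm_fix {y : G} (hy : y ∈ normalizer ((E.S : Subgroup G) : Set G)) {w : G} (hw : E.Cen w) :
    y * w * y⁻¹ = w := by
  refine E.conj_eq y hw ⟨(mem_normalizer_iff.1 hy w).1 hw.1, ?_, fun s hs => ?_⟩
  · rw [conj_mul, hw.2.1]; group
  · have := hw.2.2 _ ((mem_normalizer_iff''.1 hy s).1 hs)
    calc s * (y * w * y⁻¹) = y * (y⁻¹ * s * y * w) * y⁻¹ := by group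
      _ = _ := by rw [this]; group

/-- An element normalizing the Sylow subgroup acts on it as an element of it. -/
theorem norm_inner {y : G} (hy : y ∈ normalizer ((E.S : Subgroup G) : Set G)) :
    ∃ s ∈ (E.S : Subgroup G), ∀ t ∈ (E.S : Subgroup G), y * t * y⁻¹ = s * t * s⁻¹ := by
  obtain ⟨k, hk, hodd, s, hs, rfl⟩ := exists_odd_part E.S hy
  refine ⟨s, hs, fun t ht => ?_⟩
  have hfix := fix_involutions_centralizes E.dA E.dB E.hp E.isP le_rfl
    (mul_mem (E.hp.1 E.dA.hqD) (E.hp.2.1 E.dB.hqD)) hk hodd (E.norm_fix hk E.cen_zA)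
    (E.norm_fix hk E.cen_zB) (s * t * s⁻¹) (mul_mem (mul_mem hs ht) (inv_mem hs))
  calc k * s * t * (k * s)⁻¹ = k * (s * t * s⁻¹) * k⁻¹ := by group
    _ = _ := hfix

/-- The four-group of a reflection. -/
def four (r : G) : Set G := {1, E.dA.z, r, r * E.dA.z}

theorem four_mem {r v : G} (hr : r ∈ E.A) (hv : v ∈ E.four r) : v ∈ E.A := by
  rcases hv with rfl | rfl | rfl | rfl
  exacts [one_mem _, E.dA.hzD, hr, mul_mem hr E.dA.hzD]

theorem four_sq {r v : G} (hr : r ∈ E.A) (hrR : r ∉ E.dA.R) (hv : v ∈ E.four r) : v * v = 1 := by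
  rcases hv with rfl | rfl | rfl | rfl
  · exact one_mul 1
  · exact E.dA.hzz
  · exact E.dA.refl _ hr hrR
  · rw [mul_sq_of_commute (E.dA.hzc r hr), E.dA.refl r hr hrR, E.dA.hzz, one_mul]

theorem four_q {r v : G} (hr : r ∈ E.A) (hrR : r ∉ E.dA.R) (hv : v ∈ E.four r) :
    E.dA.q * v * E.dA.q⁻¹ = v ∨ E.dA.q * v * E.dA.q⁻¹ = v * E.dA.z := by
  have hz : E.dA.q * E.dA.z * E.dA.q⁻¹ = E.dA.z := by
    rw [E.dA.hzc _ E.dA.hqD, mul_inv_cancel_right]
  rcases hv with rfl | rfl | rfl | rfl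
  · exact Or.inl (by simp)
  · exact Or.inl hz
  · exact Or.inr (E.dA.q_conj_refl hr hrR)
  · exact Or.inr (by rw [← conj_mul, hz, E.dA.q_conj_refl hr hrR])

/-- The members that matter: `U = ⟨r, z⟩ × B`. -/
def Side (U : Subgroup G) : Prop :=
  ∃ r ∈ E.A, r ∉ E.dA.R ∧ ∀ u : G, u ∈ U ↔ ∃ v ∈ E.four r, ∃ b ∈ E.B, v * b = u

theorem exists_side {U : Subgroup G} (hF : Fam 2 (E.S : Subgroup G) U) {r : G} (hr : r ∈ E.A)
    (hrR : r ∉ E.dA.R) (hrU : r ∈ U)
    (hcoord : ∀ a ∈ E.A, ∀ b ∈ E.B, a * b ∈ U → a ∈ E.four r)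
    {n : G} (hn : n ∈ normalizer (U : Set G)) :
    (∀ u ∈ U, n * u * n⁻¹ = u) ∨ E.Side U := by
  haveI : Fact (Nat.Prime 2) := ⟨Nat.prime_two⟩
  obtain ⟨hcen, -⟩ := fam_props E.S hF
  have hzU : ∀ w, E.Cen w → w ∈ U := fun w hw =>
    hcen ⟨hw.1, mem_centralizer_iff.2 fun u hu => hw.2.2 u (hF.1.le hu)⟩
  have hVU : ∀ v ∈ E.four r, v ∈ U := by
    intro v hv
    rcases hv with rfl | rfl | rfl | rfl
    exacts [one_mem _, hzU _ E.cen_zA, hrU, mul_mem hrU (hzU _ E.cen_zA)]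
  let V : Subgroup G :=
    { carrier := {v | v ∈ E.A ∧ v ∈ U}
      one_mem' := ⟨one_mem _, one_mem _⟩
      mul_mem' := fun ha hb => ⟨mul_mem ha.1 hb.1, mul_mem ha.2 hb.2⟩
      inv_mem' := fun ha => ⟨inv_mem ha.1, inv_mem ha.2⟩ }
  have hV4 : ∀ v ∈ V, v ∈ E.four r := fun v hv =>
    hcoord v hv.1 1 (one_mem _) (by rw [mul_one]; exact hv.2)
  have hFT : FourTimes E.A E.B U V := by
    refine ⟨fun v hv => hv.1, fun v hv => hv.2, fun v hv => E.four_sq hr hrR (hV4 v hv),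
      fun u hu => ?_⟩
    obtain ⟨a, ha, b, hb, rfl⟩ := exists_split E.hp (hF.1.le hu)
    have haU := hVU a (hcoord a ha b hb hu)
    refine ⟨a, ⟨ha, haU⟩, b, hb, ?_, rfl⟩
    have := mul_mem (inv_mem haU) hu
    simpa using this
  by_cases hx : ∃ u ∈ U, u * u ≠ 1
  · have hB := hFT.right_le E.hp E.dB E.S rfl hF (hzU _ E.cen_zB) hx
    refine Or.inr ⟨r, hr, hrR, fun u => ⟨fun hu => ?_, ?_⟩⟩
    · obtain ⟨v, hv, b, hb, -, he⟩ := hFT.split u hu
      exact ⟨v, hV4 v hv, b, hb, he⟩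
    · rintro ⟨v, hv, b, hb, rfl⟩
      exact mul_mem (hVU v hv) (hB hb)
  -- an elementary member does not occur
  exfalso
  push Not at hx
  have hUc : ∀ a ∈ U, ∀ b ∈ U, a * b = b * a := by
    intro a ha b hb
    have h1 := hx _ (mul_mem ha hb)
    calc a * b = a * (a * b * (a * b)) * b := by rw [h1, mul_one]
      _ = (a * a) * (b * a) * (b * b) := by group
      _ = b * a := by rw [hx a ha, hx b hb, one_mul, mul_one]
  have hqB : E.dB.q ∉ U := fun h => E.dB.q_ne (hx _ h)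
  obtain ⟨r', hr', hr'R, hr'U⟩ : ∃ r' ∈ E.B, r' ∉ E.dB.R ∧ r' ∈ U := by
    by_contra hcon
    push Not at hcon
    refine hqB (hcen ⟨E.hp.2.1 E.dB.hqD, mem_centralizer_iff.2 fun u hu => ?_⟩)
    obtain ⟨v, hv, b, hb, hbU, rfl⟩ := hFT.split u hu
    have hbR : b ∈ E.dB.R := by_contra fun h => hcon b hb h hbU
    rw [mul_assoc, E.dB.hRcomm b hbR _ E.dB.hqR, ← mul_assoc, E.hc hv.1 E.dB.hqD, mul_assoc]
  have hqA : ∀ u ∈ U, E.dA.q * u * E.dA.q⁻¹ = u ∨ E.dA.q * u * E.dA.q⁻¹ = u * E.dA.z := by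
    intro u hu
    obtain ⟨v, hv, b, hb, -, rfl⟩ := hFT.split u hu
    have hqb : E.dA.q * b * E.dA.q⁻¹ = b := by rw [E.hc E.dA.hqD hb, mul_inv_cancel_right]
    rcases E.four_q hr hrR (hV4 v hv) with h | h
    · exact Or.inl (by rw [← conj_mul, h, hqb])
    · refine Or.inr ?_
      rw [← conj_mul, h, hqb, mul_assoc, E.hc E.dA.hzD hb, ← mul_assoc]
  have hqBact : ∀ u ∈ U, E.dB.q * u * E.dB.q⁻¹ = u ∨ E.dB.q * u * E.dB.q⁻¹ = u * E.dB.z := by
    intro u hu
    obtain ⟨v, hv, b, hb, hbU, rfl⟩ := hFT.split u hu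
    have hqv : E.dB.q * v * E.dB.q⁻¹ = v := by
      rw [← E.hc hv.1 E.dB.hqD, mul_inv_cancel_right]
    rcases E.dB.cent_refl hr' hr'R hb (hUc b hbU r' hr'U) with h | h | h | h
    · exact Or.inl (by rw [h, mul_one, hqv])
    · exact Or.inl (by rw [← conj_mul, hqv, h, E.dB.hzc _ E.dB.hqD, mul_inv_cancel_right])
    · exact Or.inr (by rw [← conj_mul, hqv, h, E.dB.q_conj_refl hr' hr'R, ← mul_assoc])
    · refine Or.inr ?_
      rw [← conj_mul, hqv, h, ← conj_mul, E.dB.q_conj_refl hr' hr'R,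
        E.dB.hzc _ E.dB.hqD, mul_inv_cancel_right]
      group
  have hnorm : ∀ {x z : G}, z ∈ U → (∀ u ∈ U, x * u * x⁻¹ = u ∨ x * u * x⁻¹ = u * z) →
      x ∈ normalizer (U : Set G) := by
    intro x z hz h
    apply CfsgLib.TwoFusion.ConjUtil.mem_normalizer_of_conj_mem
    intro u hu
    rcases h u hu with e | e <;> rw [e]
    exacts [hu, mul_mem hu hz]
  have hqAN := hnorm (hzU _ E.cen_zA) hqA
  have hqBN := hnorm (hzU _ E.cen_zB) hqBact
  haveI : (U.subgroupOf (normalizer (U : Set G))).Normal := normal_in_normalizer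
  obtain ⟨H, hH, hpH, hse⟩ := exists_classicalSE E.S hF _ rfl
  set π := QuotientGroup.mk' (U.subgroupOf (normalizer (U : Set G))) with hπ
  set s := π ⟨E.dA.q, hqAN⟩ with hs
  set t := π ⟨E.dA.q * E.dB.q, mul_mem hqAN hqBN⟩ with ht
  have hinv : ∀ (x : ↥(normalizer (U : Set G))), (x : G) ∉ U → (x : G) * x ∈ U → orderOf (π x) = 2 := by
    intro x hx1 hx2
    refine orderOf_eq_prime ?_ fun h => hx1 ?_
    · rw [pow_two, ← map_mul]
      exact (QuotientGroup.eq_one_iff _).2 hx2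
    · exact mem_subgroupOf.1 ((QuotientGroup.eq_one_iff x).1 h)
  have hs2 : orderOf s = 2 := hinv _ (fun h => E.dA.q_ne (hx _ h))
    (by show E.dA.q * E.dA.q ∈ U; rw [E.dA.hqq]; exact hzU _ E.cen_zA)
  have ht2 : orderOf t = 2 := hinv _ (fun h => E.z3_ne_one (by
      have := hx _ h
      rwa [E.sq_mul E.dA.hqD E.dB.hqD, E.dA.hqq, E.dB.hqq] at this))
    (by
      show E.dA.q * E.dB.q * (E.dA.q * E.dB.q) ∈ U
      rw [E.sq_mul E.dA.hqD E.dB.hqD, E.dA.hqq, E.dB.hqq]; exact hzU _ E.cen_z3)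
  obtain ⟨T, hT⟩ := CfsgLib.LocEven.classicalSE_exists_sylow_le hse hpH
  have hinto : ∀ x : ↥(normalizer (U : Set G)) ⧸ U.subgroupOf (normalizer (U : Set G)),
      orderOf x = 2 → ∃ c, c * x * c⁻¹ ∈ H := by
    intro x hx2
    obtain ⟨c, hc⟩ := CfsgLib.TwoFusion.FusionTools.exists_conj_mem_sylow T x (d := 1)
      (by rw [hx2, pow_one])
    exact ⟨c, hT hc⟩
  obtain ⟨c, hc⟩ := hinto s hs2
  obtain ⟨c', hc'⟩ := hinto t ht2
  obtain ⟨g, hg⟩ := isConj_iff.1 (((isConj_iff.2 ⟨c, rfl⟩ : IsConj s _).trans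
    (isConj_of_classicalSE hH hse hc hc' (by rw [CfsgLib.Invol.orderOf_conj, hs2])
      (by rw [CfsgLib.Invol.orderOf_conj, ht2]))).trans
    (isConj_iff.2 ⟨c', rfl⟩ : IsConj t _).symm)
  obtain ⟨m, rfl⟩ := QuotientGroup.mk'_surjective _ g
  rw [hs, ht, ← map_inv, ← map_mul, ← map_mul] at hg
  obtain ⟨e, heU, he⟩ : ∃ e ∈ U, (m : G) * E.dA.q * (m : G)⁻¹ = E.dA.q * E.dB.q * e := by
    have h1 := QuotientGroup.eq.1 hg.symm
    exact ⟨_, mem_subgroupOf.1 h1, by simp [mul_assoc]⟩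
  have hone : ∀ x ∈ U, E.dA.q * E.dB.q * x * (E.dA.q * E.dB.q)⁻¹ ≠ x →
      E.dA.q * E.dB.q * x * (E.dA.q * E.dB.q)⁻¹ = x * ((m : G) * E.dA.z * (m : G)⁻¹) := by
    intro x hxU hne
    have hx' : (m : G)⁻¹ * x * m ∈ U := (mem_normalizer_iff''.1 m.2 x).1 hxU
    have hact : E.dA.q * E.dB.q * x * (E.dA.q * E.dB.q)⁻¹
        = (m : G) * (E.dA.q * ((m : G)⁻¹ * x * m) * E.dA.q⁻¹) * (m : G)⁻¹ := by
      have h1 : e * x * e⁻¹ = x := by rw [hUc e heU x hxU, mul_inv_cancel_right]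
      calc E.dA.q * E.dB.q * x * (E.dA.q * E.dB.q)⁻¹
          = (E.dA.q * E.dB.q * e) * x * (E.dA.q * E.dB.q * e)⁻¹ := by
            conv_lhs => rw [← h1]
            group
        _ = _ := by rw [← he]; group
    rcases hqA _ hx' with h | h
    · exact absurd (by rw [hact, h]; group) hne
    · rw [hact, h]; group
  have hBr : E.dB.q * r * E.dB.q⁻¹ = r := by rw [← E.hc hr E.dB.hqD, mul_inv_cancel_right]
  have e1 : E.dA.q * E.dB.q * r * (E.dA.q * E.dB.q)⁻¹ = r * E.dA.z := by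
    calc E.dA.q * E.dB.q * r * (E.dA.q * E.dB.q)⁻¹
        = E.dA.q * (E.dB.q * r * E.dB.q⁻¹) * E.dA.q⁻¹ := by group
      _ = _ := by rw [hBr, E.dA.q_conj_refl hr hrR]
  have e2 : E.dA.q * E.dB.q * r' * (E.dA.q * E.dB.q)⁻¹ = r' * E.dB.z := by
    calc E.dA.q * E.dB.q * r' * (E.dA.q * E.dB.q)⁻¹
        = E.dA.q * (E.dB.q * r' * E.dB.q⁻¹) * E.dA.q⁻¹ := by group
      _ = _ := by
        rw [E.dB.q_conj_refl hr' hr'R, E.hc E.dA.hqD (mul_mem hr' E.dB.hzD), mul_inv_cancel_right]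
  have f1 := hone r hrU (by rw [e1, Ne, mul_eq_left]; exact E.dA.hz1)
  have f2 := hone r' hr'U (by rw [e2, Ne, mul_eq_left]; exact E.dB.hz1)
  rw [e1, mul_right_inj] at f1
  rw [e2, mul_right_inj] at f2
  exact E.zA_ne_zB (f1.trans f2.symm)

/-- A nontrivial odd element of the normalizer of a member: one of the two kinds. -/
theorem fam_cases {U : Subgroup G} (hF : Fam 2 (E.S : Subgroup G) U) {n : G}
    (hn : n ∈ normalizer (U : Set G)) (ho : Odd (orderOf n)) :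
    (∀ u ∈ U, n * u * n⁻¹ = u) ∨ E.Side U ∨ E.swap.Side U := by
  haveI : Fact (Nat.Prime 2) := ⟨Nat.prime_two⟩
  obtain ⟨hcen, -⟩ := fam_props E.S hF
  by_cases hw : ∃ w ∈ U, w * w = 1 ∧ (∀ u ∈ U, w * u = u * w) ∧ ¬ E.Cen w
  · obtain ⟨w, hwU, hww, hwc, hwn⟩ := hw
    obtain ⟨a, ha, b, hb, rfl⟩ := exists_split E.hp (hF.1.le hwU)
    obtain ⟨haa, hbb⟩ := E.sq_one ha hb hww
    have key : ∀ F : Pair G, F.S = E.S → ∀ a ∈ F.A, ∀ b ∈ F.B, a * b ∈ U →
        (∀ u ∈ U, a * b * u = u * (a * b)) → a ∉ F.dA.R →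
        (∀ u ∈ U, n * u * n⁻¹ = u) ∨ F.Side U := by
      intro F hFS a ha b hb _ hc haR
      have hF' : Fam 2 (F.S : Subgroup G) U := hFS ▸ hF
      obtain ⟨hcen', -⟩ := fam_props F.S hF'
      have hcomm : ∀ x ∈ F.A, ∀ y ∈ F.B, x * y ∈ U → x * a = a * x := fun x hx y hy hxy =>
        (F.comm_split ha hb hx hy (hc _ hxy)).1.symm
      refine F.exists_side hF' ha haR (hcen' ⟨F.hp.1 ha, mem_centralizer_iff.2 fun u hu => ?_⟩) ?_ hn
      · obtain ⟨x, hx, y, hy, rfl⟩ := exists_split F.hp (hF'.1.le hu)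
        calc x * y * a = x * (y * a) := by group
          _ = x * a * y := by rw [← F.hc ha hy]; group
          _ = _ := by rw [hcomm x hx y hy hu]; group
      · intro x hx y hy hxy
        exact F.dA.cent_refl ha haR hx (hcomm x hx y hy hxy)
    by_cases haR : a ∈ E.dA.R
    · by_cases hbR : b ∈ E.dB.R
      · refine absurd ?_ hwn
        rcases E.dA.hRinv a haR haa with rfl | rfl <;> rcases E.dB.hRinv b hbR hbb with rfl | rfl
        · rw [one_mul]; exact E.cen_one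
        · rw [one_mul]; exact E.cen_zB
        · rw [mul_one]; exact E.cen_zA
        · exact E.cen_z3
      · have hba : b * a = a * b := (E.hc ha hb).symm
        rcases key E.swap rfl b hb a ha (hba ▸ hwU) (by rw [hba]; exact hwc) hbR with h | h
        exacts [Or.inl h, Or.inr (Or.inr h)]
    · rcases key E rfl a ha b hb hwU hwc haR with h | h
      exacts [Or.inl h, Or.inr (Or.inl h)]
  refine Or.inl ?_
  push Not at hw
  have hfix : ∀ g ∈ normalizer (U : Set G), ∀ w, E.Cen w → g * w * g⁻¹ = w := by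
    intro g hg w hwC
    have hwU : w ∈ U := hcen ⟨hwC.1, mem_centralizer_iff.2 fun u hu => hwC.2.2 u (hF.1.le hu)⟩
    refine E.conj_eq g hwC (hw _ ((mem_normalizer_iff.1 hg w).1 hwU) (by rw [conj_mul, hwC.2.1]; group)
      fun u hu => ?_)
    have := hwC.2.2 _ (hF.1.le ((mem_normalizer_iff''.1 hg u).1 hu))
    calc g * w * g⁻¹ * u = g * (w * (g⁻¹ * u * g)) * g⁻¹ := by group
      _ = _ := by rw [← this]; group
  let M : Subgroup G :=
    { carrier := {m | m ∈ normalizer (U : Set G) ∧ ∀ u ∈ U, E.Cen (u⁻¹ * (m * u * m⁻¹))}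
      one_mem' := ⟨one_mem _, fun u _ => by simpa using E.cen_one⟩
      mul_mem' := fun {a b} ha hb => ⟨mul_mem ha.1 hb.1, fun u hu => by
        have h1 := hb.2 u hu
        have h2 := ha.2 u hu
        have e : u⁻¹ * (a * b * u * (a * b)⁻¹)
            = u⁻¹ * (a * u * a⁻¹) * (a * (u⁻¹ * (b * u * b⁻¹)) * a⁻¹) := by group
        rw [e, hfix a ha.1 _ h1]
        exact E.cen_mul h2 h1⟩
      inv_mem' := fun {a} ha => ⟨inv_mem ha.1, fun u hu => by
        have hv : a⁻¹ * u * a ∈ U := (mem_normalizer_iff''.1 ha.1 u).1 hu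
        have h := ha.2 _ hv
        have e : u⁻¹ * (a⁻¹ * u * a⁻¹⁻¹)
            = ((a⁻¹ * u * a)⁻¹ * (a * (a⁻¹ * u * a) * a⁻¹))⁻¹ := by group
        rw [e, inv_eq_of_mul_eq_one_right h.2.1]
        exact h⟩ }
  have hMn : normalizer (U : Set G) ≤ normalizer (M : Set G) := by
    intro g hg
    apply CfsgLib.TwoFusion.ConjUtil.mem_normalizer_of_conj_mem
    rintro m ⟨hmN, hm⟩
    refine ⟨mul_mem (mul_mem hg hmN) (inv_mem hg), fun u hu => ?_⟩
    have hw : g⁻¹ * u * g ∈ U := (mem_normalizer_iff''.1 hg u).1 hu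
    have e : u⁻¹ * (g * m * g⁻¹ * u * (g * m * g⁻¹)⁻¹)
        = g * ((g⁻¹ * u * g)⁻¹ * (m * (g⁻¹ * u * g) * m⁻¹)) * g⁻¹ := by group
    rw [e, hfix g hg _ (hm _ hw)]
    exact hm _ hw
  have hodd : ∀ m ∈ M, Odd (orderOf m) → ∀ u ∈ U, m * u * m⁻¹ = u := by
    intro m hm hmo u hu
    have hc := hm.2 u hu
    have h1 : u⁻¹ * (m * u * m⁻¹) = 1 := eq_one_of_odd_shift hmo (k := 1)
      (by rw [pow_one, pow_two]; exact hc.2.1) (u := u) (by group) (hfix m hm.1 _ hc)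
    exact (inv_mul_eq_one.1 h1).symm
  have hq : E.dA.q * E.dB.q ∈ U := by
    have hs : ∀ u ∈ U, ∃ c, E.Cen c ∧
        E.dA.q * E.dB.q * u * (E.dA.q * E.dB.q)⁻¹ = u * c := by
      intro u hu
      obtain ⟨a, ha, b, hb, rfl⟩ := exists_split E.hp (hF.1.le hu)
      have hz : E.dA.q * E.dB.z * E.dA.q⁻¹ = E.dB.z := by
        rw [E.hc E.dA.hqD E.dB.hzD, mul_inv_cancel_right]
      have hb' : E.dB.q * a * E.dB.q⁻¹ = a := by rw [← E.hc ha E.dB.hqD, mul_inv_cancel_right]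
      have hqq : E.dA.q * E.dB.q * (a * b) * (E.dA.q * E.dB.q)⁻¹
          = E.dA.q * a * E.dA.q⁻¹ * (E.dB.q * b * E.dB.q⁻¹) := by
        have hx : E.dB.q * b * E.dB.q⁻¹ ∈ E.B :=
          mul_mem (mul_mem E.dB.hqD hb) (inv_mem E.dB.hqD)
        calc E.dA.q * E.dB.q * (a * b) * (E.dA.q * E.dB.q)⁻¹
            = E.dA.q * ((E.dB.q * a * E.dB.q⁻¹) * (E.dB.q * b * E.dB.q⁻¹)) * E.dA.q⁻¹ := by group
          _ = E.dA.q * a * ((E.dB.q * b * E.dB.q⁻¹) * E.dA.q⁻¹) := by rw [hb']; group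
          _ = _ := by rw [← E.hc (inv_mem E.dA.hqD) hx]; group
      rcases E.dA.q_conj ha with h1 | h1 <;> rcases E.dB.q_conj hb with h2 | h2 <;>
        rw [hqq, h1, h2]
      · exact ⟨1, E.cen_one, (mul_one _).symm⟩
      · exact ⟨_, E.cen_zB, (mul_assoc _ _ _).symm⟩
      · refine ⟨_, E.cen_zA, ?_⟩
        rw [mul_assoc, E.hc E.dA.hzD hb, ← mul_assoc]
      · refine ⟨_, E.cen_z3, ?_⟩
        calc a * E.dA.z * (b * E.dB.z) = a * (E.dA.z * b) * E.dB.z := by group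
          _ = _ := by rw [E.hc E.dA.hzD hb]; group
    have hqS : E.dA.q * E.dB.q ∈ (E.S : Subgroup G) :=
      mul_mem (E.hp.1 E.dA.hqD) (E.hp.2.1 E.dB.hqD)
    have hCU : ∀ c, E.Cen c → c ∈ U := fun c hc =>
      hcen ⟨hc.1, mem_centralizer_iff.2 fun u hu => hc.2.2 u (hF.1.le hu)⟩
    refine mem_of_normal_fixing E.S hF M (fun m hm => hm.1) hMn hodd hqS ⟨?_, fun u hu => ?_⟩
    · apply CfsgLib.TwoFusion.ConjUtil.mem_normalizer_of_conj_mem
      intro u hu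
      obtain ⟨c, hc, he⟩ := hs u hu
      rw [he]; exact mul_mem hu (hCU c hc)
    · obtain ⟨c, hc, he⟩ := hs u hu
      rw [he, inv_mul_cancel_left]; exact hc
  exact fix_involutions_centralizes E.dA E.dB E.hp E.isP hF.1.le hq hn ho
    (hfix n hn _ E.cen_zA) (hfix n hn _ E.cen_zB)

end Pair

end CfsgLib.DihTimesDih
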