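import Cfsg.Agent.Lib.DihTimesDih.Big

/-!
Both factors dihedral of order at least eight: the reflections fused to the central involutions and the two
strongly closed dihedral subgroups.
-/

set_option autoImplicit false
set_option linter.unusedSectionVars false

open Subgroup CfsgLib.ConjFunctor CfsgLib.LocEven.StrongAlperin
open scoped Classical

namespace CfsgLib.DihTimesDih

variable {G : Type*} [Group G]

namespace Dih

variable {D : Subgroup G} (d : Dih D)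

theorem conj_R {x r : G} (hx : x ∈ D) (hr : r ∈ d.R) : x * r * x⁻¹ ∈ d.R := by
  by_cases hxR : x ∈ d.R
  · exact mul_mem (mul_mem hxR hr) (inv_mem hxR)
  · rw [d.refl_inv x hx hxR r hr]; exact inv_mem hr

theorem conj_refl {c x : G} (hc : c ∈ D) (hxR : x ∉ d.R) : c * x * c⁻¹ ∉ d.R := fun h => hxR <| by
  have := d.conj_R (inv_mem hc) h
  simpa [mul_assoc] using this

theorem mul_refl {r x : G} (hr : r ∈ d.R) (hxR : x ∉ d.R) : r * x ∉ d.R :=
  fun h => hxR ((mul_mem_cancel_left hr).1 h)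

theorem mul_mem_iff {K : Subgroup G} (hK : K.relIndex D = 2) {x y : G} (hx : x ∈ D) (hy : y ∈ D) :
    x * y ∈ K ↔ (x ∈ K ↔ y ∈ K) := by
  have := Subgroup.mul_mem_iff_of_index_two (H := K.subgroupOf D) hK (a := ⟨x, hx⟩) (b := ⟨y, hy⟩)
  simpa [mem_subgroupOf] using this

theorem conj_mem_iff' {K : Subgroup G} (hK : K.relIndex D = 2) {x y : G} (hx : x ∈ D) (hy : y ∈ D) :
    x * y * x⁻¹ ∈ K ↔ y ∈ K := by
  rw [mul_mem_iff hK (mul_mem hx hy) (inv_mem hx), mul_mem_iff hK hx hy, inv_mem_iff]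
  tauto

/-- The two classes of reflections. -/
theorem class_cases {x : G} (hx : x ∈ D) (hxR : x ∉ d.R) :
    (x ∉ d.K₀ ∧ x ∈ d.K₁ ∧ ∃ c ∈ D, c * d.r₀ * c⁻¹ = x) ∨
      (x ∈ d.K₀ ∧ x ∉ d.K₁ ∧ ∃ c ∈ D, c * d.r₁ * c⁻¹ = x) := by
  obtain ⟨c, hc, h | h⟩ := d.cover x hx hxR
  · refine Or.inl ⟨?_, ?_, c, hc, h⟩ <;> rw [← h]
    · rw [conj_mem_iff' d.hK₀ hc d.hr₀.1]; exact d.r₀K₀
    · rw [conj_mem_iff' d.hK₁ hc d.hr₀.1]; exact d.r₀K₁
  · refine Or.inr ⟨?_, ?_, c, hc, h⟩ <;> rw [← h]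
    · rw [conj_mem_iff' d.hK₀ hc d.hr₁.1]; exact d.r₁K₀
    · rw [conj_mem_iff' d.hK₁ hc d.hr₁.1]; exact d.r₁K₁

end Dih

namespace Pair

variable (E : Pair G)

theorem SA {a : G} (ha : a ∈ E.A) : a ∈ (E.S : Subgroup G) := E.hp.1 ha

theorem SB {b : G} (hb : b ∈ E.B) : b ∈ (E.S : Subgroup G) := E.hp.2.1 hb

theorem disj : E.A ⊓ E.B = ⊥ := E.hp.2.2.2.1

theorem comm_cen {w s : G} (hw : E.Cen w) (hs : s ∈ (E.S : Subgroup G)) : w * s = s * w :=
  (hw.2.2 s hs).symm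

theorem coord_eq {a a' b b' : G} (ha : a ∈ E.A) (ha' : a' ∈ E.A) (hb : b ∈ E.B) (hb' : b' ∈ E.B)
    (h : a * b = a' * b') : a = a' ∧ b = b' :=
  split_unique E.disj ha ha' hb hb' h

theorem mul_split {a b a' b' : G} (hb : b ∈ E.B) (ha' : a' ∈ E.A) :
    (a * b) * (a' * b') = (a * a') * (b * b') := by
  rw [mul_assoc a b, ← mul_assoc b, ← E.hc ha' hb]
  group

theorem conj_split {a b x y : G} (ha : a ∈ E.A) (hb : b ∈ E.B) (hx : x ∈ E.A) (hy : y ∈ E.B) :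
    (a * b) * (x * y) * (a * b)⁻¹ = (a * x * a⁻¹) * (b * y * b⁻¹) :=
  conj_mul_comm (E.hc ha hy) (E.hc ha hb) (E.hc hx hb).symm (E.hc hx hy)
    (E.hc (mul_mem (mul_mem ha hx) (inv_mem ha)) (mul_mem (mul_mem hb hy) (inv_mem hb)))

/-- Values of the shifts. -/
def Val (e : G) : Prop := e = 1 ∨ e = E.dB.z

theorem val_cen {e : G} (he : E.Val e) : E.Cen e := by
  rcases he with rfl | rfl
  exacts [E.cen_one, E.cen_zB]

theorem val_mem {e : G} (he : E.Val e) : e ∈ E.B := by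
  rcases he with rfl | rfl
  exacts [one_mem _, E.dB.hzD]

/-- `z` is fused to `r * e` fixing the other central involution. -/
def Moved (r e : G) : Prop :=
  ∃ g : G, g * E.dB.z * g⁻¹ = E.dB.z ∧ g * E.dA.z * g⁻¹ = r * e

theorem moved_conj {r e c : G} (he : E.Val e) (hc : c ∈ E.A) (h : E.Moved r e) :
    E.Moved (c * r * c⁻¹) e := by
  obtain ⟨g, h1, h2⟩ := h
  refine ⟨c * g, ?_, ?_⟩
  · calc c * g * E.dB.z * (c * g)⁻¹ = c * (g * E.dB.z * g⁻¹) * c⁻¹ := by group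
      _ = _ := by rw [h1, E.hc hc E.dB.hzD, mul_inv_cancel_right]
  · calc c * g * E.dA.z * (c * g)⁻¹ = c * (g * E.dA.z * g⁻¹) * c⁻¹ := by group
      _ = _ := by rw [h2, ← conj_mul, E.hc hc (E.val_mem he), mul_inv_cancel_right]

theorem moved_z {r e : G} (he : E.Val e) (hr : r ∈ E.A) (hrR : r ∉ E.dA.R) (h : E.Moved r e) :
    E.Moved (r * E.dA.z) e := by
  have := E.moved_conj he E.dA.hqD h
  rwa [E.dA.q_conj_refl hr hrR] at this

theorem refl_z {r : G} (hr : r ∈ E.A) (hrR : r ∉ E.dA.R) :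
    r * E.dA.z ∈ E.A ∧ r * E.dA.z ∉ E.dA.R :=
  ⟨mul_mem hr E.dA.hzD, fun h => hrR ((mul_mem_cancel_right E.dA.zR).1 h)⟩

variable [Finite G]

theorem moved_unique {r : G} (h₀ : E.Moved r 1) (h₁ : E.Moved r E.dB.z) : False := by
  obtain ⟨g, hg1, hg2⟩ := h₀
  obtain ⟨k, hk1, hk2⟩ := h₁
  rw [mul_one] at hg2
  have h : g⁻¹ * k * E.dA.z * (g⁻¹ * k)⁻¹ = E.dA.z * E.dB.z := by
    calc g⁻¹ * k * E.dA.z * (g⁻¹ * k)⁻¹ = g⁻¹ * (k * E.dA.z * k⁻¹) * g := by group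
      _ = g⁻¹ * (g * E.dA.z * g⁻¹ * (g * E.dB.z * g⁻¹)) * g := by rw [hk2, hg1, hg2]
      _ = _ := by group
  exact E.z3_ne_zA (h.symm.trans (E.conj_eq _ E.cen_zA (h ▸ E.cen_z3)))

/-- The element coming from a fused reflection. -/
theorem mover {r e : G} (hr : r ∈ E.A) (hrR : r ∉ E.dA.R) (he : E.Val e) (hM : E.Moved r e) :
    ∃ m : G, m * E.dB.z * m⁻¹ = E.dB.z ∧ m * (r * e) * m⁻¹ = r * e ∧
      m * E.dA.z * m⁻¹ = E.dA.z * (r * e) ∧
      ∀ u ∈ (E.S : Subgroup G), u * r = r * u →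
        m * u * m⁻¹ = u ∨ m * u * m⁻¹ = u * (r * e) := by
  haveI : Fact (Nat.Prime 2) := ⟨Nat.prime_two⟩
  obtain ⟨g, hg1, hg2⟩ := hM
  let U : Subgroup G := (E.S : Subgroup G) ⊓ centralizer ({r} : Set G)
  have hUr : ∀ u ∈ U, u * r = r * u := fun u hu => mem_centralizer_singleton_iff.1 hu.2
  let C : Subgroup G := centralizer ({E.dA.z, E.dB.z} : Set G)
  have hC : ∀ {x : G}, x ∈ C → x * E.dA.z = E.dA.z * x ∧ x * E.dB.z = E.dB.z * x := fun hx =>
    ⟨(mem_centralizer_iff.1 hx _ (Or.inl rfl)).symm, (mem_centralizer_iff.1 hx _ (Or.inr rfl)).symm⟩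
  have hSC : (E.S : Subgroup G) ≤ C := fun s hs => mem_centralizer_iff.2 fun w hw => by
    rcases hw with rfl | rfl
    exacts [E.comm_cen E.cen_zA hs, E.comm_cen E.cen_zB hs]
  have hodd : Odd ((E.S : Subgroup G).relIndex C) := by
    have h1 := Subgroup.relIndex_mul_index hSC
    exact (Nat.odd_mul.1 (h1 ▸ CfsgLib.TwoFusion.FusionTools.sylow_index_odd E.S)).1
  have hre : ∀ u ∈ U, u * (r * e) = (r * e) * u := fun u hu => by
    rw [← mul_assoc, hUr u hu, mul_assoc, (E.val_cen he).2.2 u hu.1, ← mul_assoc]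
  have himg : U.map (MulAut.conj g⁻¹).toMonoidHom ≤ C := by
    rintro x ⟨u, hu, rfl⟩
    refine mem_centralizer_iff.2 fun w hw => ?_
    show w * (g⁻¹ * u * g⁻¹⁻¹) = g⁻¹ * u * g⁻¹⁻¹ * w
    rcases hw with rfl | rfl
    · have hz : E.dA.z = g⁻¹ * (r * e) * g := by rw [← hg2]; group
      rw [hz]
      calc g⁻¹ * (r * e) * g * (g⁻¹ * u * g⁻¹⁻¹) = g⁻¹ * (r * e * u) * g := by group
        _ = g⁻¹ * (u * (r * e)) * g := by rw [hre u hu]
        _ = _ := by group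
    · have hz : E.dB.z = g⁻¹ * E.dB.z * g := by
        conv_rhs => rw [← hg1]
        group
      rw [hz]
      calc g⁻¹ * E.dB.z * g * (g⁻¹ * u * g⁻¹⁻¹) = g⁻¹ * (E.dB.z * u) * g := by group
        _ = g⁻¹ * (u * E.dB.z) * g := by rw [E.comm_cen E.cen_zB hu.1]
        _ = _ := by group
  obtain ⟨c, hc, hcS⟩ := CfsgLib.TwoFusion.FusionTools.exists_conj_le C (E.S : Subgroup G) _ E.isP
    hSC hodd ((E.isP.to_le (inf_le_left : U ≤ (E.S : Subgroup G))).map _) himg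
  set k := c * g⁻¹ with hk
  have hkU : ∀ u ∈ U, k * u * k⁻¹ ∈ (E.S : Subgroup G) := fun u hu => by
    have := hcS _ ⟨u, hu, rfl⟩
    change c * (g⁻¹ * u * g⁻¹⁻¹) * c⁻¹ ∈ (E.S : Subgroup G) at this
    rw [hk]
    simpa [mul_assoc] using this
  have hkB : k * E.dB.z * k⁻¹ = E.dB.z := by
    calc k * E.dB.z * k⁻¹ = c * (g⁻¹ * (g * E.dB.z * g⁻¹) * g) * c⁻¹ := by rw [hg1, hk]; group
      _ = c * E.dB.z * c⁻¹ := by group
      _ = _ := by rw [(hC hc).2, mul_inv_cancel_right]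
  have hkr : k * (r * e) * k⁻¹ = E.dA.z := by
    calc k * (r * e) * k⁻¹ = c * (g⁻¹ * (g * E.dA.z * g⁻¹) * g) * c⁻¹ := by rw [hg2, hk]; group
      _ = c * E.dA.z * c⁻¹ := by group
      _ = _ := by rw [(hC hc).1, mul_inv_cancel_right]
  have hzU : E.dA.z ∈ U :=
    ⟨E.SA E.dA.hzD, mem_centralizer_singleton_iff.2 (E.dA.hzc r hr).symm⟩
  have hwS := hkU _ hzU
  have hwc : ∀ u ∈ U, k * E.dA.z * k⁻¹ * (k * u * k⁻¹) = k * u * k⁻¹ * (k * E.dA.z * k⁻¹) :=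
    fun u hu => by rw [conj_mul, conj_mul, E.comm_cen E.cen_zA hu.1]
  have hwn : ¬ E.Cen (k * E.dA.z * k⁻¹) := fun h => by
    have h1 := E.conj_eq k E.cen_zA h
    have h2 : k * E.dA.z * k⁻¹ = k * (r * e) * k⁻¹ := h1.trans hkr.symm
    have h3 : E.dA.z * 1 = r * e := by
      rw [mul_one]; exact mul_left_cancel (mul_right_cancel h2)
    exact (E.dA.refl_ne hrR).2 (E.coord_eq E.dA.hzD hr (one_mem _) (E.val_mem he) h3).1.symm
  obtain ⟨a, ha, b, hb, hw⟩ := exists_split E.hp hwS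
  obtain ⟨haa, hbb⟩ := E.sq_one ha hb (by rw [hw, conj_mul, E.dA.hzz]; group)
  have haR : a ∉ E.dA.R := by
    intro haR
    by_cases hbR : b ∈ E.dB.R
    · refine hwn (hw ▸ ?_)
      rcases E.dA.hRinv a haR haa with rfl | rfl <;> rcases E.dB.hRinv b hbR hbb with rfl | rfl
      · rw [one_mul]; exact E.cen_one
      · rw [one_mul]; exact E.cen_zB
      · rw [mul_one]; exact E.cen_zA
      · exact E.cen_z3
    · have hqU : E.dB.q ∈ U :=
        ⟨E.SB E.dB.hqD, mem_centralizer_singleton_iff.2 (E.hc hr E.dB.hqD).symm⟩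
      obtain ⟨x, hx, y, hy, hxy⟩ := exists_split E.hp (hkU _ hqU)
      have h2 : (x * x) * (y * y) = 1 * E.dB.z := by
        rw [← E.sq_mul hx hy, hxy, conj_mul, E.dB.hqq, hkB, one_mul]
      have hy2 := (E.coord_eq (mul_mem hx hx) (one_mem _) (mul_mem hy hy) E.dB.hzD h2).2
      have h3 := hwc _ hqU
      rw [← hw, ← hxy] at h3
      have hcy := (E.comm_split ha hb hx hy h3).2
      refine E.dB.hz1 (hy2 ▸ ?_)
      rcases E.dB.cent_refl hb hbR hy hcy.symm with rfl | rfl | rfl | rfl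
      · exact one_mul 1
      · exact E.dB.hzz
      · exact hbb
      · rw [mul_sq_of_commute (E.dB.hzc b hb), hbb, E.dB.hzz, one_mul]
  have hqB : ∀ y ∈ E.B, E.dA.q * y * E.dA.q⁻¹ = y := fun y hy => by
    rw [E.hc E.dA.hqD hy, mul_inv_cancel_right]
  have hq : ∀ u ∈ U, E.dA.q * (k * u * k⁻¹) * E.dA.q⁻¹ = k * u * k⁻¹ ∨
      E.dA.q * (k * u * k⁻¹) * E.dA.q⁻¹ = k * u * k⁻¹ * E.dA.z := by
    intro u hu
    obtain ⟨x, hx, y, hy, hxy⟩ := exists_split E.hp (hkU u hu)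
    have h3 := hwc u hu
    rw [← hw, ← hxy] at h3
    rw [← hxy, ← conj_mul, hqB y hy]
    rcases E.four_q ha haR (E.dA.cent_refl ha haR hx (E.comm_split ha hb hx hy h3).1.symm)
      with h | h <;> rw [h]
    · exact Or.inl rfl
    · exact Or.inr (by rw [mul_assoc x, E.hc E.dA.hzD hy, ← mul_assoc])
  refine ⟨k⁻¹ * E.dA.q * k, ?_, ?_, ?_, fun u hu hur => ?_⟩
  · calc k⁻¹ * E.dA.q * k * E.dB.z * (k⁻¹ * E.dA.q * k)⁻¹
        = k⁻¹ * (E.dA.q * (k * E.dB.z * k⁻¹) * E.dA.q⁻¹) * k := by group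
      _ = k⁻¹ * (k * E.dB.z * k⁻¹) * k := by rw [hkB, hqB _ E.dB.hzD]
      _ = _ := by group
  · calc k⁻¹ * E.dA.q * k * (r * e) * (k⁻¹ * E.dA.q * k)⁻¹
        = k⁻¹ * (E.dA.q * (k * (r * e) * k⁻¹) * E.dA.q⁻¹) * k := by group
      _ = k⁻¹ * (k * (r * e) * k⁻¹) * k := by
        rw [hkr, E.dA.hzc _ E.dA.hqD, mul_inv_cancel_right]
      _ = _ := by group
  · calc k⁻¹ * E.dA.q * k * E.dA.z * (k⁻¹ * E.dA.q * k)⁻¹
        = k⁻¹ * (E.dA.q * (k * E.dA.z * k⁻¹) * E.dA.q⁻¹) * k := by group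
      _ = k⁻¹ * (k * E.dA.z * k⁻¹ * E.dA.z) * k := by
        rw [← hw, ← conj_mul, hqB b hb, E.dA.q_conj_refl ha haR, mul_assoc a, E.hc E.dA.hzD hb,
          ← mul_assoc a]
      _ = k⁻¹ * (k * E.dA.z * k⁻¹ * (k * (r * e) * k⁻¹)) * k := by rw [hkr]
      _ = _ := by group
  · have huU : u ∈ U := ⟨hu, mem_centralizer_singleton_iff.2 hur⟩
    have e1 : k⁻¹ * E.dA.q * k * u * (k⁻¹ * E.dA.q * k)⁻¹
        = k⁻¹ * (E.dA.q * (k * u * k⁻¹) * E.dA.q⁻¹) * k := by group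
    rcases hq u huU with h | h
    · exact Or.inl (by rw [e1, h]; group)
    · refine Or.inr ?_
      rw [e1, h]
      calc k⁻¹ * (k * u * k⁻¹ * E.dA.z) * k = k⁻¹ * (k * u * k⁻¹ * (k * (r * e) * k⁻¹)) * k := by
            rw [hkr]
        _ = _ := by group

/-- The mixed elements belong to the class of the product of the central involutions. -/
theorem mixed {a e b f : G} (ha : a ∈ E.A) (haR : a ∉ E.dA.R) (he : E.Val e) (hMa : E.Moved a e)
    (hb : b ∈ E.B) (hbR : b ∉ E.dB.R) (hf : E.swap.Val f) (hMb : E.swap.Moved b f) :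
    IsConj (E.dA.z * E.dB.z) (E.dA.z * ((a * e) * (b * f))) ∧
      IsConj (E.dA.z * E.dB.z) (E.dA.z * E.dB.z * ((a * e) * (b * f))) := by
  obtain ⟨m, hm1, hm2, hm3, hm4⟩ := E.mover ha haR he hMa
  obtain ⟨n, hn1, hn2, hn3, hn4⟩ := E.swap.mover hb hbR hf hMb
  obtain ⟨g, hg1, hg2⟩ := hMa
  obtain ⟨k, hk1, hk2⟩ := hMb
  simp only [swap] at hn1 hn2 hn3 hn4 hk1 hk2
  have hfA : f ∈ E.A := E.swap.val_mem hf
  have hrb : Commute (a * e) b := by
    show a * e * b = b * (a * e)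
    rw [mul_assoc, ← (E.val_cen he).2.2 b (E.SB hb), ← mul_assoc, E.hc ha hb, mul_assoc]
  have hcf : ∀ x ∈ (E.S : Subgroup G), Commute f x := fun x hx =>
    E.swap.comm_cen (E.swap.val_cen hf) hx
  have hreS : a * e ∈ (E.S : Subgroup G) := mul_mem (E.SA ha) (E.SB (E.val_mem he))
  have hsfS : b * f ∈ (E.S : Subgroup G) := mul_mem (E.SB hb) (E.SA hfA)
  have hrs : Commute (a * e) (b * f) := hrb.mul_right (hcf _ hreS).symm
  set r := a * e with hr
  set s := b * f with hs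
  have hAr : Commute E.dA.z r := E.comm_cen E.cen_zA hreS
  have hBr : Commute E.dB.z r := E.comm_cen E.cen_zB hreS
  have hAs : Commute E.dA.z s := E.comm_cen E.cen_zA hsfS
  have hBs : Commute E.dB.z s := E.comm_cen E.cen_zB hsfS
  have hs' : s * a = a * s := by
    rw [hs, mul_assoc, (hcf a (E.SA ha)).eq, ← mul_assoc, ← E.hc ha hb, mul_assoc]
  have hr' : r * b = b * r := hrb.eq
  -- elementary consequences
  have c1 : IsConj E.dA.z r := isConj_iff.2 ⟨g, hg2⟩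
  have c2 : IsConj E.dB.z s := isConj_iff.2 ⟨k, hk2⟩
  have c3 : IsConj (E.dA.z * E.dB.z) (E.dA.z * s) :=
    isConj_iff.2 ⟨k, by rw [← conj_mul, hk1, hk2]⟩
  have c4 : IsConj (E.dA.z * E.dB.z) (r * E.dB.z) :=
    isConj_iff.2 ⟨g, by rw [← conj_mul, hg1, hg2]⟩
  have c5 : IsConj E.dA.z (E.dA.z * r) := isConj_iff.2 ⟨m, hm3⟩
  have c6 : IsConj E.dB.z (E.dB.z * s) := isConj_iff.2 ⟨n, hn3⟩
  rcases hm4 s hsfS hs' with p | p <;> rcases hn4 r hreS hr' with q | q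
  · constructor
    · refine c3.trans (isConj_iff.2 ⟨m, ?_⟩)
      rw [← conj_mul, hm3, p, mul_assoc]
    · have c7 : IsConj (E.dA.z * E.dB.z) (E.dA.z * r * E.dB.z) :=
        isConj_iff.2 ⟨m, by rw [← conj_mul, hm3, hm1]⟩
      refine c7.trans (isConj_iff.2 ⟨n, ?_⟩)
      rw [← conj_mul, ← conj_mul, hn1, q, hn3]
      calc E.dA.z * r * (E.dB.z * s) = E.dA.z * (r * E.dB.z) * s := by group
        _ = _ := by rw [← hBr.eq]; group
  · exfalso
    have h1 : IsConj E.dA.z (E.dA.z * (r * s)) :=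
      c5.trans (isConj_iff.2 ⟨n, by rw [← conj_mul, hn1, q]⟩)
    have h2 : IsConj (E.dA.z * E.dB.z) (E.dA.z * (r * s)) :=
      c3.trans (isConj_iff.2 ⟨m, by rw [← conj_mul, hm3, p, mul_assoc]⟩)
    exact E.not_isConj E.cen_zA E.cen_z3 E.z3_ne_zA.symm (h1.trans h2.symm)
  · exfalso
    have h1 : IsConj E.dB.z (E.dB.z * (s * r)) :=
      c6.trans (isConj_iff.2 ⟨m, by rw [← conj_mul, hm1, p]⟩)
    have h2 : IsConj (E.dA.z * E.dB.z) (E.dB.z * (s * r)) := by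
      refine c4.trans (isConj_iff.2 ⟨n, ?_⟩)
      rw [← conj_mul, q, hn3]
      calc r * (E.dB.z * s) = r * E.dB.z * s := by group
        _ = E.dB.z * (r * s) := by rw [← hBr.eq]; group
        _ = _ := by rw [hrs.eq]
    exact E.not_isConj E.cen_zB E.cen_z3
      (fun h => E.swap.z3_ne_zA (by
        simp only [swap]
        rw [← E.hc E.dA.hzD E.dB.hzD]; exact h.symm))
      (h1.trans h2.symm)
  · exfalso
    have h1 : IsConj s (r * s) := isConj_iff.2 ⟨m, by rw [p, hrs.eq]⟩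
    have h2 : IsConj r (r * s) := isConj_iff.2 ⟨n, q⟩
    exact E.not_isConj E.cen_zA E.cen_zB E.zA_ne_zB
      (c1.trans (h2.trans (h1.symm.trans c2.symm)))

/-- Products of two reflections are fused to the product of the central involutions. -/
theorem refl_refl (hA : ∀ a ∈ E.A, a ∉ E.dA.R → ∃ e, E.Val e ∧ E.Moved a e)
    (hB : ∀ b ∈ E.B, b ∉ E.dB.R → ∃ f, E.swap.Val f ∧ E.swap.Moved b f)
    {a b : G} (ha : a ∈ E.A) (haR : a ∉ E.dA.R) (hb : b ∈ E.B) (hbR : b ∉ E.dB.R) :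
    IsConj (E.dA.z * E.dB.z) (a * b) := by
  obtain ⟨e, he, hMa⟩ := hA a ha haR
  obtain ⟨f, hf, hMb⟩ := hB b hb hbR
  have hz := E.refl_z ha haR
  have cA : Commute E.dA.z a := E.comm_cen E.cen_zA (E.SA ha)
  have cA' : Commute E.dA.z b := E.comm_cen E.cen_zA (E.SB hb)
  have cB : Commute E.dB.z a := E.comm_cen E.cen_zB (E.SA ha)
  have cB' : Commute E.dB.z b := E.comm_cen E.cen_zB (E.SB hb)
  have cAB : Commute E.dA.z E.dB.z := E.hc E.dA.hzD E.dB.hzD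
  rcases he with rfl | rfl <;> rcases hf with rfl | rfl
  · have h := (E.mixed hz.1 hz.2 (Or.inl rfl) (E.moved_z (Or.inl rfl) ha haR hMa) hb hbR
      (Or.inl rfl) hMb).1
    refine (?_ : E.dA.z * (a * E.dA.z * 1 * (b * 1)) = a * b) ▸ h
    rw [mul_one, mul_one, ← cA.eq]
    calc E.dA.z * (E.dA.z * a * b) = (E.dA.z * E.dA.z) * (a * b) := by group
      _ = _ := by rw [E.dA.hzz, one_mul]
  · have h := (E.mixed ha haR (Or.inl rfl) hMa hb hbR (Or.inr rfl) hMb).1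
    refine (?_ : E.dA.z * (a * 1 * (b * E.swap.dB.z)) = a * b) ▸ h
    simp only [swap, mul_one]
    calc E.dA.z * (a * (b * E.dA.z)) = (E.dA.z * (a * b)) * E.dA.z := by group
      _ = (a * b) * E.dA.z * E.dA.z := by rw [(cA.mul_right cA').eq]
      _ = _ := by rw [mul_assoc, E.dA.hzz, mul_one]
  · have h : IsConj (E.dB.z * E.dA.z) (E.dB.z * (b * 1 * (a * E.dB.z))) :=
      (E.swap.mixed hb hbR (Or.inl rfl) hMb ha haR (Or.inr rfl) hMa).1
    rw [← cAB.eq] at h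
    refine (?_ : E.dB.z * (b * 1 * (a * E.dB.z)) = a * b) ▸ h
    rw [mul_one]
    calc E.dB.z * (b * (a * E.dB.z)) = (E.dB.z * (b * a)) * E.dB.z := by group
      _ = (b * a) * E.dB.z * E.dB.z := by rw [(cB'.mul_right cB).eq]
      _ = _ := by rw [mul_assoc, E.dB.hzz, mul_one, E.hc ha hb]
  · have h := (E.mixed ha haR (Or.inr rfl) hMa hb hbR (Or.inr rfl) hMb).2
    refine (?_ : E.dA.z * E.dB.z * (a * E.dB.z * (b * E.swap.dB.z)) = a * b) ▸ h
    simp only [swap]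
    calc E.dA.z * E.dB.z * (a * E.dB.z * (b * E.dA.z))
        = E.dA.z * (E.dB.z * a) * (E.dB.z * b) * E.dA.z := by group
      _ = E.dA.z * (a * (E.dB.z * E.dB.z) * b) * E.dA.z := by rw [cB.eq]; group
      _ = (E.dA.z * (a * b)) * E.dA.z := by rw [E.dB.hzz, mul_one]
      _ = (a * b) * E.dA.z * E.dA.z := by rw [(cA.mul_right cA').eq]
      _ = _ := by rw [mul_assoc, E.dA.hzz, mul_one]

/-- The conjugates of the central involution in the Sylow subgroup. -/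
theorem class_of_z (hA : ∀ a ∈ E.A, a ∉ E.dA.R → ∃ e, E.Val e ∧ E.Moved a e)
    (hB : ∀ b ∈ E.B, b ∉ E.dB.R → ∃ f, E.swap.Val f ∧ E.swap.Moved b f)
    {a b : G} (ha : a ∈ E.A) (hb : b ∈ E.B) (h : IsConj E.dA.z (a * b)) :
    (a = E.dA.z ∧ b = 1) ∨ (a ∉ E.dA.R ∧ E.Val b ∧ E.Moved a b) := by
  obtain ⟨g, hg⟩ := isConj_iff.1 h
  obtain ⟨haa, hbb⟩ := E.sq_one ha hb (by rw [← hg, conj_mul, E.dA.hzz]; group)
  by_cases haR : a ∈ E.dA.R
  · have haC : E.Cen a := by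
      rcases E.dA.hRinv a haR haa with rfl | rfl
      exacts [E.cen_one, E.cen_zA]
    by_cases hbR : b ∈ E.dB.R
    · have hbC : E.Cen b := by
        rcases E.dB.hRinv b hbR hbb with rfl | rfl
        exacts [E.cen_one, E.cen_zB]
      have : a * b = E.dA.z * 1 := by
        rw [mul_one, ← hg]; exact E.conj_eq g E.cen_zA (hg ▸ E.cen_mul haC hbC)
      exact Or.inl (E.coord_eq ha E.dA.hzD hb (one_mem _) this)
    · exfalso
      obtain ⟨f, hf, k, hk1, hk2⟩ := hB b hb hbR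
      simp only [swap] at hk1 hk2
      have hfC : E.Cen f := E.swap.val_cen hf
      have hkf : k * f * k⁻¹ = f := by
        rcases hf with rfl | rfl
        exacts [by group, hk1]
      have hka : k * a * k⁻¹ = a := by
        rcases E.dA.hRinv a haR haa with rfl | rfl
        exacts [by group, hk1]
      have h2 : k * (a * (E.dB.z * f)) * k⁻¹ = a * b := by
        rw [← conj_mul, ← conj_mul, hka, hk2, hkf]
        rw [mul_assoc b, hfC.2.1, mul_one]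
      have hC : E.Cen (a * (E.dB.z * f)) := E.cen_mul haC (E.cen_mul E.cen_zB hfC)
      have h3 : a * (E.dB.z * f) = E.dA.z := by
        by_contra hne
        exact E.not_isConj E.cen_zA hC (Ne.symm hne)
          (h.trans (isConj_iff.2 ⟨k, h2⟩ : IsConj _ (a * b)).symm)
      have h4 : (a * f) * E.dB.z = E.dA.z * 1 := by
        rw [mul_one, mul_assoc, ← hfC.2.2 _ E.cen_zB.1, h3]
      exact E.dB.hz1 (E.coord_eq (mul_mem ha (E.swap.val_mem hf)) E.dA.hzD E.dB.hzD (one_mem _)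
        h4).2
  · obtain ⟨e, he, hM⟩ := hA a ha haR
    by_cases hbR : b ∈ E.dB.R
    · have hbV : E.Val b := E.dB.hRinv b hbR hbb
      obtain ⟨k, hk1, hk2⟩ := hM
      have hke : ∀ x, E.Val x → k * x * k⁻¹ = x := by
        rintro x (rfl | rfl)
        exacts [by group, hk1]
      have h2 : k * (E.dA.z * (e * b)) * k⁻¹ = a * b := by
        rw [← conj_mul, ← conj_mul, hk2, hke e he, hke b hbV]
        calc a * e * (e * b) = a * (e * e) * b := by group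
          _ = _ := by rw [(E.val_cen he).2.1, mul_one]
      have h3 : E.dA.z * (e * b) = E.dA.z := by
        by_contra hne
        exact E.not_isConj E.cen_zA (E.cen_mul E.cen_zA (E.cen_mul (E.val_cen he) (E.val_cen hbV)))
          (Ne.symm hne) (h.trans (isConj_iff.2 ⟨k, h2⟩ : IsConj _ (a * b)).symm)
      rw [mul_eq_left, mul_eq_one_iff_inv_eq, inv_eq_of_mul_eq_one_right (E.val_cen he).2.1] at h3
      exact Or.inr ⟨haR, hbV, h3 ▸ ⟨k, hk1, hk2⟩⟩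
    · exact absurd (h.trans (E.refl_refl hA hB ha haR hb hbR).symm)
        (E.not_isConj E.cen_zA E.cen_z3 E.z3_ne_zA.symm)

/-- The elements of the Sylow subgroup whose first coordinate lies in `K`. -/
def above (K : Subgroup G) : Subgroup G where
  carrier := {u | ∃ a ∈ E.A ⊓ K, ∃ b ∈ E.B, a * b = u}
  one_mem' := ⟨1, one_mem _, 1, one_mem _, one_mul 1⟩
  mul_mem' := by
    rintro _ _ ⟨a, ha, b, hb, rfl⟩ ⟨a', ha', b', hb', rfl⟩
    exact ⟨a * a', mul_mem ha ha', b * b', mul_mem hb hb', (E.mul_split hb ha'.1).symm⟩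
  inv_mem' := by
    rintro _ ⟨a, ha, b, hb, rfl⟩
    refine ⟨a⁻¹, inv_mem ha, b⁻¹, inv_mem hb, ?_⟩
    rw [mul_inv_rev]
    exact E.hc (inv_mem ha.1) (inv_mem hb)

theorem mem_over {K : Subgroup G} {a b : G} (ha : a ∈ E.A) (hb : b ∈ E.B) :
    a * b ∈ E.above K ↔ a ∈ K := by
  refine ⟨?_, fun h => ⟨a, ⟨ha, h⟩, b, hb, rfl⟩⟩
  rintro ⟨a', ha', b', hb', h⟩
  exact (E.coord_eq ha'.1 ha hb' hb h).1 ▸ ha'.2

theorem mem_over_left {K : Subgroup G} {a : G} (ha : a ∈ E.A) : a ∈ E.above K ↔ a ∈ K := by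
  simpa using E.mem_over (K := K) ha (one_mem E.B)

/-- Multiplicative parity on the first factor. -/
def Par (K : Subgroup G) : Prop := ∀ x ∈ E.A, ∀ y ∈ E.A, (x * y ∈ K ↔ (x ∈ K ↔ y ∈ K))

theorem over_mul_iff {K : Subgroup G} (hK : E.Par K) {u v : G} (hu : u ∈ (E.S : Subgroup G))
    (hv : v ∈ (E.S : Subgroup G)) : u * v ∈ E.above K ↔ (u ∈ E.above K ↔ v ∈ E.above K) := by
  obtain ⟨a, ha, b, hb, rfl⟩ := exists_split E.hp hu
  obtain ⟨a', ha', b', hb', rfl⟩ := exists_split E.hp hv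
  rw [E.mul_split hb ha', E.mem_over (mul_mem ha ha') (mul_mem hb hb'), E.mem_over ha hb,
    E.mem_over ha' hb', hK a ha a' ha']

theorem over_conj_iff {K : Subgroup G} (hK : E.Par K) {u v : G} (hu : u ∈ (E.S : Subgroup G))
    (hv : v ∈ (E.S : Subgroup G)) : u * v * u⁻¹ ∈ E.above K ↔ v ∈ E.above K := by
  rw [E.over_mul_iff hK (mul_mem hu hv) (inv_mem hu), E.over_mul_iff hK hu hv, inv_mem_iff]
  tauto

theorem over_relIndex {K : Subgroup G} (hK : E.Par K) {r : G} (hr : r ∈ E.A) (hrK : r ∉ K) :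
    (E.above K).relIndex (E.S : Subgroup G) = 2 := by
  rw [relIndex, index_eq_two_iff]
  refine ⟨⟨r, E.SA hr⟩, fun x => ?_⟩
  have h := E.over_mul_iff hK x.2 (E.SA hr)
  have h' : r ∉ E.above K := fun h' => hrK ((E.mem_over_left hr).1 h')
  simp only [mem_subgroupOf, Subgroup.coe_mul]
  by_cases hx : (x : G) ∈ E.above K <;> simp [h, h', hx]

/-- Odd elements normalizing `A × ⟨s, z⟩` respect both parities. -/
theorem swap_side_parity {U : Subgroup G} {s : G} (hs : s ∈ E.B) (hsR : s ∉ E.dB.R)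
    (hU : ∀ u : G, u ∈ U ↔ ∃ v ∈ E.swap.four s, ∃ a ∈ E.A, v * a = u)
    {n : G} (hn : n ∈ normalizer (U : Set G)) (ho : Odd (orderOf n)) :
    ∀ u ∈ U, (n * u * n⁻¹ ∈ E.above E.dA.K₀ ↔ u ∈ E.above E.dA.K₀) ∧
      (n * u * n⁻¹ ∈ E.above E.dA.K₁ ↔ u ∈ E.above E.dA.K₁) := by
  have hfB : ∀ v ∈ E.swap.four s, v ∈ E.B := fun v hv => E.swap.four_mem hs hv
  have hAU : ∀ a ∈ E.A, a ∈ U := fun a ha => (hU a).2 ⟨1, Or.inl rfl, a, ha, one_mul a⟩
  have hUS : ∀ u ∈ U, u ∈ (E.S : Subgroup G) := by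
    intro u hu
    obtain ⟨v, hv, a, ha, rfl⟩ := (hU u).1 hu
    exact mul_mem (E.SB (hfB v hv)) (E.SA ha)
  have hUn : ∀ u ∈ U, n * u * n⁻¹ ∈ U := fun u hu => (mem_normalizer_iff.1 hn u).1 hu
  have hsc : ∀ b ∈ E.B, ∀ b' ∈ E.B, b ∈ E.swap.four s → b' ∈ E.swap.four s → b * b' = b' * b := by
    intro b hb b' hb' hv hv'
    have h1 : ∀ x ∈ E.swap.four s, Commute x s ∧ Commute x E.dB.z := by
      intro x hx
      refine ⟨?_, (E.dB.hzc x (hfB x hx))⟩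
      rcases hx with rfl | rfl | rfl | rfl
      · exact Commute.one_left _
      · exact (E.dB.hzc s hs).symm
      · exact Commute.refl _
      · exact (Commute.refl _).mul_left (E.dB.hzc _ hs).symm
    obtain ⟨h2, h3⟩ := h1 b hv
    rcases hv' with rfl | rfl | rfl | rfl
    exacts [by simp, h3, h2, (h2.mul_right h3).eq]
  have hcentral : ∀ w ∈ U, w * w = 1 →
      (∀ u ∈ U, w * u = u * w) → ∀ K : Subgroup G, E.dA.z ∈ K → w ∈ E.above K := by
    intro w hw hww hc K hzK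
    obtain ⟨v, hv, a, ha, rfl⟩ := (hU w).1 hw
    have he : v * a = a * v := (E.hc ha (hfB v hv)).symm
    rw [he] at hww hc ⊢
    have h1 := (E.comm_split ha (hfB v hv) E.dA.hqD (one_mem _)
      (by rw [mul_one]; exact hc _ (hAU _ E.dA.hqD))).1
    rw [E.mem_over ha (hfB v hv)]
    rcases E.dA.hRinv a (E.dA.cent_q ha h1) (E.sq_one ha (hfB v hv) hww).1 with rfl | rfl
    exacts [one_mem _, hzK]
  have agree : ∀ K K' : Subgroup G, E.Par K → E.Par K' → E.dA.z ∈ K → E.dA.z ∈ K' →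
      (n * E.dA.r₀ * n⁻¹ ∈ E.above K ↔ E.dA.r₀ ∈ K') →
      (n * E.dA.r₁ * n⁻¹ ∈ E.above K ↔ E.dA.r₁ ∈ K') →
      ∀ u ∈ U, (n * u * n⁻¹ ∈ E.above K ↔ u ∈ E.above K') := by
    intro K K' hK hK' hzK hzK' h₀ h₁
    let X : Subgroup G :=
      { carrier := {u | u ∈ U ∧ (n * u * n⁻¹ ∈ E.above K ↔ u ∈ E.above K')}
        one_mem' := ⟨one_mem _, by simp [one_mem]⟩
        mul_mem' := fun {x y} hx hy => ⟨mul_mem hx.1 hy.1, by
          rw [show n * (x * y) * n⁻¹ = n * x * n⁻¹ * (n * y * n⁻¹) by group,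
            E.over_mul_iff hK (hUS _ (hUn x hx.1)) (hUS _ (hUn y hy.1)),
            E.over_mul_iff hK' (hUS _ hx.1) (hUS _ hy.1), hx.2, hy.2]⟩
        inv_mem' := fun {x} hx => ⟨inv_mem hx.1, by
          rw [show n * x⁻¹ * n⁻¹ = (n * x * n⁻¹)⁻¹ by group, inv_mem_iff, inv_mem_iff]
          exact hx.2⟩ }
    have hr : ∀ r ∈ E.A, (n * r * n⁻¹ ∈ E.above K ↔ r ∈ K') → r ∈ X := fun r hr h =>
      ⟨hAU r hr, by rw [E.mem_over_left hr]; exact h⟩
    have hconj : ∀ c ∈ E.A, ∀ x ∈ X, c * x * c⁻¹ ∈ X := by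
      intro c hc x hx
      refine ⟨mul_mem (mul_mem (hAU c hc) hx.1) (inv_mem (hAU c hc)), ?_⟩
      rw [show n * (c * x * c⁻¹) * n⁻¹ = n * c * n⁻¹ * (n * x * n⁻¹) * (n * c * n⁻¹)⁻¹ by group,
        E.over_conj_iff hK (hUS _ (hUn c (hAU c hc))) (hUS _ (hUn x hx.1)),
        E.over_conj_iff hK' (E.SA hc) (hUS _ hx.1)]
      exact hx.2
    have hrefl : ∀ x ∈ E.A, x ∉ E.dA.R → x ∈ X := by
      intro x hx hxR
      obtain ⟨c, hc, h | h⟩ := E.dA.cover x hx hxR <;> rw [← h]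
      exacts [hconj c hc _ (hr _ E.dA.hr₀.1 h₀), hconj c hc _ (hr _ E.dA.hr₁.1 h₁)]
    intro u hu
    obtain ⟨v, hv, a, ha, rfl⟩ := (hU u).1 hu
    suffices h : v * a ∈ X from h.2
    refine mul_mem ?_ ?_
    · have hvU : v ∈ U := (hU v).2 ⟨v, hv, 1, one_mem _, mul_one v⟩
      have hvc : ∀ u ∈ U, v * u = u * v := by
        intro u hu
        obtain ⟨v', hv', a', ha', rfl⟩ := (hU u).1 hu
        rw [← mul_assoc, hsc v (hfB v hv) v' (hfB v' hv') hv hv', mul_assoc,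
          ← E.hc ha' (hfB v hv), ← mul_assoc]
      refine ⟨hvU, iff_of_true (hcentral _ (hUn v hvU) ?_ ?_ K hzK)
        (hcentral v hvU (E.swap.four_sq hs hsR hv) hvc K' hzK')⟩
      · rw [conj_mul, E.swap.four_sq hs hsR hv]; group
      · intro u hu
        have := hvc _ ((mem_normalizer_iff''.1 hn u).1 hu)
        calc n * v * n⁻¹ * u = n * (v * (n⁻¹ * u * n)) * n⁻¹ := by group
          _ = _ := by rw [this]; group
    · by_cases haR : a ∈ E.dA.R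
      · have h2 : a = (a * E.dA.r₀) * E.dA.r₀ := by
          rw [mul_assoc, E.dA.refl _ E.dA.hr₀.1 E.dA.hr₀.2, mul_one]
        rw [h2]
        exact mul_mem (hrefl _ (mul_mem ha E.dA.hr₀.1) (E.dA.mul_refl haR E.dA.hr₀.2))
          (hrefl _ E.dA.hr₀.1 E.dA.hr₀.2)
      · exact hrefl a ha haR
  have hP₀ : E.Par E.dA.K₀ := fun x hx y hy => Dih.mul_mem_iff E.dA.hK₀ hx hy
  have hP₁ : E.Par E.dA.K₁ := fun x hx y hy => Dih.mul_mem_iff E.dA.hK₁ hx hy
  have hPA : E.Par E.A := fun x hx y hy => by simp [hx, hy, mul_mem hx hy]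
  have hout : ∀ r ∈ E.A, r ∉ E.dA.R →
      (n * r * n⁻¹ ∈ E.above E.dA.K₀ ↔ n * r * n⁻¹ ∉ E.above E.dA.K₁) := by
    intro r hr hrR
    have hrU := hUn r (hAU r hr)
    obtain ⟨v, hv, a, ha, he⟩ := (hU _).1 hrU
    have he' : a * v = n * r * n⁻¹ := by rw [E.hc ha (hfB v hv), he]
    have haR : a ∉ E.dA.R := by
      intro haR
      have haa := (E.sq_one ha (hfB v hv) (by
        rw [he', conj_mul, E.dA.refl r hr hrR]; group)).1
      have hac : ∀ a' ∈ E.A, a * a' = a' * a := by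
        intro a' ha'
        rcases E.dA.hRinv a haR haa with rfl | rfl
        exacts [by simp, (E.dA.hzc a' ha').symm]
      have hwU := hUn _ (hAU _ E.dA.hqD)
      obtain ⟨v', hv', a', ha', he''⟩ := (hU _).1 hwU
      have h1 : (a * v) * (a' * v') = (a' * v') * (a * v) :=
        E.comm_mul ha (hfB v hv) ha' (hfB v' hv') (hac a' ha') (hsc v (hfB v hv) v' (hfB v' hv') hv hv')
      rw [he', E.hc ha' (hfB v' hv'), he'', conj_mul, conj_mul] at h1
      exact hrR (E.dA.cent_q hr (mul_left_cancel (mul_right_cancel h1)))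
    rw [← he', E.mem_over ha (hfB v hv), E.mem_over ha (hfB v hv)]
    rcases E.dA.class_cases ha haR with ⟨h1, h2, -⟩ | ⟨h1, h2, -⟩ <;> simp [h1, h2]
  have key₀ := hout _ E.dA.hr₀.1 E.dA.hr₀.2
  have key₁ := hout _ E.dA.hr₁.1 E.dA.hr₁.2
  have imposs : ∀ K : Subgroup G, E.Par K → E.dA.z ∈ K → ∀ r ∈ E.A, r ∉ K →
      n * E.dA.r₀ * n⁻¹ ∈ E.above K → n * E.dA.r₁ * n⁻¹ ∈ E.above K → False := by
    intro K hK hzK r hr hrK h₀ h₁
    have hu : n⁻¹ * r * n ∈ U := (mem_normalizer_iff''.1 hn r).1 (hAU r hr)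
    obtain ⟨x, hx, y, hy, hxy⟩ := exists_split E.hp (hUS _ hu)
    have h := (agree K E.A hK hPA hzK E.dA.hzD (iff_of_true h₀ E.dA.hr₀.1)
      (iff_of_true h₁ E.dA.hr₁.1) _ hu).2 (hxy ▸ (E.mem_over hx hy).2 hx)
    rw [show n * (n⁻¹ * r * n) * n⁻¹ = r by group] at h
    exact hrK ((E.mem_over_left hr).1 h)
  by_cases h0 : n * E.dA.r₀ * n⁻¹ ∈ E.above E.dA.K₀ <;>
    by_cases h1 : n * E.dA.r₁ * n⁻¹ ∈ E.above E.dA.K₀
  · exact (imposs _ hP₀ E.dA.zK₀ _ E.dA.hr₀.1 E.dA.r₀K₀ h0 h1).elim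
  · exfalso
    have h0' := key₀.1 h0
    have h1' : n * E.dA.r₁ * n⁻¹ ∈ E.above E.dA.K₁ := by tauto
    have s01 := agree E.dA.K₀ E.dA.K₁ hP₀ hP₁ E.dA.zK₀ E.dA.zK₁ (iff_of_true h0 E.dA.r₀K₁)
      (iff_of_false h1 E.dA.r₁K₁)
    have s10 := agree E.dA.K₁ E.dA.K₀ hP₁ hP₀ E.dA.zK₁ E.dA.zK₀ (iff_of_false h0' E.dA.r₀K₀)
      (iff_of_true h1' E.dA.r₁K₀)
    have hrep : ∀ j : ℕ, ∀ u ∈ U, n ^ (2 * j) * u * (n ^ (2 * j))⁻¹ ∈ U ∧
        (n ^ (2 * j) * u * (n ^ (2 * j))⁻¹ ∈ E.above E.dA.K₀ ↔ u ∈ E.above E.dA.K₀) := by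
      intro j
      induction j with
      | zero => intro u hu; simp [hu]
      | succ j ih =>
        intro u hu
        obtain ⟨h2, h3⟩ := ih u hu
        have e : n ^ (2 * (j + 1)) * u * (n ^ (2 * (j + 1)))⁻¹
            = n * (n * (n ^ (2 * j) * u * (n ^ (2 * j))⁻¹) * n⁻¹) * n⁻¹ := by
          rw [show 2 * (j + 1) = 2 * j + 1 + 1 by ring, pow_succ', pow_succ']
          group
        rw [e]
        refine ⟨hUn _ (hUn _ h2), ?_⟩
        rw [s01 _ (hUn _ h2), s10 _ h2, h3]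
    obtain ⟨j, hj⟩ := ho
    have hr0U := hAU _ E.dA.hr₀.1
    have h4 := (hrep j _ (hUn _ hr0U)).2
    have e : n ^ (2 * j) * (n * E.dA.r₀ * n⁻¹) * (n ^ (2 * j))⁻¹ = E.dA.r₀ := by
      calc n ^ (2 * j) * (n * E.dA.r₀ * n⁻¹) * (n ^ (2 * j))⁻¹
          = n ^ (2 * j + 1) * E.dA.r₀ * (n ^ (2 * j + 1))⁻¹ := by rw [pow_succ]; group
        _ = _ := by rw [← hj, pow_orderOf_eq_one]; group
    rw [e, E.mem_over_left E.dA.hr₀.1, iff_true_intro h0, iff_true] at h4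
    exact E.dA.r₀K₀ h4
  · have h0' : n * E.dA.r₀ * n⁻¹ ∈ E.above E.dA.K₁ := by tauto
    have h1' := key₁.1 h1
    exact fun u hu => ⟨agree _ _ hP₀ hP₀ E.dA.zK₀ E.dA.zK₀ (iff_of_false h0 E.dA.r₀K₀)
        (iff_of_true h1 E.dA.r₁K₀) u hu,
      agree _ _ hP₁ hP₁ E.dA.zK₁ E.dA.zK₁ (iff_of_true h0' E.dA.r₀K₁)
        (iff_of_false h1' E.dA.r₁K₁) u hu⟩
  · exact (imposs _ hP₁ E.dA.zK₁ _ E.dA.hr₁.1 E.dA.r₁K₁ (by tauto) (by tauto)).elim

/-- Odd elements normalizing `⟨r, z⟩ × B` and fixing `z` centralize. -/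
theorem side_cases {U : Subgroup G} {r : G} (hr : r ∈ E.A) (hrR : r ∉ E.dA.R) (hUS : U ≤ E.S)
    (hU : ∀ u : G, u ∈ U ↔ ∃ v ∈ E.four r, ∃ b ∈ E.B, v * b = u)
    {n : G} (hn : n ∈ normalizer (U : Set G)) (ho : Odd (orderOf n)) :
    (∀ u ∈ U, n * u * n⁻¹ = u) ∨ ∃ v, v ∈ E.four r ∧ v ∉ E.dA.R ∧ ∃ e, E.Val e ∧ E.Moved v e := by
  have hmem : ∀ v ∈ E.four r, v ∈ U := fun v hv => (hU v).2 ⟨v, hv, 1, one_mem _, mul_one v⟩
  have hBU : ∀ b ∈ E.B, b ∈ U := fun b hb => (hU b).2 ⟨1, Or.inl rfl, b, hb, one_mul b⟩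
  let V : Subgroup G := E.A ⊓ U
  have hV4 : ∀ v ∈ V, v ∈ E.four r := by
    intro v hv
    obtain ⟨v', hv', b, hb, he⟩ := (hU v).1 hv.2
    have := E.coord_eq (E.four_mem hr hv') hv.1 hb (one_mem _) (by rw [he, mul_one])
    exact this.1 ▸ hv'
  have hFT : FourTimes E.A E.B U V := by
    refine ⟨inf_le_left, inf_le_right, fun v hv => E.four_sq hr hrR (hV4 v hv), fun u hu => ?_⟩
    obtain ⟨v, hv, b, hb, rfl⟩ := (hU u).1 hu
    exact ⟨v, ⟨E.four_mem hr hv, hmem v hv⟩, b, hb, hBU b hb, rfl⟩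
  have hx : ∃ u ∈ U, u * u ≠ 1 := ⟨_, hBU _ E.dB.hqD, E.dB.q_ne⟩
  have hzB := hFT.fix_z E.hp E.dB (E.isP.to_le E.hp.2.1) hx hn
  have hvc : ∀ v ∈ V, ∀ u ∈ U, v * u = u * v := by
    intro v hv u hu
    obtain ⟨v', hv', b, hb, -, rfl⟩ := hFT.split u hu
    rw [← mul_assoc, hFT.comm_V E.hp v hv v' hv', mul_assoc, E.hc hv.1 hb, ← mul_assoc]
  have himage : ∀ x ∈ E.four r, ∃ v ∈ E.four r, ∃ e, E.Val e ∧ n * x * n⁻¹ = v * e := by
    intro x hx'
    have hxV : x ∈ V := ⟨E.four_mem hr hx', hmem x hx'⟩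
    obtain ⟨v, hv, h | h⟩ := hFT.omega_center E.hp E.dB hx
      ((mem_normalizer_iff.1 hn x).1 (hmem x hx'))
      (by rw [conj_mul, hFT.hVsq x hxV]; group) (fun u hu => by
        have := hvc x hxV _ ((mem_normalizer_iff''.1 hn u).1 hu)
        calc n * x * n⁻¹ * u = n * (x * (n⁻¹ * u * n)) * n⁻¹ := by group
          _ = _ := by rw [this]; group)
    · exact ⟨v, hV4 v hv, 1, Or.inl rfl, by rw [h, mul_one]⟩
    · exact ⟨v, hV4 v hv, _, Or.inr rfl, h⟩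
  have hsmall : ∀ v ∈ E.four r, v ∈ E.dA.R → E.Cen v := by
    intro v hv hvR
    rcases E.dA.hRinv v hvR (E.four_sq hr hrR hv) with rfl | rfl
    exacts [E.cen_one, E.cen_zA]
  obtain ⟨v, hv, e, he, hzA⟩ := himage _ (Or.inr (Or.inl rfl))
  by_cases hvR : v ∈ E.dA.R
  swap
  · exact Or.inr ⟨v, hv, hvR, e, he, n, hzB, hzA⟩
  refine Or.inl (hFT.centralizes E.hp E.dB E.isP hUS hx hn ho ?_)
  have hzA' : n * E.dA.z * n⁻¹ = E.dA.z :=
    E.conj_eq n E.cen_zA (hzA ▸ E.cen_mul (hsmall v hv hvR) (E.val_cen he))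
  have hfix : ∀ c, E.Cen c → n * c * n⁻¹ = c := by
    intro c hc
    rcases E.cen_cases hc with rfl | rfl | rfl | rfl
    exacts [by group, hzA', hzB, by rw [← conj_mul, hzA', hzB]]
  have hr' : n * r * n⁻¹ = r := by
    obtain ⟨w, hw, f, hf, hwe⟩ := himage r (Or.inr (Or.inr (Or.inl rfl)))
    have hwR : w ∉ E.dA.R := fun hwR => by
      have hC := E.cen_mul (hsmall w hw hwR) (E.val_cen hf)
      have h1 : r = w * f := mul_left_cancel (mul_right_cancel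
        (hwe.trans (hfix _ hC).symm : n * r * n⁻¹ = n * (w * f) * n⁻¹))
      have h2 := E.coord_eq hr (E.four_mem hr hw) (one_mem _) (E.val_mem hf) (by rw [mul_one]; exact h1)
      exact hrR (h2.1 ▸ hwR)
    obtain ⟨c, hc, hwc⟩ : ∃ c, E.Cen c ∧ w * f = r * c := by
      rcases hw with rfl | rfl | rfl | rfl
      · exact absurd (one_mem _) hwR
      · exact absurd E.dA.zR hwR
      · exact ⟨f, E.val_cen hf, rfl⟩
      · exact ⟨_, E.cen_mul E.cen_zA (E.val_cen hf), mul_assoc _ _ _⟩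
    have hc1 : c = 1 := eq_one_of_odd_shift ho (k := 1) (by rw [pow_one, pow_two]; exact hc.2.1)
      (hwe.trans hwc) (hfix c hc)
    rw [hwe, hwc, hc1, mul_one]
  intro x hx'
  rcases hV4 x hx' with rfl | rfl | rfl | rfl
  exacts [by group, hzA', hr', by rw [← conj_mul, hr', hzA']]

/-- A class of reflections without fusion to the centre gives a subgroup of index two. -/
theorem exists_moved (h2 : ∀ N : Subgroup G, N.Normal → N.index ≠ 2) {K : Subgroup G} {r₀ : G}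
    (hKcase : K = E.dA.K₀ ∨ K = E.dA.K₁) (hr₀ : r₀ ∈ E.A) (hr₀K : r₀ ∉ K)
    (hcover : ∀ x ∈ E.A, x ∉ E.dA.R → x ∉ K → ∃ c ∈ E.A, c * r₀ * c⁻¹ = x) :
    ∃ e, E.Val e ∧ E.Moved r₀ e := by
  by_contra hcon
  have hK2 : K.relIndex E.A = 2 := by
    rcases hKcase with rfl | rfl
    exacts [E.dA.hK₀, E.dA.hK₁]
  have hzK : E.dA.z ∈ K := by
    rcases hKcase with rfl | rfl
    exacts [E.dA.zK₀, E.dA.zK₁]
  have hPar : E.Par K := fun x hx y hy => Dih.mul_mem_iff hK2 hx hy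
  have hno : ∀ x ∈ E.A, x ∉ E.dA.R → x ∉ K → ∀ e, E.Val e → ¬ E.Moved x e := by
    intro x hx hxR hxK e he hM
    obtain ⟨c, hc, rfl⟩ := hcover x hx hxR hxK
    refine hcon ⟨e, he, ?_⟩
    have := E.moved_conj he (inv_mem hc) hM
    rwa [show c⁻¹ * (c * r₀ * c⁻¹) * c⁻¹⁻¹ = r₀ by group] at this
  suffices hinv : ∀ a ∈ (E.S : Subgroup G), ∀ g : G, g * a * g⁻¹ ∈ (E.S : Subgroup G) →
      (g * a * g⁻¹ ∈ E.above K ↔ a ∈ E.above K) by
    obtain ⟨M, hM, hMi⟩ := exists_index_two E.S (E.above K) (E.over_relIndex hPar hr₀ hr₀K) hinv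
    exact h2 M hM hMi
  intro a ha g hg
  refine iff_of_eq (fusion_invariant E.S (fun u => u ∈ E.above K) ?_ ?_ a ha g hg)
  · intro y hy t ht
    obtain ⟨s, hs, he⟩ := E.norm_inner hy
    simp only [he t ht]
    exact propext (E.over_conj_iff hPar hs ht)
  intro U hF n hn ho t ht
  refine propext ?_
  rcases E.fam_cases hF hn ho with h | ⟨r, hr, hrR, hU⟩ | ⟨s, hs, hsR, hU⟩
  · rw [h t ht]
  · by_cases hrK : r ∈ K
    · have hall : ∀ u ∈ U, u ∈ E.above K := by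
        intro u hu
        obtain ⟨v, hv, b, hb, rfl⟩ := (hU u).1 hu
        refine ⟨v, ⟨E.four_mem hr hv, ?_⟩, b, hb, rfl⟩
        rcases hv with rfl | rfl | rfl | rfl
        exacts [one_mem _, hzK, hrK, mul_mem hrK hzK]
      exact iff_of_true (hall _ ((mem_normalizer_iff.1 hn t).1 ht)) (hall t ht)
    · rcases E.side_cases hr hrR hF.1.le hU hn ho with h | ⟨v, hv, hvR, e, he, hMv⟩
      · rw [h t ht]
      · refine absurd hMv (hno v (E.four_mem hr hv) hvR ?_ e he)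
        rcases hv with rfl | rfl | rfl | rfl
        · exact absurd (one_mem _) hvR
        · exact absurd E.dA.zR hvR
        · exact hrK
        · exact fun h => hrK ((mul_mem_cancel_right hzK).1 h)
  · have h := E.swap_side_parity hs hsR hU hn ho t ht
    rcases hKcase with rfl | rfl
    exacts [h.1, h.2]

/-- The shifts form a homomorphism. -/
theorem exists_eta (h2 : ∀ N : Subgroup G, N.Normal → N.index ≠ 2) :
    ∃ η : G → G, (∀ a ∈ E.A, E.Val (η a)) ∧ η E.dA.z = 1 ∧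
      (∀ a ∈ E.A, ∀ a' ∈ E.A, η (a * a') = η a * η a') ∧
      ∀ a ∈ E.A, a ∉ E.dA.R → E.Moved a (η a) := by
  obtain ⟨e₀, he₀, hM₀⟩ := E.exists_moved h2 (Or.inl rfl) E.dA.hr₀.1 E.dA.r₀K₀ fun x hx hxR hxK => by
    rcases E.dA.class_cases hx hxR with ⟨-, -, h⟩ | ⟨h, -⟩
    exacts [h, absurd h hxK]
  obtain ⟨e₁, he₁, hM₁⟩ := E.exists_moved h2 (Or.inr rfl) E.dA.hr₁.1 E.dA.r₁K₁ fun x hx hxR hxK => by
    rcases E.dA.class_cases hx hxR with ⟨-, h, -⟩ | ⟨-, -, h⟩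
    exacts [absurd h hxK, h]
  let χ₀ : G → G := fun a => if a ∈ E.dA.K₀ then 1 else e₀
  let χ₁ : G → G := fun a => if a ∈ E.dA.K₁ then 1 else e₁
  have hval : ∀ a, E.Val (χ₀ a * χ₁ a) := by
    intro a
    have h0 : E.Val (χ₀ a) := by
      simp only [χ₀]; split_ifs
      exacts [Or.inl rfl, he₀]
    have h1 : E.Val (χ₁ a) := by
      simp only [χ₁]; split_ifs
      exacts [Or.inl rfl, he₁]
    rcases h0 with h | h <;> rcases h1 with h' | h' <;> rw [h, h']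
    exacts [Or.inl (one_mul 1), Or.inr (one_mul _), Or.inr (mul_one _), Or.inl E.dB.hzz]
  have hmul : ∀ {K : Subgroup G}, K.relIndex E.A = 2 → ∀ {e : G}, e * e = 1 → ∀ a ∈ E.A, ∀ a' ∈ E.A,
      (if a * a' ∈ K then 1 else e) = (if a ∈ K then 1 else e) * (if a' ∈ K then 1 else e) := by
    intro K hK e he a ha a' ha'
    have h := Dih.mul_mem_iff hK ha ha'
    by_cases p : a ∈ K <;> by_cases p' : a' ∈ K <;> simp [p, p', h, he]
  refine ⟨fun a => χ₀ a * χ₁ a, fun a _ => hval a, ?_, ?_, ?_⟩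
  · simp [χ₀, χ₁, E.dA.zK₀, E.dA.zK₁]
  · intro a ha a' ha'
    have hc : ∀ x : G, E.Val x → ∀ y : G, E.Val y → x * y = y * x := fun x hx y hy =>
      E.comm_cen (E.val_cen hx) (E.val_cen hy).1
    have hv₁ : E.Val (χ₁ a) := by
      simp only [χ₁]; split_ifs
      exacts [Or.inl rfl, he₁]
    have hv₀ : E.Val (χ₀ a') := by
      simp only [χ₀]; split_ifs
      exacts [Or.inl rfl, he₀]
    show χ₀ (a * a') * χ₁ (a * a') = _
    rw [show χ₀ (a * a') = χ₀ a * χ₀ a' from hmul E.dA.hK₀ (E.val_cen he₀).2.1 a ha a' ha',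
      show χ₁ (a * a') = χ₁ a * χ₁ a' from hmul E.dA.hK₁ (E.val_cen he₁).2.1 a ha a' ha']
    show χ₀ a * χ₀ a' * (χ₁ a * χ₁ a') = χ₀ a * χ₁ a * (χ₀ a' * χ₁ a')
    rw [mul_assoc, ← mul_assoc (χ₀ a'), hc _ hv₀ _ hv₁]
    group
  · intro a ha haR
    rcases E.dA.class_cases ha haR with ⟨h0, h1, c, hc, rfl⟩ | ⟨h0, h1, c, hc, rfl⟩
    · simp only [χ₀, χ₁, h0, h1, if_true, if_false, mul_one]
      exact E.moved_conj he₀ hc hM₀
    · simp only [χ₀, χ₁, h0, h1, if_true, if_false, one_mul]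
      exact E.moved_conj he₁ hc hM₁

/-- The graph is strongly closed. -/
theorem graph_closed {η : G → G} (hval : ∀ a ∈ E.A, E.Val (η a)) (hz : η E.dA.z = 1)
    (hmul : ∀ a ∈ E.A, ∀ a' ∈ E.A, η (a * a') = η a * η a')
    (hmov : ∀ a ∈ E.A, a ∉ E.dA.R → E.Moved a (η a))
    (hB : ∀ b ∈ E.B, b ∉ E.dB.R → ∃ f, E.swap.Val f ∧ E.swap.Moved b f) :
    Cfsg.IsStronglyClosed
      (graph E.A E.B η (fun a ha => E.val_mem (hval a ha)) E.hp.2.2.1 hmul) (E.S : Subgroup G) := by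
  set T := graph E.A E.B η (fun a ha => E.val_mem (hval a ha)) E.hp.2.2.1 hmul with hT
  have hTS : T ≤ (E.S : Subgroup G) := by
    rintro _ ⟨a, ha, rfl⟩
    exact mul_mem (E.SA ha) (E.SB (E.val_mem (hval a ha)))
  have hA : ∀ a ∈ E.A, a ∉ E.dA.R → ∃ e, E.Val e ∧ E.Moved a e :=
    fun a ha haR => ⟨η a, hval a ha, hmov a ha haR⟩
  have hclass : ∀ x ∈ (E.S : Subgroup G), IsConj E.dA.z x → x ∈ T := by
    intro x hx h
    obtain ⟨a, ha, b, hb, rfl⟩ := exists_split E.hp hx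
    rcases E.class_of_z hA hB ha hb h with ⟨rfl, rfl⟩ | ⟨haR, hbV, hM⟩
    · exact ⟨_, ha, by rw [hz]⟩
    · refine ⟨a, ha, ?_⟩
      rcases hbV with rfl | rfl <;> rcases hval a ha with h' | h' <;> rw [h']
      · exact (E.moved_unique hM (h' ▸ hmov a ha haR)).elim
      · exact (E.moved_unique (h' ▸ hmov a ha haR) hM).elim
  have hinv : ∀ x ∈ T, x * x = 1 → ∀ n : G, n * x * n⁻¹ ∈ (E.S : Subgroup G) → n * x * n⁻¹ ∈ T := by
    intro x hx hxx n hn
    obtain ⟨a, ha, rfl⟩ := hx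
    have haa := (E.sq_one ha (E.val_mem (hval a ha)) hxx).1
    have h : a * η a = 1 ∨ IsConj E.dA.z (a * η a) := by
      by_cases haR : a ∈ E.dA.R
      · rcases E.dA.hRinv a haR haa with rfl | rfl
        · left
          have h := hmul 1 (one_mem _) 1 (one_mem _)
          rw [mul_one, left_eq_mul] at h
          rw [h, mul_one]
        · right; rw [hz, mul_one]
      · obtain ⟨g, -, hg⟩ := hmov a ha haR
        exact Or.inr (isConj_iff.2 ⟨g, hg⟩)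
    rcases h with h | h
    · rw [h, mul_one, mul_inv_cancel]; exact one_mem _
    · exact hclass _ hn (h.trans (isConj_iff.2 ⟨n, rfl⟩))
  have hT_S : ∀ s ∈ (E.S : Subgroup G), ∀ t ∈ T, s * t * s⁻¹ ∈ T := by
    rintro s hs _ ⟨x, hx, rfl⟩
    obtain ⟨a, ha, b, hb, rfl⟩ := exists_split E.hp hs
    refine ⟨a * x * a⁻¹, mul_mem (mul_mem ha hx) (inv_mem ha), ?_⟩
    rw [E.conj_split ha hb hx (E.val_mem (hval x hx))]
    congr 1
    have h1 : η (a * x * a⁻¹) = η x := by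
      rw [hmul _ (mul_mem ha hx) _ (inv_mem ha), hmul a ha x hx,
        E.comm_cen (E.val_cen (hval a ha)) (E.val_cen (hval x hx)).1, mul_assoc,
        ← hmul a ha _ (inv_mem ha), mul_inv_cancel]
      have h := hmul 1 (one_mem _) 1 (one_mem _)
      rw [mul_one, left_eq_mul] at h
      rw [h, mul_one]
    rw [h1, (E.val_cen (hval x hx)).2.2 b (E.SB hb), mul_inv_cancel_right]
  have hstep : ∀ U, Fam 2 (E.S : Subgroup G) U → ∀ n ∈ normalizer (U : Set G), Odd (orderOf n) →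
      ∀ t ∈ U, t ∈ T → n * t * n⁻¹ ∈ T := by
    intro U hF n hn ho t ht htT
    have hnS : ∀ u ∈ U, n * u * n⁻¹ ∈ (E.S : Subgroup G) :=
      fun u hu => hF.1.le ((mem_normalizer_iff.1 hn u).1 hu)
    rcases E.fam_cases hF hn ho with h | ⟨r, hr, hrR, hU⟩ | ⟨s, hs, hsR, hU⟩
    · rwa [h t ht]
    · obtain ⟨x, hx, rfl⟩ := htT
      obtain ⟨v, hv, b, hb, he⟩ := (hU _).1 ht
      have hvx := (E.coord_eq (E.four_mem hr hv) hx hb (E.val_mem (hval x hx)) he).1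
      refine hinv _ ⟨x, hx, rfl⟩ ?_ n (hnS _ ht)
      rw [E.sq_mul hx (E.val_mem (hval x hx)), (E.val_cen (hval x hx)).2.1, ← hvx,
        E.four_sq hr hrR hv, one_mul]
    · obtain ⟨x, hx, rfl⟩ := htT
      have hall : ∀ y ∈ E.A, y * η y ∈ U := by
        intro y hy
        refine (hU _).2 ⟨η y, ?_, y, hy, (E.hc hy (E.val_mem (hval y hy))).symm⟩
        rcases hval y hy with h | h <;> rw [h]
        exacts [Or.inl rfl, Or.inr (Or.inl rfl)]
      have hrefl : ∀ y ∈ E.A, y ∉ E.dA.R → n * (y * η y) * n⁻¹ ∈ T := by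
        intro y hy hyR
        refine hinv _ ⟨y, hy, rfl⟩ ?_ n (hnS _ (hall y hy))
        rw [E.sq_mul hy (E.val_mem (hval y hy)), E.dA.refl y hy hyR, (E.val_cen (hval y hy)).2.1,
          one_mul]
      by_cases hxR : x ∈ E.dA.R
      · have hy := mul_mem hx E.dA.hr₀.1
        have e : x * η x = (x * E.dA.r₀ * η (x * E.dA.r₀)) * (E.dA.r₀ * η E.dA.r₀) := by
          rw [E.mul_split (E.val_mem (hval _ hy)) E.dA.hr₀.1, ← hmul _ hy _ E.dA.hr₀.1,
            mul_assoc x, E.dA.refl _ E.dA.hr₀.1 E.dA.hr₀.2, mul_one]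
        rw [e, ← conj_mul]
        exact mul_mem (hrefl _ hy (E.dA.mul_refl hxR E.dA.hr₀.2))
          (hrefl _ E.dA.hr₀.1 E.dA.hr₀.2)
      · exact hrefl x hx hxR
  refine ⟨hTS, fun x hx g hg => ?_⟩
  refine (iff_of_eq (fusion_invariant E.S (fun u => u ∈ T) ?_ ?_ x (hTS hx) g hg)).2 hx
  · intro y hy t ht
    obtain ⟨s, hs, he⟩ := E.norm_inner hy
    simp only [he t ht]
    refine propext ⟨fun h => ?_, hT_S s hs t⟩
    have := hT_S s⁻¹ (inv_mem hs) _ h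
    simpa [mul_assoc] using this
  · intro U hF n hn ho t ht
    refine propext ⟨fun h => ?_, hstep U hF n hn ho t ht⟩
    have := hstep U hF n⁻¹ (inv_mem hn) (by rwa [orderOf_inv]) _
      ((mem_normalizer_iff.1 hn t).1 ht) h
    simpa [mul_assoc] using this

/-- Two strongly closed dihedral subgroups whose product is the Sylow subgroup. -/
theorem exists_closed (h2 : ∀ N : Subgroup G, N.Normal → N.index ≠ 2) :
    ∃ T₁ T₂ : Subgroup G, Cfsg.IsStronglyClosed T₁ (E.S : Subgroup G) ∧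
      Cfsg.IsStronglyClosed T₂ (E.S : Subgroup G) ∧
      Cfsg.IsInternalDirectProduct T₁ T₂ (E.S : Subgroup G) ∧
      Nonempty (E.A ≃* T₁) ∧ Nonempty (E.B ≃* T₂) := by
  obtain ⟨η, hval, hz, hmul, hmov⟩ := E.exists_eta h2
  obtain ⟨θ, hval', hz', hmul', hmov'⟩ := E.swap.exists_eta h2
  have hc1 := E.graph_closed hval hz hmul hmov fun b hb hbR => ⟨θ b, hval' b hb, hmov' b hb hbR⟩
  have hc2 := E.swap.graph_closed hval' hz' hmul' hmov'
    fun a ha haR => ⟨η a, hval a ha, hmov a ha haR⟩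
  have hθA : ∀ b ∈ E.B, θ b ∈ E.A := fun b hb => E.swap.val_mem (hval' b hb)
  refine ⟨_, _, hc1, hc2, ⟨hc1.1, hc2.1, ?_, ?_, ?_⟩, graph_equiv _ _ _ E.disj,
    graph_equiv _ _ _ E.swap.disj⟩
  · rintro _ ⟨x, hx, rfl⟩ _ ⟨y, hy, rfl⟩
    have h1 : Commute x (θ y) := ((E.swap.comm_cen (E.swap.val_cen (hval' y hy)) (E.SA hx)).symm)
    have h2 : Commute (η x) y := E.comm_cen (E.val_cen (hval x hx)) (E.SB hy)
    have h3 : Commute (η x) (θ y) := E.comm_cen (E.val_cen (hval x hx)) (E.SA (hθA y hy))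
    exact ((show Commute x y from E.hc hx hy).mul_right h1).mul_left (h2.mul_right h3)
  · rw [eq_bot_iff]
    rintro t ⟨⟨x, hx, rfl⟩, y, hy, he⟩
    change x * η x = y * θ y at he
    rw [← E.hc (hθA y hy) hy] at he
    obtain ⟨h1, h2⟩ := E.coord_eq hx (hθA y hy) (E.val_mem (hval x hx)) hy he
    have hone : η 1 = 1 := by
      have h := hmul 1 (one_mem _) 1 (one_mem _)
      rwa [mul_one, left_eq_mul] at h
    have hone' : θ 1 = 1 := by
      have h := hmul' 1 (one_mem _) 1 (one_mem _)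
      rwa [mul_one, left_eq_mul] at h
    have hx' : η x = 1 := by
      rw [h1]
      rcases hval' y hy with h | h <;> rw [h]
      exacts [hone, hz]
    rw [hx'] at h2
    subst h2
    rw [hone'] at h1
    rw [mem_bot, h1, hone, mul_one]
  · refine le_antisymm (sup_le hc1.1 hc2.1) ?_
    have hs := E.hp.2.2.2.2
    conv_lhs => rw [← hs]
    have key : ∀ F : Pair G, ∀ η θ : G → G, ∀ T₁ T₂ : Subgroup G,
        (∀ a ∈ F.A, F.Val (η a)) → θ F.dB.z = 1 → (∀ a ∈ F.A, a * η a ∈ T₁) →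
        (∀ b ∈ F.B, b * θ b ∈ T₂) → F.A ≤ T₁ ⊔ T₂ := by
      intro F η θ T₁ T₂ hv hθz h1 h2 a ha
      have hηa : η a ∈ T₁ ⊔ T₂ := by
        rcases hv a ha with h | h <;> rw [h]
        · exact one_mem _
        · have := h2 _ F.dB.hzD
          rw [hθz, mul_one] at this
          exact mem_sup_right this
      have := mul_mem (mem_sup_left (h1 a ha)) (inv_mem hηa)
      rwa [mul_inv_cancel_right] at this
    refine sup_le (key E η θ _ _ hval hz' (fun a ha => ⟨a, ha, rfl⟩) (fun b hb => ⟨b, hb, rfl⟩)) ?_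
    rw [sup_comm]
    exact key E.swap θ η _ _ hval' hz (fun a ha => ⟨a, ha, rfl⟩) (fun b hb => ⟨b, hb, rfl⟩)

end Pair

end CfsgLib.DihTimesDih
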