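import Cfsg.Agent.Lib.DihTimesDih.BigT

/-!
One factor a four group, the other dihedral of order at least eight: the two strongly closed subgroups.
-/

set_option autoImplicit false
set_option linter.unusedSectionVars false

open Subgroup CfsgLib.ConjFunctor CfsgLib.LocEven.StrongAlperin
open scoped Classical

namespace CfsgLib.DihTimesDih

variable {G : Type*} [Group G]

/-- A Sylow 2-subgroup which is dihedral times a four group. -/
structure FPair (G : Type*) [Group G] where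
  S : Sylow 2 G
  A : Subgroup G
  B : Subgroup G
  dA : Dih A
  hp : Cfsg.IsInternalDirectProduct A B (S : Subgroup G)
  hBsq : ∀ b ∈ B, b * b = 1
  hB4 : Nat.card B = 4

namespace FPair

variable (E : FPair G)

theorem hc {a b : G} (ha : a ∈ E.A) (hb : b ∈ E.B) : a * b = b * a := E.hp.2.2.1 a ha b hb

theorem SA {a : G} (ha : a ∈ E.A) : a ∈ (E.S : Subgroup G) := E.hp.1 ha

theorem SB {b : G} (hb : b ∈ E.B) : b ∈ (E.S : Subgroup G) := E.hp.2.1 hb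

theorem disj : E.A ⊓ E.B = ⊥ := E.hp.2.2.2.1

theorem coord_eq {a a' b b' : G} (ha : a ∈ E.A) (ha' : a' ∈ E.A) (hb : b ∈ E.B) (hb' : b' ∈ E.B)
    (h : a * b = a' * b') : a = a' ∧ b = b' :=
  split_unique E.disj ha ha' hb hb' h

theorem mul_split {a b a' b' : G} (hb : b ∈ E.B) (ha' : a' ∈ E.A) :
    (a * b) * (a' * b') = (a * a') * (b * b') := by
  rw [mul_assoc a b, ← mul_assoc b, ← E.hc ha' hb]
  group

theorem commB {b b' : G} (hb : b ∈ E.B) (hb' : b' ∈ E.B) : b * b' = b' * b := by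
  have h := E.hBsq _ (mul_mem hb hb')
  calc b * b' = b * (b * b' * (b * b')) * b' := by rw [h, mul_one]
    _ = (b * b) * (b' * b) * (b' * b') := by group
    _ = b' * b := by rw [E.hBsq b hb, E.hBsq b' hb', one_mul, mul_one]

/-- A central involution of the Sylow subgroup, or the identity. -/
def Cen (w : G) : Prop :=
  w ∈ (E.S : Subgroup G) ∧ w * w = 1 ∧ ∀ s ∈ (E.S : Subgroup G), s * w = w * s

theorem comm_cen {w s : G} (hw : E.Cen w) (hs : s ∈ (E.S : Subgroup G)) : Commute w s :=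
  (hw.2.2 s hs).symm

theorem cen_one : E.Cen 1 := ⟨one_mem _, one_mul 1, fun s _ => by simp⟩

theorem cen_zA : E.Cen E.dA.z := by
  refine ⟨E.SA E.dA.hzD, E.dA.hzz, fun s hs => ?_⟩
  obtain ⟨a, ha, b, hb, rfl⟩ := exists_split E.hp hs
  calc a * b * E.dA.z = a * (b * E.dA.z) := by group
    _ = a * E.dA.z * b := by rw [← E.hc E.dA.hzD hb]; group
    _ = _ := by rw [E.dA.hzc a ha]; group

theorem cen_B {b : G} (hb : b ∈ E.B) : E.Cen b := by
  refine ⟨E.SB hb, E.hBsq b hb, fun s hs => ?_⟩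
  obtain ⟨a, ha, b', hb', rfl⟩ := exists_split E.hp hs
  rw [mul_assoc, E.commB hb' hb, ← mul_assoc, E.hc ha hb, mul_assoc]

theorem cen_mul {v w : G} (hv : E.Cen v) (hw : E.Cen w) : E.Cen (v * w) := by
  refine ⟨mul_mem hv.1 hw.1, ?_, fun s hs => ?_⟩
  · rw [mul_sq_of_commute (hw.2.2 v hv.1), hv.2.1, hw.2.1, one_mul]
  · rw [← mul_assoc, hv.2.2 s hs, mul_assoc, hw.2.2 s hs, ← mul_assoc]

theorem sq_mul {a b : G} (ha : a ∈ E.A) (hb : b ∈ E.B) : (a * b) * (a * b) = a * a := by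
  rw [mul_sq_of_commute (E.hc ha hb), E.hBsq b hb, mul_one]

theorem cen_cases {w : G} (h : E.Cen w) :
    ∃ b ∈ E.B, w = b ∨ w = E.dA.z * b := by
  obtain ⟨hw, hww, hc⟩ := h
  obtain ⟨a, ha, b, hb, rfl⟩ := exists_split E.hp hw
  rw [E.sq_mul ha hb] at hww
  have h1 := hc _ (E.SA E.dA.hqD)
  have h2 : (a * E.dA.q) * b = (E.dA.q * a) * b := by
    calc a * E.dA.q * b = a * (E.dA.q * b) := by group
      _ = a * b * E.dA.q := by rw [E.hc E.dA.hqD hb]; group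
      _ = E.dA.q * (a * b) := h1.symm
      _ = _ := by group
  refine ⟨b, hb, ?_⟩
  rcases E.dA.hRinv a (E.dA.cent_q ha (mul_right_cancel h2)) hww with rfl | rfl
  exacts [Or.inl (one_mul b), Or.inr rfl]

/-- A reflection in the first factor. -/
def Refl (r : G) : Prop := r ∈ E.A ∧ r ∉ E.dA.R

theorem refl_z {r : G} (hr : E.Refl r) : E.Refl (r * E.dA.z) :=
  ⟨mul_mem hr.1 E.dA.hzD, fun h => hr.2 ((mul_mem_cancel_right E.dA.zR).1 h)⟩

theorem q_comm {b : G} (hb : b ∈ E.B) : E.dA.q * b * E.dA.q⁻¹ = b := by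
  rw [E.hc E.dA.hqD hb, mul_inv_cancel_right]

theorem q_coord {a x b : G} (ha : E.Refl a) (hx : x ∈ E.A) (hb : b ∈ E.B) (hc : x * a = a * x) :
    E.dA.q * (x * b) * E.dA.q⁻¹ = x * b ∨ E.dA.q * (x * b) * E.dA.q⁻¹ = x * b * E.dA.z := by
  rw [← conj_mul, E.q_comm hb]
  rcases E.dA.q_conj hx with h | h <;> rw [h]
  · exact Or.inl rfl
  · exact Or.inr (by rw [mul_assoc x, E.hc E.dA.hzD hb, ← mul_assoc])

theorem comm_of_mul {a b x y : G} (ha : a ∈ E.A) (hb : b ∈ E.B) (hx : x ∈ E.A) (hy : y ∈ E.B)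
    (h : (a * b) * (x * y) = (x * y) * (a * b)) : a * x = x * a := by
  rw [E.mul_split hb hx, E.mul_split hy ha] at h
  exact (E.coord_eq (mul_mem ha hx) (mul_mem hx ha) (mul_mem hb hy) (mul_mem hy hb) h).1

theorem mul_comm_of {a b x y : G} (hb : b ∈ E.B) (hx : x ∈ E.A) (hy : y ∈ E.B) (ha : a ∈ E.A)
    (h : a * x = x * a) : (a * b) * (x * y) = (x * y) * (a * b) := by
  rw [E.mul_split hb hx, E.mul_split hy ha, h, E.commB hb hy]

/-- The central involution of `A` is fused to `r * v`. -/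
def Moved (r v : G) : Prop := IsConj E.dA.z (r * v)

theorem moved_conj {r v c : G} (hv : v ∈ E.B) (hc : c ∈ E.A) (h : E.Moved r v) :
    E.Moved (c * r * c⁻¹) v := by
  refine h.trans (isConj_iff.2 ⟨c, ?_⟩)
  rw [← conj_mul, E.hc hc hv, mul_inv_cancel_right]

theorem moved_z {r v : G} (hv : v ∈ E.B) (hr : E.Refl r) (h : E.Moved r v) :
    E.Moved (r * E.dA.z) v := by
  have := E.moved_conj hv E.dA.hqD h
  rwa [E.dA.q_conj_refl hr.1 hr.2] at this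

/-- The parity of the first coordinate. -/
def above (K : Subgroup G) : Subgroup G where
  carrier := {u | ∃ a ∈ E.A ⊓ K, ∃ b ∈ E.B, a * b = u}
  one_mem' := ⟨1, one_mem _, 1, one_mem _, one_mul 1⟩
  mul_mem' := by
    rintro _ _ ⟨a, ha, b, hb, rfl⟩ ⟨a', ha', b', hb', rfl⟩
    exact ⟨a * a', mul_mem ha ha', b * b', mul_mem hb hb', (E.mul_split hb ha'.1).symm⟩
  inv_mem' := by
    rintro _ ⟨a, ha, b, hb, rfl⟩
    refine ⟨a⁻¹, inv_mem ha, b⁻¹, inv_mem hb, ?_⟩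
    rw [mul_inv_rev]
    exact E.hc (inv_mem ha.1) (inv_mem hb)

theorem mem_above {K : Subgroup G} {a b : G} (ha : a ∈ E.A) (hb : b ∈ E.B) :
    a * b ∈ E.above K ↔ a ∈ K := by
  refine ⟨?_, fun h => ⟨a, ⟨ha, h⟩, b, hb, rfl⟩⟩
  rintro ⟨a', ha', b', hb', h⟩
  exact (E.coord_eq ha'.1 ha hb' hb h).1 ▸ ha'.2

theorem mem_above_left {K : Subgroup G} {a : G} (ha : a ∈ E.A) : a ∈ E.above K ↔ a ∈ K := by
  simpa using E.mem_above (K := K) ha (one_mem E.B)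

/-- Multiplicative parity on the first factor. -/
def Par (K : Subgroup G) : Prop := ∀ x ∈ E.A, ∀ y ∈ E.A, (x * y ∈ K ↔ (x ∈ K ↔ y ∈ K))

theorem above_mul_iff {K : Subgroup G} (hK : E.Par K) {u v : G} (hu : u ∈ (E.S : Subgroup G))
    (hv : v ∈ (E.S : Subgroup G)) : u * v ∈ E.above K ↔ (u ∈ E.above K ↔ v ∈ E.above K) := by
  obtain ⟨a, ha, b, hb, rfl⟩ := exists_split E.hp hu
  obtain ⟨a', ha', b', hb', rfl⟩ := exists_split E.hp hv
  rw [E.mul_split hb ha', E.mem_above (mul_mem ha ha') (mul_mem hb hb'), E.mem_above ha hb,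
    E.mem_above ha' hb', hK a ha a' ha']

theorem above_conj_iff {K : Subgroup G} (hK : E.Par K) {u v : G} (hu : u ∈ (E.S : Subgroup G))
    (hv : v ∈ (E.S : Subgroup G)) : u * v * u⁻¹ ∈ E.above K ↔ v ∈ E.above K := by
  rw [E.above_mul_iff hK (mul_mem hu hv) (inv_mem hu), E.above_mul_iff hK hu hv, inv_mem_iff]
  tauto

theorem above_relIndex {K : Subgroup G} (hK : E.Par K) {r : G} (hr : r ∈ E.A) (hrK : r ∉ K) :
    (E.above K).relIndex (E.S : Subgroup G) = 2 := by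
  rw [relIndex, index_eq_two_iff]
  refine ⟨⟨r, E.SA hr⟩, fun x => ?_⟩
  have h := E.above_mul_iff hK x.2 (E.SA hr)
  have h' : r ∉ E.above K := fun h' => hrK ((E.mem_above_left hr).1 h')
  simp only [mem_subgroupOf, Subgroup.coe_mul]
  by_cases hx : (x : G) ∈ E.above K <;> simp [h, h', hx]

/-- The members that matter: `⟨r, z⟩ × B`. -/
def Side (r : G) (U : Subgroup G) : Prop :=
  ∀ u : G, u ∈ U ↔ u ∈ (E.S : Subgroup G) ∧ u * r = r * u

variable [Finite G]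

theorem norm_zA {y : G} (hy : y ∈ normalizer ((E.S : Subgroup G) : Set G)) :
    y * E.dA.z * y⁻¹ = E.dA.z := by
  have hFT : FourTimes E.B E.A (E.S : Subgroup G) E.B :=
    ⟨le_rfl, E.hp.2.1, E.hBsq, fun u hu => by
      obtain ⟨a, ha, b, hb, rfl⟩ := exists_split E.hp hu
      exact ⟨b, hb, a, ha, E.SA ha, (E.hc ha hb).symm⟩⟩
  exact hFT.fix_z (internal_symm E.hp) E.dA (E.S.isPGroup'.to_le E.hp.1)
    ⟨_, E.SA E.dA.hqD, E.dA.q_ne⟩ hy

theorem norm_cen {y : G} (hy : y ∈ normalizer ((E.S : Subgroup G) : Set G)) {w : G} (hw : E.Cen w) :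
    E.Cen (y * w * y⁻¹) := by
  refine ⟨(mem_normalizer_iff.1 hy w).1 hw.1, by rw [conj_mul, hw.2.1]; group, fun s hs => ?_⟩
  have := hw.2.2 _ ((mem_normalizer_iff''.1 hy s).1 hs)
  calc s * (y * w * y⁻¹) = y * (y⁻¹ * s * y * w) * y⁻¹ := by group
    _ = _ := by rw [this]; group

theorem cen_conj {v w : G} (hv : E.Cen v) (hw : E.Cen w) (h : IsConj v w) :
    ∃ y ∈ normalizer ((E.S : Subgroup G) : Set G), y * v * y⁻¹ = w := by
  obtain ⟨g, hg⟩ := isConj_iff.1 h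
  exact central_conj E.S hg hv.2.2 hw.2.2

theorem eq_zA {w : G} (hw : E.Cen w) (h : IsConj E.dA.z w) : w = E.dA.z := by
  obtain ⟨y, hy, he⟩ := E.cen_conj E.cen_zA hw h
  rw [← he, E.norm_zA hy]

theorem not_shift {w : G} (hw : E.Cen w) : ¬ IsConj w (w * E.dA.z) := by
  intro h
  obtain ⟨y, hy, he⟩ := E.cen_conj hw (E.cen_mul hw E.cen_zA) h
  obtain ⟨k, hk, ho, s, hs, rfl⟩ := exists_odd_part E.S hy
  have h1 : k * w * k⁻¹ = w * E.dA.z := by
    have hs' : s * w * s⁻¹ = w := by rw [hw.2.2 s hs, mul_inv_cancel_right]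
    calc k * w * k⁻¹ = k * (s * w * s⁻¹) * k⁻¹ := by rw [hs']
      _ = k * s * w * (k * s)⁻¹ := by group
      _ = _ := he
  exact E.dA.hz1 (eq_one_of_odd_shift ho (k := 1) (by rw [pow_one, pow_two, E.dA.hzz]) h1 (E.norm_zA hk))

/-- The conjugates of `z` in the Sylow subgroup. -/
theorem class_zA {a b : G} (ha : a ∈ E.A) (hb : b ∈ E.B) (h : IsConj E.dA.z (a * b)) :
    (a = E.dA.z ∧ b = 1) ∨ (E.Refl a ∧ E.Moved a b) := by
  by_cases haR : a ∈ E.dA.R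
  · obtain ⟨g, hg⟩ := isConj_iff.1 h
    have haa : a * a = 1 := by rw [← E.sq_mul ha hb, ← hg, conj_mul, E.dA.hzz]; group
    have haC : E.Cen a := by
      rcases E.dA.hRinv a haR haa with rfl | rfl
      exacts [E.cen_one, E.cen_zA]
    exact Or.inl (E.coord_eq ha E.dA.hzD hb (one_mem _)
      (by rw [E.eq_zA (E.cen_mul haC (E.cen_B hb)) h, mul_one]))
  · exact Or.inr ⟨⟨ha, haR⟩, h⟩

/-- The element coming from a fused reflection. -/
theorem mover {r v : G} (hr : E.Refl r) (hv : v ∈ E.B) (hM : E.Moved r v) :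
    ∃ m : G, m * (r * v) * m⁻¹ = r * v ∧ m * E.dA.z * m⁻¹ = E.dA.z * (r * v) ∧
      ∀ u ∈ (E.S : Subgroup G), u * r = r * u →
        m * u * m⁻¹ = u ∨ m * u * m⁻¹ = u * (r * v) := by
  haveI : Fact (Nat.Prime 2) := ⟨Nat.prime_two⟩
  obtain ⟨g, hg⟩ := isConj_iff.1 hM
  let U : Subgroup G := (E.S : Subgroup G) ⊓ centralizer ({r} : Set G)
  let C : Subgroup G := centralizer ({E.dA.z} : Set G)
  have hSC : (E.S : Subgroup G) ≤ C := fun s hs =>
    mem_centralizer_singleton_iff.2 (E.comm_cen E.cen_zA hs).eq.symm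
  have hodd : Odd ((E.S : Subgroup G).relIndex C) := by
    have h1 := Subgroup.relIndex_mul_index hSC
    exact (Nat.odd_mul.1 (h1 ▸ CfsgLib.TwoFusion.FusionTools.sylow_index_odd E.S)).1
  have hre : ∀ u ∈ U, u * (r * v) = (r * v) * u := fun u hu => by
    rw [← mul_assoc, mem_centralizer_singleton_iff.1 hu.2, mul_assoc, (E.cen_B hv).2.2 u hu.1,
      ← mul_assoc]
  have hz : E.dA.z = g⁻¹ * (r * v) * g := by rw [← hg]; group
  have himg : U.map (MulAut.conj g⁻¹).toMonoidHom ≤ C := by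
    rintro x ⟨u, hu, rfl⟩
    refine mem_centralizer_singleton_iff.2 ?_
    show g⁻¹ * u * g⁻¹⁻¹ * E.dA.z = E.dA.z * (g⁻¹ * u * g⁻¹⁻¹)
    rw [hz]
    calc g⁻¹ * u * g⁻¹⁻¹ * (g⁻¹ * (r * v) * g) = g⁻¹ * (u * (r * v)) * g := by group
      _ = g⁻¹ * (r * v * u) * g := by rw [hre u hu]
      _ = _ := by group
  obtain ⟨c, hc, hcS⟩ := CfsgLib.TwoFusion.FusionTools.exists_conj_le C (E.S : Subgroup G) _ E.S.isPGroup'
    hSC hodd ((E.S.isPGroup'.to_le (inf_le_left : U ≤ (E.S : Subgroup G))).map _) himg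
  obtain ⟨k, hk⟩ : ∃ k, k = c * g⁻¹ := ⟨_, rfl⟩
  have hkU : ∀ u ∈ U, k * u * k⁻¹ ∈ (E.S : Subgroup G) := fun u hu => by
    have := hcS _ ⟨u, hu, rfl⟩
    change c * (g⁻¹ * u * g⁻¹⁻¹) * c⁻¹ ∈ (E.S : Subgroup G) at this
    rw [hk]
    simpa [mul_assoc] using this
  have hkr : k * (r * v) * k⁻¹ = E.dA.z := by
    calc k * (r * v) * k⁻¹ = c * (g⁻¹ * (g * E.dA.z * g⁻¹) * g) * c⁻¹ := by rw [hg, hk]; group
      _ = c * E.dA.z * c⁻¹ := by group
      _ = _ := by rw [mem_centralizer_singleton_iff.1 hc, mul_inv_cancel_right]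
  have hzU : E.dA.z ∈ U :=
    ⟨E.SA E.dA.hzD, mem_centralizer_singleton_iff.2 (E.dA.hzc r hr.1).symm⟩
  obtain ⟨a, ha, b, hb, hw⟩ := exists_split E.hp (hkU _ hzU)
  have haR : E.Refl a := by
    refine ((E.class_zA ha hb (hw ▸ isConj_iff.2 ⟨k, rfl⟩)).resolve_left ?_).1
    rintro ⟨rfl, rfl⟩
    rw [mul_one] at hw
    have h3 : E.dA.z * 1 = r * v := by
      rw [mul_one]; exact mul_left_cancel (mul_right_cancel (hw.symm.trans hkr.symm))
    exact (E.dA.refl_ne hr.2).2 (E.coord_eq E.dA.hzD hr.1 (one_mem _) hv h3).1.symm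
  refine ⟨k⁻¹ * E.dA.q * k, ?_, ?_, fun u hu hur => ?_⟩
  · calc k⁻¹ * E.dA.q * k * (r * v) * (k⁻¹ * E.dA.q * k)⁻¹
        = k⁻¹ * (E.dA.q * (k * (r * v) * k⁻¹) * E.dA.q⁻¹) * k := by group
      _ = k⁻¹ * (k * (r * v) * k⁻¹) * k := by
        rw [hkr, E.dA.hzc _ E.dA.hqD, mul_inv_cancel_right]
      _ = _ := by group
  · calc k⁻¹ * E.dA.q * k * E.dA.z * (k⁻¹ * E.dA.q * k)⁻¹
        = k⁻¹ * (E.dA.q * (k * E.dA.z * k⁻¹) * E.dA.q⁻¹) * k := by group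
      _ = k⁻¹ * (k * E.dA.z * k⁻¹ * E.dA.z) * k := by
        rw [← hw, ← conj_mul, E.q_comm hb, E.dA.q_conj_refl ha haR.2, mul_assoc a,
          E.hc E.dA.hzD hb, ← mul_assoc a]
      _ = k⁻¹ * (k * E.dA.z * k⁻¹ * (k * (r * v) * k⁻¹)) * k := by rw [hkr]
      _ = _ := by group
  · have huU : u ∈ U := ⟨hu, mem_centralizer_singleton_iff.2 hur⟩
    obtain ⟨x, hx, y, hy, hxy⟩ := exists_split E.hp (hkU u huU)
    have hcm : x * a = a * x := E.comm_of_mul hx hy ha hb (by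
      rw [hxy, hw, conj_mul, conj_mul, (E.comm_cen E.cen_zA hu).eq])
    have e1 : k⁻¹ * E.dA.q * k * u * (k⁻¹ * E.dA.q * k)⁻¹
        = k⁻¹ * (E.dA.q * (k * u * k⁻¹) * E.dA.q⁻¹) * k := by group
    rcases E.q_coord haR hx hy hcm with h | h <;> rw [hxy] at h
    · exact Or.inl (by rw [e1, h]; group)
    · refine Or.inr ?_
      rw [e1, h]
      calc k⁻¹ * (k * u * k⁻¹ * E.dA.z) * k = k⁻¹ * (k * u * k⁻¹ * (k * (r * v) * k⁻¹)) * k := by
            rw [hkr]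
        _ = _ := by group

theorem moved_unique {r v w : G} (hr : E.Refl r) (hv : v ∈ E.B) (hw : w ∈ E.B) (h₁ : E.Moved r v)
    (h₂ : E.Moved r w) : v = w := by
  by_contra hne
  obtain ⟨m, hm1, hm2, hm3⟩ := E.mover hr hv h₁
  have hur : r * w * r = r * (r * w) := by rw [mul_assoc r w, ← E.hc hr.1 hw]
  have hprod : r * w * (r * v) = w * v := by
    rw [E.mul_split hw hr.1, E.dA.refl r hr.1 hr.2, one_mul]
  have hne' : w * v ≠ E.dA.z := fun h => E.dA.hz1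
    (E.coord_eq (one_mem _) E.dA.hzD (mul_mem hw hv) (one_mem _) (by rw [one_mul, mul_one, h])).1.symm
  rcases hm3 _ (mul_mem (E.SA hr.1) (E.SB hw)) hur with h | h
  · obtain ⟨n, hn1, hn2, hn3⟩ := E.mover hr hw h₂
    have hur' : r * v * r = r * (r * v) := by rw [mul_assoc r v, ← E.hc hr.1 hv]
    rcases hn3 _ (mul_mem (E.SA hr.1) (E.SB hv)) hur' with h' | h'
    · -- the product of the two movers reaches the centre
      have h1 : IsConj E.dA.z (E.dA.z * (v * w)) := by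
        refine (isConj_iff.2 ⟨m, hm2⟩ : IsConj E.dA.z _).trans (isConj_iff.2 ⟨n, ?_⟩)
        rw [← conj_mul, hn2, h', mul_assoc, E.mul_split hw hr.1, E.dA.refl r hr.1 hr.2, one_mul,
          E.commB hw hv]
      have h2 := E.eq_zA (E.cen_mul E.cen_zA (E.cen_B (mul_mem hv hw))) h1
      rw [mul_eq_left] at h2
      refine hne ?_
      calc v = v * (w * w) := by rw [E.hBsq w hw, mul_one]
        _ = w := by rw [← mul_assoc, h2, one_mul]
    · have h1 : IsConj E.dA.z (v * w) := by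
        refine h₁.trans (isConj_iff.2 ⟨n, ?_⟩)
        rw [h', E.mul_split hv hr.1, E.dA.refl r hr.1 hr.2, one_mul]
      exact hne' (by rw [E.commB hw hv]; exact E.eq_zA (E.cen_B (mul_mem hv hw)) h1)
  · exact hne' (E.eq_zA (E.cen_B (mul_mem hw hv)) (h₂.trans (isConj_iff.2 ⟨m, by rw [h, hprod]⟩)))

/-- Elements normalizing the Sylow subgroup respect both parities. -/
theorem parity {y : G} (hy : y ∈ normalizer ((E.S : Subgroup G) : Set G)) :
    ∀ u ∈ (E.S : Subgroup G), (y * u * y⁻¹ ∈ E.above E.dA.K₀ ↔ u ∈ E.above E.dA.K₀) ∧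
      (y * u * y⁻¹ ∈ E.above E.dA.K₁ ↔ u ∈ E.above E.dA.K₁) := by
  obtain ⟨n, hn, ho, s, hs, rfl⟩ := exists_odd_part E.S hy
  have hP₀ : E.Par E.dA.K₀ := fun x hx y hy => Dih.mul_mem_iff E.dA.hK₀ hx hy
  have hP₁ : E.Par E.dA.K₁ := fun x hx y hy => Dih.mul_mem_iff E.dA.hK₁ hx hy
  suffices h : ∀ u ∈ (E.S : Subgroup G), (n * u * n⁻¹ ∈ E.above E.dA.K₀ ↔ u ∈ E.above E.dA.K₀) ∧
      (n * u * n⁻¹ ∈ E.above E.dA.K₁ ↔ u ∈ E.above E.dA.K₁) by
    intro u hu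
    obtain ⟨h1, h2⟩ := h _ (mul_mem (mul_mem hs hu) (inv_mem hs))
    rw [show n * s * u * (n * s)⁻¹ = n * (s * u * s⁻¹) * n⁻¹ by group, h1, h2]
    exact ⟨E.above_conj_iff hP₀ hs hu, E.above_conj_iff hP₁ hs hu⟩
  clear hy hs
  have hUn : ∀ u ∈ (E.S : Subgroup G), n * u * n⁻¹ ∈ (E.S : Subgroup G) :=
    fun u hu => (mem_normalizer_iff.1 hn u).1 hu
  have hcentral : ∀ w, E.Cen w → ∀ K : Subgroup G, E.dA.z ∈ K → w ∈ E.above K := by
    intro w hw K hzK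
    obtain ⟨b, hb, h | h⟩ := E.cen_cases hw <;> rw [h]
    · exact ⟨1, one_mem _, b, hb, one_mul b⟩
    · exact (E.mem_above E.dA.hzD hb).2 hzK
  have agree : ∀ K K' : Subgroup G, E.Par K → E.Par K' → E.dA.z ∈ K → E.dA.z ∈ K' →
      (n * E.dA.r₀ * n⁻¹ ∈ E.above K ↔ E.dA.r₀ ∈ K') →
      (n * E.dA.r₁ * n⁻¹ ∈ E.above K ↔ E.dA.r₁ ∈ K') →
      ∀ u ∈ (E.S : Subgroup G), (n * u * n⁻¹ ∈ E.above K ↔ u ∈ E.above K') := by
    intro K K' hK hK' hzK hzK' h₀ h₁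
    let X : Subgroup G :=
      { carrier := {u | u ∈ (E.S : Subgroup G) ∧ (n * u * n⁻¹ ∈ E.above K ↔ u ∈ E.above K')}
        one_mem' := ⟨one_mem _, by simp [one_mem]⟩
        mul_mem' := fun {x y} hx hy => ⟨mul_mem hx.1 hy.1, by
          rw [show n * (x * y) * n⁻¹ = n * x * n⁻¹ * (n * y * n⁻¹) by group,
            E.above_mul_iff hK (hUn x hx.1) (hUn y hy.1),
            E.above_mul_iff hK' hx.1 hy.1, hx.2, hy.2]⟩
        inv_mem' := fun {x} hx => ⟨inv_mem hx.1, by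
          rw [show n * x⁻¹ * n⁻¹ = (n * x * n⁻¹)⁻¹ by group, inv_mem_iff, inv_mem_iff]
          exact hx.2⟩ }
    have hr : ∀ r ∈ E.A, (n * r * n⁻¹ ∈ E.above K ↔ r ∈ K') → r ∈ X := fun r hr h =>
      ⟨E.SA hr, by rw [E.mem_above_left hr]; exact h⟩
    have hconj : ∀ c ∈ E.A, ∀ x ∈ X, c * x * c⁻¹ ∈ X := by
      intro c hc x hx
      refine ⟨mul_mem (mul_mem (E.SA hc) hx.1) (inv_mem (E.SA hc)), ?_⟩
      rw [show n * (c * x * c⁻¹) * n⁻¹ = n * c * n⁻¹ * (n * x * n⁻¹) * (n * c * n⁻¹)⁻¹ by group,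
        E.above_conj_iff hK (hUn c (E.SA hc)) (hUn x hx.1),
        E.above_conj_iff hK' (E.SA hc) hx.1]
      exact hx.2
    have hrefl : ∀ x ∈ E.A, x ∉ E.dA.R → x ∈ X := by
      intro x hx hxR
      obtain ⟨c, hc, h | h⟩ := E.dA.cover x hx hxR <;> rw [← h]
      exacts [hconj c hc _ (hr _ E.dA.hr₀.1 h₀), hconj c hc _ (hr _ E.dA.hr₁.1 h₁)]
    intro u hu
    obtain ⟨a, ha, b, hb, rfl⟩ := exists_split E.hp hu
    suffices h : a * b ∈ X from h.2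
    refine mul_mem ?_ ⟨E.SB hb, iff_of_true (hcentral _ (E.norm_cen hn (E.cen_B hb)) K hzK)
      (hcentral b (E.cen_B hb) K' hzK')⟩
    by_cases haR : a ∈ E.dA.R
    · have h2 : a = (a * E.dA.r₀) * E.dA.r₀ := by
        rw [mul_assoc, E.dA.refl _ E.dA.hr₀.1 E.dA.hr₀.2, mul_one]
      rw [h2]
      exact mul_mem (hrefl _ (mul_mem ha E.dA.hr₀.1) (E.dA.mul_refl haR E.dA.hr₀.2))
        (hrefl _ E.dA.hr₀.1 E.dA.hr₀.2)
    · exact hrefl a ha haR
  have hout : ∀ r, E.Refl r →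
      (n * r * n⁻¹ ∈ E.above E.dA.K₀ ↔ n * r * n⁻¹ ∉ E.above E.dA.K₁) := by
    intro r hr
    obtain ⟨a, ha, b, hb, he⟩ := exists_split E.hp (hUn r (E.SA hr.1))
    have haR : a ∉ E.dA.R := by
      intro haR
      have haa : a * a = 1 := by
        rw [← E.sq_mul ha hb, he, conj_mul, E.dA.refl r hr.1 hr.2]; group
      have haC : E.Cen a := by
        rcases E.dA.hRinv a haR haa with rfl | rfl
        exacts [E.cen_one, E.cen_zA]
      have hC := E.norm_cen (inv_mem hn) (he ▸ E.cen_mul haC (E.cen_B hb) : E.Cen (n * r * n⁻¹))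
      rw [show n⁻¹ * (n * r * n⁻¹) * n⁻¹⁻¹ = r by group] at hC
      exact hr.2 (E.dA.cent_q hr.1 (hC.2.2 _ (E.SA E.dA.hqD)).symm)
    rw [← he, E.mem_above ha hb, E.mem_above ha hb]
    rcases E.dA.class_cases ha haR with ⟨h1, h2, -⟩ | ⟨h1, h2, -⟩ <;> simp [h1, h2]
  have hPA : E.Par E.A := fun x hx y hy => by simp [hx, hy, mul_mem hx hy]
  have key₀ := hout _ E.dA.hr₀
  have key₁ := hout _ E.dA.hr₁
  have imposs : ∀ K : Subgroup G, E.Par K → E.dA.z ∈ K → ∀ r ∈ E.A, r ∉ K →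
      n * E.dA.r₀ * n⁻¹ ∈ E.above K → n * E.dA.r₁ * n⁻¹ ∈ E.above K → False := by
    intro K hK hzK r hr hrK h₀ h₁
    have hu : n⁻¹ * r * n ∈ (E.S : Subgroup G) := (mem_normalizer_iff''.1 hn r).1 (E.SA hr)
    obtain ⟨x, hx, y, hy, hxy⟩ := exists_split E.hp hu
    have h := (agree K E.A hK hPA hzK E.dA.hzD (iff_of_true h₀ E.dA.hr₀.1)
      (iff_of_true h₁ E.dA.hr₁.1) _ hu).2 (hxy ▸ (E.mem_above hx hy).2 hx)
    rw [show n * (n⁻¹ * r * n) * n⁻¹ = r by group] at h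
    exact hrK ((E.mem_above_left hr).1 h)
  by_cases h0 : n * E.dA.r₀ * n⁻¹ ∈ E.above E.dA.K₀ <;>
    by_cases h1 : n * E.dA.r₁ * n⁻¹ ∈ E.above E.dA.K₀
  · exact (imposs _ hP₀ E.dA.zK₀ _ E.dA.hr₀.1 E.dA.r₀K₀ h0 h1).elim
  · exfalso
    have h0' := key₀.1 h0
    have h1' : n * E.dA.r₁ * n⁻¹ ∈ E.above E.dA.K₁ := by tauto
    have s01 := agree E.dA.K₀ E.dA.K₁ hP₀ hP₁ E.dA.zK₀ E.dA.zK₁ (iff_of_true h0 E.dA.r₀K₁)
      (iff_of_false h1 E.dA.r₁K₁)
    have s10 := agree E.dA.K₁ E.dA.K₀ hP₁ hP₀ E.dA.zK₁ E.dA.zK₀ (iff_of_false h0' E.dA.r₀K₀)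
      (iff_of_true h1' E.dA.r₁K₀)
    have hrep : ∀ j : ℕ, ∀ u ∈ (E.S : Subgroup G),
        n ^ (2 * j) * u * (n ^ (2 * j))⁻¹ ∈ (E.S : Subgroup G) ∧
        (n ^ (2 * j) * u * (n ^ (2 * j))⁻¹ ∈ E.above E.dA.K₀ ↔ u ∈ E.above E.dA.K₀) := by
      intro j
      induction j with
      | zero => intro u hu; simp [hu]
      | succ j ih =>
        intro u hu
        obtain ⟨h2, h3⟩ := ih u hu
        have e : n ^ (2 * (j + 1)) * u * (n ^ (2 * (j + 1)))⁻¹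
            = n * (n * (n ^ (2 * j) * u * (n ^ (2 * j))⁻¹) * n⁻¹) * n⁻¹ := by
          rw [show 2 * (j + 1) = 2 * j + 1 + 1 by ring, pow_succ', pow_succ']
          group
        rw [e]
        refine ⟨hUn _ (hUn _ h2), ?_⟩
        rw [s01 _ (hUn _ h2), s10 _ h2, h3]
    obtain ⟨j, hj⟩ := ho
    have h4 := (hrep j _ (hUn _ (E.SA E.dA.hr₀.1))).2
    have e : n ^ (2 * j) * (n * E.dA.r₀ * n⁻¹) * (n ^ (2 * j))⁻¹ = E.dA.r₀ := by
      calc n ^ (2 * j) * (n * E.dA.r₀ * n⁻¹) * (n ^ (2 * j))⁻¹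
          = n ^ (2 * j + 1) * E.dA.r₀ * (n ^ (2 * j + 1))⁻¹ := by rw [pow_succ]; group
        _ = _ := by rw [← hj, pow_orderOf_eq_one]; group
    rw [e, E.mem_above_left E.dA.hr₀.1, iff_true_intro h0, iff_true] at h4
    exact E.dA.r₀K₀ h4
  · have h0' : n * E.dA.r₀ * n⁻¹ ∈ E.above E.dA.K₁ := by tauto
    have h1' := key₁.1 h1
    exact fun u hu => ⟨agree _ _ hP₀ hP₀ E.dA.zK₀ E.dA.zK₀ (iff_of_false h0 E.dA.r₀K₀)
        (iff_of_true h1 E.dA.r₁K₀) u hu,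
      agree _ _ hP₁ hP₁ E.dA.zK₁ E.dA.zK₁ (iff_of_true h0' E.dA.r₀K₁)
        (iff_of_false h1' E.dA.r₁K₁) u hu⟩
  · exact (imposs _ hP₁ E.dA.zK₁ _ E.dA.hr₁.1 E.dA.r₁K₁ (by tauto) (by tauto)).elim

/-- The members of the family. -/
theorem fam_cases {U : Subgroup G} (hF : Fam 2 (E.S : Subgroup G) U) :
    U = (E.S : Subgroup G) ∨ ∃ r, E.Refl r ∧ E.Side r U ∧ ∃ v ∈ E.B, E.Moved r v := by
  haveI : Fact (Nat.Prime 2) := ⟨Nat.prime_two⟩
  obtain ⟨hcen, -⟩ := fam_props E.S hF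
  have hCU : ∀ c, E.Cen c → c ∈ U := fun c hc =>
    hcen ⟨hc.1, mem_centralizer_iff.2 fun u hu => hc.2.2 u (hF.1.le hu)⟩
  have hBU : E.B ≤ U := fun b hb => hCU b (E.cen_B hb)
  have hFT : FourTimes E.B E.A U E.B :=
    ⟨le_rfl, hBU, E.hBsq, fun u hu => by
      obtain ⟨a, ha, b, hb, rfl⟩ := exists_split E.hp (hF.1.le hu)
      refine ⟨b, hb, a, ha, ?_, (E.hc ha hb).symm⟩
      simpa using mul_mem hu (inv_mem (hBU hb))⟩
  by_cases hx : ∃ u ∈ U, u * u ≠ 1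
  · left
    have hA := hFT.right_le (internal_symm E.hp) E.dA E.S rfl hF (hCU _ E.cen_zA) hx
    refine le_antisymm hF.1.le ?_
    have h := E.hp.2.2.2.2
    rw [← h]
    exact sup_le hA hBU
  right
  push Not at hx
  have hUc : ∀ a ∈ U, ∀ b ∈ U, a * b = b * a := by
    intro a ha b hb
    have h1 := hx _ (mul_mem ha hb)
    calc a * b = a * (a * b * (a * b)) * b := by rw [h1, mul_one]
      _ = (a * a) * (b * a) * (b * b) := by group
      _ = b * a := by rw [hx a ha, hx b hb, one_mul, mul_one]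
  obtain ⟨r, hr, hrU⟩ : ∃ r, E.Refl r ∧ r ∈ U := by
    by_contra hcon
    push Not at hcon
    refine E.dA.q_ne (hx _ (hcen ⟨E.SA E.dA.hqD, mem_centralizer_iff.2 fun u hu => ?_⟩))
    obtain ⟨b, hb, a, ha, haU, rfl⟩ := hFT.split u hu
    have haR : a ∈ E.dA.R := by_contra fun h => hcon a ⟨ha, h⟩ haU
    rw [mul_assoc, E.dA.hRcomm a haR _ E.dA.hqR, ← mul_assoc, ← E.hc E.dA.hqD hb, mul_assoc]
  have hside : E.Side r U := by
    intro u
    refine ⟨fun hu => ⟨hF.1.le hu, hUc u hu r hrU⟩, ?_⟩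
    rintro ⟨huS, hur⟩
    obtain ⟨a, ha, b, hb, rfl⟩ := exists_split E.hp huS
    have hc := E.comm_of_mul ha hb hr.1 (one_mem _) (by rw [mul_one]; exact hur)
    refine mul_mem ?_ (hBU hb)
    rcases E.dA.cent_refl hr.1 hr.2 ha hc with rfl | rfl | rfl | rfl
    exacts [one_mem _, hCU _ E.cen_zA, hrU, mul_mem hrU (hCU _ E.cen_zA)]
  refine ⟨r, hr, hside, ?_⟩
  by_contra hcon
  have hfix : ∀ g ∈ normalizer (U : Set G), g * E.dA.z * g⁻¹ = E.dA.z := by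
    intro g hg
    have hmem := (mem_normalizer_iff.1 hg _).1 (hCU _ E.cen_zA)
    obtain ⟨a, ha, b, hb, he⟩ := exists_split E.hp (hF.1.le hmem)
    rcases E.class_zA ha hb (he ▸ isConj_iff.2 ⟨g, rfl⟩) with ⟨rfl, rfl⟩ | ⟨haR, hM⟩
    · rw [← he, mul_one]
    · exfalso
      have hc := E.comm_of_mul ha hb hr.1 (one_mem _)
        (by rw [mul_one, he]; exact hUc _ hmem r hrU)
      rcases E.dA.cent_refl hr.1 hr.2 ha hc with rfl | rfl | rfl | rfl
      · exact haR.2 (one_mem _)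
      · exact haR.2 E.dA.zR
      · exact hcon ⟨b, hb, hM⟩
      · have := E.moved_z hb haR hM
        rw [mul_assoc, E.dA.hzz, mul_one] at this
        exact hcon ⟨b, hb, this⟩
  let M : Subgroup G :=
    { carrier := {m | m ∈ normalizer (U : Set G) ∧
        ∀ u ∈ U, u⁻¹ * (m * u * m⁻¹) ∈ zpowers E.dA.z}
      one_mem' := ⟨one_mem _, fun u _ => by simp⟩
      mul_mem' := fun {a b} ha hb => ⟨mul_mem ha.1 hb.1, fun u hu => by
        have h1 := hb.2 u hu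
        have e : u⁻¹ * (a * b * u * (a * b)⁻¹)
            = u⁻¹ * (a * u * a⁻¹) * (a * (u⁻¹ * (b * u * b⁻¹)) * a⁻¹) := by group
        obtain ⟨i, hi⟩ := mem_zpowers_iff.1 h1
        rw [e, ← hi, ← conj_zpow, hfix a ha.1]
        exact mul_mem (ha.2 u hu) (zpow_mem (mem_zpowers _) i)⟩
      inv_mem' := fun {a} ha => ⟨inv_mem ha.1, fun u hu => by
        have hv : a⁻¹ * u * a ∈ U := (mem_normalizer_iff''.1 ha.1 u).1 hu
        have e : u⁻¹ * (a⁻¹ * u * a⁻¹⁻¹)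
            = ((a⁻¹ * u * a)⁻¹ * (a * (a⁻¹ * u * a) * a⁻¹))⁻¹ := by group
        rw [e]
        exact inv_mem (ha.2 _ hv)⟩ }
  have hMn : normalizer (U : Set G) ≤ normalizer (M : Set G) := by
    intro g hg
    apply CfsgLib.TwoFusion.ConjUtil.mem_normalizer_of_conj_mem
    rintro m ⟨hmN, hm⟩
    refine ⟨mul_mem (mul_mem hg hmN) (inv_mem hg), fun u hu => ?_⟩
    have hw : g⁻¹ * u * g ∈ U := (mem_normalizer_iff''.1 hg u).1 hu
    have e : u⁻¹ * (g * m * g⁻¹ * u * (g * m * g⁻¹)⁻¹)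
        = g * ((g⁻¹ * u * g)⁻¹ * (m * (g⁻¹ * u * g) * m⁻¹)) * g⁻¹ := by group
    obtain ⟨i, hi⟩ := mem_zpowers_iff.1 (hm _ hw)
    rw [e, ← hi, ← conj_zpow, hfix g hg]
    exact zpow_mem (mem_zpowers _) i
  have hodd : ∀ m ∈ M, Odd (orderOf m) → ∀ u ∈ U, m * u * m⁻¹ = u := by
    intro m hm hmo u hu
    obtain ⟨i, hi⟩ := mem_zpowers_iff.1 (hm.2 u hu)
    have h1 : E.dA.z ^ i = 1 := eq_one_of_odd_shift hmo (k := 1)
      (by rw [pow_one, pow_two, ← (Commute.refl E.dA.z).mul_zpow, E.dA.hzz, one_zpow]) (u := u)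
      (by rw [hi]; group) (by rw [← conj_zpow, hfix m hm.1])
    rw [hi] at h1
    exact (inv_mul_eq_one.1 h1).symm
  have hq : ∀ u ∈ U, E.dA.q * u * E.dA.q⁻¹ = u ∨ E.dA.q * u * E.dA.q⁻¹ = u * E.dA.z := by
    intro u hu
    obtain ⟨a, ha, b, hb, rfl⟩ := exists_split E.hp (hF.1.le hu)
    exact E.q_coord hr ha hb (E.comm_of_mul ha hb hr.1 (one_mem _)
      (by rw [mul_one]; exact hUc _ hu r hrU))
  have hqU : E.dA.q ∈ U := by
    refine mem_of_normal_fixing E.S hF M (fun m hm => hm.1) hMn hodd (E.SA E.dA.hqD)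
      ⟨?_, fun u hu => ?_⟩
    · apply CfsgLib.TwoFusion.ConjUtil.mem_normalizer_of_conj_mem
      intro u hu
      rcases hq u hu with e | e <;> rw [e]
      exacts [hu, mul_mem hu (hCU _ E.cen_zA)]
    · rcases hq u hu with e | e <;> rw [e]
      · rw [inv_mul_cancel]; exact one_mem _
      · rw [inv_mul_cancel_left]; exact mem_zpowers _
  exact E.dA.q_ne (hx _ hqU)

/-- A class of reflections without fusion to the centre gives a subgroup of index two. -/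
theorem exists_moved (h2 : ∀ N : Subgroup G, N.Normal → N.index ≠ 2) {K : Subgroup G} {r₀ : G}
    (hKcase : K = E.dA.K₀ ∨ K = E.dA.K₁) (hr₀ : r₀ ∈ E.A) (hr₀K : r₀ ∉ K)
    (hcover : ∀ x ∈ E.A, x ∉ E.dA.R → x ∉ K → ∃ c ∈ E.A, c * r₀ * c⁻¹ = x) :
    ∃ v ∈ E.B, E.Moved r₀ v := by
  by_contra hcon
  have hK2 : K.relIndex E.A = 2 := by
    rcases hKcase with rfl | rfl
    exacts [E.dA.hK₀, E.dA.hK₁]
  have hzK : E.dA.z ∈ K := by
    rcases hKcase with rfl | rfl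
    exacts [E.dA.zK₀, E.dA.zK₁]
  have hPar : E.Par K := fun x hx y hy => Dih.mul_mem_iff hK2 hx hy
  suffices hinv : ∀ a ∈ (E.S : Subgroup G), ∀ g : G, g * a * g⁻¹ ∈ (E.S : Subgroup G) →
      (g * a * g⁻¹ ∈ E.above K ↔ a ∈ E.above K) by
    obtain ⟨M, hM, hMi⟩ := exists_index_two E.S (E.above K) (E.above_relIndex hPar hr₀ hr₀K) hinv
    exact h2 M hM hMi
  intro a ha g hg
  have hN : ∀ y ∈ normalizer ((E.S : Subgroup G) : Set G), ∀ t ∈ (E.S : Subgroup G),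
      (y * t * y⁻¹ ∈ E.above K) = (t ∈ E.above K) := by
    intro y hy t ht
    have h := E.parity hy t ht
    refine propext ?_
    rcases hKcase with rfl | rfl
    exacts [h.1, h.2]
  refine iff_of_eq (fusion_invariant E.S (fun u => u ∈ E.above K) hN ?_ a ha g hg)
  intro U hF n hn _ t ht
  rcases E.fam_cases hF with rfl | ⟨r, hr, hU, v, hv, hM⟩
  · exact hN n hn t ht
  · refine propext ?_
    by_cases hrK : r ∈ K
    · have hall : ∀ u ∈ U, u ∈ E.above K := by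
        intro u hu
        obtain ⟨huS, hur⟩ := (hU u).1 hu
        obtain ⟨x, hx, y, hy, rfl⟩ := exists_split E.hp huS
        have hc := E.comm_of_mul hx hy hr.1 (one_mem _) (by rw [mul_one]; exact hur)
        refine (E.mem_above hx hy).2 ?_
        rcases E.dA.cent_refl hr.1 hr.2 hx hc with rfl | rfl | rfl | rfl
        exacts [one_mem _, hzK, hrK, mul_mem hrK hzK]
      exact iff_of_true (hall _ ((mem_normalizer_iff.1 hn t).1 ht)) (hall t ht)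
    · obtain ⟨c, hc, rfl⟩ := hcover r hr.1 hr.2 hrK
      refine absurd ⟨v, hv, ?_⟩ hcon
      have := E.moved_conj hv (inv_mem hc) hM
      rwa [show c⁻¹ * (c * r₀ * c⁻¹) * c⁻¹⁻¹ = r₀ by group] at this

theorem exists_eta (h2 : ∀ N : Subgroup G, N.Normal → N.index ≠ 2) :
    ∃ η : G → G, (∀ a ∈ E.A, η a ∈ E.B) ∧ η E.dA.z = 1 ∧
      (∀ a ∈ E.A, ∀ a' ∈ E.A, η (a * a') = η a * η a') ∧
      ∀ a, E.Refl a → E.Moved a (η a) := by
  obtain ⟨e₀, he₀, hM₀⟩ := E.exists_moved h2 (Or.inl rfl) E.dA.hr₀.1 E.dA.r₀K₀ fun x hx hxR hxK => by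
    rcases E.dA.class_cases hx hxR with ⟨-, -, h⟩ | ⟨h, -⟩
    exacts [h, absurd h hxK]
  obtain ⟨e₁, he₁, hM₁⟩ := E.exists_moved h2 (Or.inr rfl) E.dA.hr₁.1 E.dA.r₁K₁ fun x hx hxR hxK => by
    rcases E.dA.class_cases hx hxR with ⟨-, h, -⟩ | ⟨-, -, h⟩
    exacts [absurd h hxK, h]
  let χ₀ : G → G := fun a => if a ∈ E.dA.K₀ then 1 else e₀
  let χ₁ : G → G := fun a => if a ∈ E.dA.K₁ then 1 else e₁
  have h₀ : ∀ a, χ₀ a ∈ E.B := fun a => by
    simp only [χ₀]; split_ifs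
    exacts [one_mem _, he₀]
  have h₁ : ∀ a, χ₁ a ∈ E.B := fun a => by
    simp only [χ₁]; split_ifs
    exacts [one_mem _, he₁]
  have hmul : ∀ {K : Subgroup G}, K.relIndex E.A = 2 → ∀ {e : G}, e * e = 1 → ∀ a ∈ E.A, ∀ a' ∈ E.A,
      (if a * a' ∈ K then 1 else e) = (if a ∈ K then 1 else e) * (if a' ∈ K then 1 else e) := by
    intro K hK e he a ha a' ha'
    have h := Dih.mul_mem_iff hK ha ha'
    by_cases p : a ∈ K <;> by_cases p' : a' ∈ K <;> simp [p, p', h, he]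
  refine ⟨fun a => χ₀ a * χ₁ a, fun a _ => mul_mem (h₀ a) (h₁ a), ?_, ?_, ?_⟩
  · simp [χ₀, χ₁, E.dA.zK₀, E.dA.zK₁]
  · intro a ha a' ha'
    show χ₀ (a * a') * χ₁ (a * a') = _
    rw [show χ₀ (a * a') = χ₀ a * χ₀ a' from hmul E.dA.hK₀ (E.hBsq _ he₀) a ha a' ha',
      show χ₁ (a * a') = χ₁ a * χ₁ a' from hmul E.dA.hK₁ (E.hBsq _ he₁) a ha a' ha']
    show χ₀ a * χ₀ a' * (χ₁ a * χ₁ a') = χ₀ a * χ₁ a * (χ₀ a' * χ₁ a')
    rw [mul_assoc, ← mul_assoc (χ₀ a'), E.commB (h₀ a') (h₁ a)]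
    group
  · rintro a ⟨ha, haR⟩
    rcases E.dA.class_cases ha haR with ⟨h0, h1, c, hc, rfl⟩ | ⟨h0, h1, c, hc, rfl⟩
    · simp only [χ₀, χ₁, h0, h1, if_true, if_false, mul_one]
      exact E.moved_conj he₀ hc hM₀
    · simp only [χ₀, χ₁, h0, h1, if_true, if_false, one_mul]
      exact E.moved_conj he₁ hc hM₁

end FPair

end CfsgLib.DihTimesDih
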