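import Cfsg.Agent.Lib.DihTimesDih.Four

/-!
One factor a four group: the strongly closed dihedral subgroup and the strongly closed four group.
-/

set_option autoImplicit false
set_option linter.unusedSectionVars false

open Subgroup CfsgLib.ConjFunctor CfsgLib.LocEven.StrongAlperin
open scoped Classical

namespace CfsgLib.DihTimesDih

variable {G : Type*} [Group G]

namespace FPair

variable (E : FPair G) [Finite G]

/-- The data of the shift homomorphism. -/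
structure IsEta (η : G → G) : Prop where
  mem : ∀ a ∈ E.A, η a ∈ E.B
  hz : η E.dA.z = 1
  mul : ∀ a ∈ E.A, ∀ a' ∈ E.A, η (a * a') = η a * η a'
  moved : ∀ a, E.Refl a → E.Moved a (η a)

variable {η : G → G} (hη : E.IsEta η)

/-- The dihedral subgroup. -/
def T₁ : Subgroup G := graph E.A E.B η hη.mem E.hp.2.2.1 hη.mul

include hη

theorem eta_one : η 1 = 1 := by
  have h := hη.mul 1 (one_mem _) 1 (one_mem _)
  rwa [mul_one, left_eq_mul] at h

theorem T₁_le : E.T₁ hη ≤ (E.S : Subgroup G) := by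
  rintro _ ⟨a, ha, rfl⟩
  exact mul_mem (E.SA ha) (E.SB (hη.mem a ha))

theorem z_mem_T₁ : E.dA.z ∈ E.T₁ hη := ⟨_, E.dA.hzD, by rw [hη.hz, mul_one]⟩

theorem star_mem_T₁ {r : G} (hr : E.Refl r) : r * η r ∈ E.T₁ hη := ⟨r, hr.1, rfl⟩

theorem class_mem_T₁ {x : G} (hx : x ∈ (E.S : Subgroup G)) (h : IsConj E.dA.z x) : x ∈ E.T₁ hη := by
  obtain ⟨a, ha, b, hb, rfl⟩ := exists_split E.hp hx
  rcases E.class_zA ha hb h with ⟨rfl, rfl⟩ | ⟨haR, hM⟩
  · rw [mul_one]; exact E.z_mem_T₁ hη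
  · rw [E.moved_unique haR hb (hη.mem a ha) hM (hη.moved a haR)]
    exact E.star_mem_T₁ hη haR

theorem inv_T₁ {x : G} (hx : x ∈ E.T₁ hη) (hxx : x * x = 1) (n : G)
    (hn : n * x * n⁻¹ ∈ (E.S : Subgroup G)) : n * x * n⁻¹ ∈ E.T₁ hη := by
  obtain ⟨a, ha, rfl⟩ := hx
  rw [E.sq_mul ha (hη.mem a ha)] at hxx
  have h : a * η a = 1 ∨ IsConj E.dA.z (a * η a) := by
    by_cases haR : a ∈ E.dA.R
    · rcases E.dA.hRinv a haR hxx with rfl | rfl
      · left; rw [E.eta_one hη, mul_one]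
      · right; rw [hη.hz, mul_one]
    · exact Or.inr (hη.moved a ⟨ha, haR⟩)
  rcases h with h | h
  · rw [h, mul_one, mul_inv_cancel]; exact one_mem _
  · exact E.class_mem_T₁ hη hn (h.trans (isConj_iff.2 ⟨n, rfl⟩))

theorem T₁_closed : Cfsg.IsStronglyClosed (E.T₁ hη) (E.S : Subgroup G) := by
  refine ⟨E.T₁_le hη, fun x hx g hg => ?_⟩
  have hnorm : ∀ y ∈ normalizer ((E.S : Subgroup G) : Set G), ∀ t ∈ E.T₁ hη,
      y * t * y⁻¹ ∈ E.T₁ hη := by
    intro y hy t ht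
    have hnS : ∀ u ∈ (E.S : Subgroup G), y * u * y⁻¹ ∈ (E.S : Subgroup G) :=
      fun u hu => (mem_normalizer_iff.1 hy u).1 hu
    obtain ⟨x, hx, rfl⟩ := ht
    have hrefl : ∀ z, E.Refl z → y * (z * η z) * y⁻¹ ∈ E.T₁ hη := fun z hz =>
      E.inv_T₁ hη (E.star_mem_T₁ hη hz)
        (by rw [E.sq_mul hz.1 (hη.mem z hz.1), E.dA.refl z hz.1 hz.2]) y
        (hnS _ (E.T₁_le hη (E.star_mem_T₁ hη hz)))
    by_cases hxR : x ∈ E.dA.R
    · have hy' := mul_mem hx E.dA.hr₀.1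
      have e : x * η x = (x * E.dA.r₀ * η (x * E.dA.r₀)) * (E.dA.r₀ * η E.dA.r₀) := by
        rw [E.mul_split (hη.mem _ hy') E.dA.hr₀.1, ← hη.mul _ hy' _ E.dA.hr₀.1,
          mul_assoc x, E.dA.refl _ E.dA.hr₀.1 E.dA.hr₀.2, mul_one]
      rw [e, ← conj_mul]
      exact mul_mem (hrefl _ ⟨hy', E.dA.mul_refl hxR E.dA.hr₀.2⟩) (hrefl _ E.dA.hr₀)
    · exact hrefl x ⟨hx, hxR⟩
  have hN : ∀ y ∈ normalizer ((E.S : Subgroup G) : Set G), ∀ t ∈ (E.S : Subgroup G),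
      (y * t * y⁻¹ ∈ E.T₁ hη) = (t ∈ E.T₁ hη) := by
    intro y hy t _
    refine propext ⟨fun h => ?_, hnorm y hy t⟩
    have := hnorm y⁻¹ (inv_mem hy) _ h
    simpa [mul_assoc] using this
  refine (iff_of_eq (fusion_invariant E.S (fun u => u ∈ E.T₁ hη) hN ?_ x (E.T₁_le hη hx) g hg)).2 hx
  intro U hF n hn _ t ht
  rcases E.fam_cases hF with rfl | ⟨r, hr, hU, -⟩
  · exact hN n hn t ht
  · have hstep : ∀ n ∈ normalizer (U : Set G), ∀ t ∈ U, t ∈ E.T₁ hη → n * t * n⁻¹ ∈ E.T₁ hη := by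
      intro n hn t ht htT
      obtain ⟨x, hx, rfl⟩ := id htT
      refine E.inv_T₁ hη htT ?_ n (hF.1.le ((mem_normalizer_iff.1 hn _).1 ht))
      have hc := E.comm_of_mul hx (hη.mem x hx) hr.1 (one_mem _)
        (by rw [mul_one]; exact ((hU _).1 ht).2)
      rw [E.sq_mul hx (hη.mem x hx)]
      rcases E.dA.cent_refl hr.1 hr.2 hx hc with rfl | rfl | rfl | rfl
      · exact one_mul 1
      · exact E.dA.hzz
      · exact E.dA.refl _ hr.1 hr.2
      · exact E.dA.refl _ (E.refl_z hr).1 (E.refl_z hr).2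
    refine propext ⟨fun h => ?_, hstep n hn t ht⟩
    have := hstep n⁻¹ (inv_mem hn) _ ((mem_normalizer_iff.1 hn t).1 ht) h
    simpa [mul_assoc] using this

theorem star_data {r : G} (hr : E.Refl r) :
    r * η r ∈ (E.S : Subgroup G) ∧ (r * η r) * r = r * (r * η r) :=
  ⟨E.T₁_le hη (E.star_mem_T₁ hη hr), by rw [mul_assoc r, ← E.hc hr.1 (hη.mem r hr.1)]⟩

/-- The class of a central element times an element of the fused four group. -/
theorem coset_class {r z : G} (hr : E.Refl r) (hz : E.Cen z) {m : G}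
    (hm : m * E.dA.z * m⁻¹ = E.dA.z * (r * η r)) (hmz : m * z * m⁻¹ = z) :
    IsConj (z * E.dA.z) (z * (E.dA.z * (r * η r))) ∧ IsConj (z * E.dA.z) (z * (r * η r)) := by
  have h1 : IsConj (z * E.dA.z) (z * (E.dA.z * (r * η r))) :=
    isConj_iff.2 ⟨m, by rw [← conj_mul, hm, hmz]⟩
  refine ⟨h1, h1.trans (isConj_iff.2 ⟨E.dA.q, ?_⟩)⟩
  rw [← conj_mul, ← conj_mul, E.dA.hzc _ E.dA.hqD, ← conj_mul, E.dA.q_conj_refl hr.1 hr.2,
    E.q_comm (hη.mem r hr.1), mul_inv_cancel_right,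
    hz.2.2 _ (E.SA E.dA.hqD), mul_inv_cancel_right]
  congr 1
  calc E.dA.z * (r * E.dA.z * η r) = (E.dA.z * r) * E.dA.z * η r := by group
    _ = r * (E.dA.z * E.dA.z) * η r := by rw [(E.comm_cen E.cen_zA (E.SA hr.1)).eq]; group
    _ = _ := by rw [E.dA.hzz, mul_one]

/-- Every element commuting with a reflection is fused to the centre modulo the dihedral subgroup. -/
theorem retract {r x : G} (hr : E.Refl r) (hx : x ∈ (E.S : Subgroup G)) (hxr : x * r = r * x) :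
    ∃ z, E.Cen z ∧ IsConj z x ∧ z⁻¹ * x ∈ E.T₁ hη := by
  obtain ⟨m, hm1, hm2, hm3⟩ := E.mover hr (hη.mem r hr.1) (hη.moved r hr)
  obtain ⟨a, ha, b, hb, rfl⟩ := exists_split E.hp hx
  have hc := E.comm_of_mul ha hb hr.1 (one_mem _) (by rw [mul_one]; exact hxr)
  have hbase : ∃ z, E.Cen z ∧ IsConj z (r * b) ∧ z⁻¹ * (r * b) ∈ E.T₁ hη := by
    set c := η r * b with hcdef
    have hcB : c ∈ E.B := mul_mem (hη.mem r hr.1) hb
    have hcC := E.cen_B hcB
    have hxe : r * b = (r * η r) * c := by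
      rw [hcdef, mul_assoc r, ← mul_assoc (η r), E.hBsq _ (hη.mem r hr.1), one_mul]
    have hcomm : c * (r * η r) = (r * η r) * c :=
      (E.comm_cen hcC (E.star_data hη hr).1).eq
    rw [hxe, ← hcomm]
    rcases hm3 c hcC.1 (E.comm_cen hcC (E.SA hr.1)).eq with h | h
    · refine ⟨c * E.dA.z, E.cen_mul hcC E.cen_zA, (E.coset_class hη hr hcC hm2 h).2, ?_⟩
      have e : (c * E.dA.z)⁻¹ * (c * (r * η r)) = E.dA.z⁻¹ * (r * η r) := by group
      rw [e]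
      exact mul_mem (inv_mem (E.z_mem_T₁ hη)) (E.star_mem_T₁ hη hr)
    · refine ⟨c, hcC, isConj_iff.2 ⟨m, h⟩, ?_⟩
      rw [inv_mul_cancel_left]
      exact E.star_mem_T₁ hη hr
  rcases E.dA.cent_refl hr.1 hr.2 ha hc with rfl | rfl | rfl | rfl
  · refine ⟨1 * b, E.cen_mul E.cen_one (E.cen_B hb), IsConj.refl _, ?_⟩
    rw [inv_mul_cancel]; exact one_mem _
  · refine ⟨_, E.cen_mul E.cen_zA (E.cen_B hb), IsConj.refl _, ?_⟩
    rw [inv_mul_cancel]; exact one_mem _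
  · exact hbase
  · obtain ⟨z, hz, h1, h2⟩ := hbase
    have e : r * E.dA.z * b = r * b * E.dA.z := by
      rw [mul_assoc, E.hc E.dA.hzD hb, ← mul_assoc]
    refine ⟨z, hz, h1.trans (isConj_iff.2 ⟨E.dA.q, ?_⟩), ?_⟩
    · rw [← conj_mul, E.dA.q_conj_refl hr.1 hr.2, E.q_comm hb]
    · rw [e, ← mul_assoc]
      exact mul_mem h2 (E.z_mem_T₁ hη)

/-- Some element of the normalizer moves the centre. -/
theorem exists_move (h2 : ∀ N : Subgroup G, N.Normal → N.index ≠ 2) :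
    ∃ y ∈ normalizer ((E.S : Subgroup G) : Set G), Odd (orderOf y) ∧
      ∃ c, E.Cen c ∧ y * c * y⁻¹ ≠ c := by
  by_contra hcon
  push Not at hcon
  have hfix : ∀ y ∈ normalizer ((E.S : Subgroup G) : Set G), ∀ c, E.Cen c → y * c * y⁻¹ = c := by
    intro y hy c hc
    obtain ⟨k, hk, ho, s, hs, rfl⟩ := exists_odd_part E.S hy
    calc k * s * c * (k * s)⁻¹ = k * (s * c * s⁻¹) * k⁻¹ := by group
      _ = c := by rw [hc.2.2 s hs, mul_inv_cancel_right, hcon k hk ho c hc]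
  obtain ⟨v₁, hv₁, hv₁1⟩ : ∃ v ∈ E.B, v ≠ 1 := by
    by_contra h
    push Not at h
    have : E.B = ⊥ := (eq_bot_iff_forall _).2 h
    have h4 := E.hB4
    rw [this, card_bot] at h4
    omega
  let W : Subgroup G := zpowers v₁
  have hWB : W ≤ E.B := zpowers_le.2 hv₁
  have hW2 : W.relIndex E.B = 2 := by
    have h := Subgroup.card_mul_index (W.subgroupOf E.B)
    rw [Nat.card_congr (subgroupOfEquivOfLe hWB).toEquiv, Nat.card_zpowers, E.hB4,
      orderOf_eq_prime (by rw [pow_two]; exact E.hBsq v₁ hv₁) hv₁1] at h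
    show (W.subgroupOf E.B).index = 2
    omega
  let Q : Subgroup G :=
    { carrier := {x | ∃ t ∈ E.T₁ hη, ∃ w ∈ W, t * w = x}
      one_mem' := ⟨1, one_mem _, 1, one_mem _, one_mul 1⟩
      mul_mem' := by
        rintro _ _ ⟨t, ht, w, hw, rfl⟩ ⟨t', ht', w', hw', rfl⟩
        refine ⟨t * t', mul_mem ht ht', w * w', mul_mem hw hw', ?_⟩
        rw [mul_assoc t, ← mul_assoc t', ← (E.comm_cen (E.cen_B (hWB hw)) (E.T₁_le hη ht')).eq]
        group
      inv_mem' := by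
        rintro _ ⟨t, ht, w, hw, rfl⟩
        refine ⟨t⁻¹, inv_mem ht, w⁻¹, inv_mem hw, ?_⟩
        rw [mul_inv_rev]
        exact ((E.comm_cen (E.cen_B (hWB (inv_mem hw))) (E.T₁_le hη (inv_mem ht))).eq).symm }
  have hdec : ∀ x ∈ (E.S : Subgroup G), ∃ t ∈ E.T₁ hη, ∃ b ∈ E.B, t * b = x := by
    intro x hx
    obtain ⟨a, ha, b, hb, rfl⟩ := exists_split E.hp hx
    refine ⟨a * η a, ⟨a, ha, rfl⟩, η a * b, mul_mem (hη.mem a ha) hb, ?_⟩
    rw [mul_assoc a, ← mul_assoc (η a), E.hBsq _ (hη.mem a ha), one_mul]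
  have hmem : ∀ t ∈ E.T₁ hη, ∀ b ∈ E.B, (t * b ∈ Q ↔ b ∈ W) := by
    intro t ht b hb
    refine ⟨?_, fun h => ⟨t, ht, b, h, rfl⟩⟩
    rintro ⟨t', ht', w, hw, he⟩
    have hbot : t'⁻¹ * t = w * b⁻¹ := by
      rw [eq_mul_inv_iff_mul_eq, mul_assoc, ← he, inv_mul_cancel_left]
    obtain ⟨a, ha, hae⟩ := mul_mem (inv_mem ht') ht
    have hB : a * η a = 1 * (w * b⁻¹) := by rw [one_mul, ← hbot, hae]
    obtain ⟨h1, h2⟩ := E.coord_eq ha (one_mem _) (hη.mem a ha) (mul_mem (hWB hw) (inv_mem hb)) hB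
    rw [h1, E.eta_one hη, eq_comm, mul_inv_eq_one] at h2
    exact h2 ▸ hw
  obtain ⟨v₂, hv₂, hv₂W⟩ : ∃ v ∈ E.B, v ∉ W := by
    by_contra h
    push Not at h
    rw [relIndex_eq_one.2 h] at hW2
    omega
  have hQ2 : Q.relIndex (E.S : Subgroup G) = 2 := by
    rw [relIndex, index_eq_two_iff]
    refine ⟨⟨v₂, E.SB hv₂⟩, fun x => ?_⟩
    obtain ⟨t, ht, b, hb, he⟩ := hdec x x.2
    have h := Subgroup.mul_mem_iff_of_index_two (H := W.subgroupOf E.B) hW2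
      (a := ⟨b, hb⟩) (b := ⟨v₂, hv₂⟩)
    simp only [mem_subgroupOf, Subgroup.coe_mul] at h ⊢
    rw [← he, mul_assoc, hmem t ht _ (mul_mem hb hv₂), hmem t ht b hb, h]
    by_cases hbW : b ∈ W <;> simp [hbW, hv₂W]
  suffices hinv : ∀ a ∈ (E.S : Subgroup G), ∀ g : G, g * a * g⁻¹ ∈ (E.S : Subgroup G) →
      (g * a * g⁻¹ ∈ Q ↔ a ∈ Q) by
    obtain ⟨M, hM, hMi⟩ := exists_index_two E.S Q hQ2 hinv
    exact h2 M hM hMi
  intro a ha g hg
  have hkey : ∀ n : G, ∀ t ∈ E.T₁ hη, ∀ b ∈ E.B, n * (t * b) * n⁻¹ ∈ (E.S : Subgroup G) →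
      n * b * n⁻¹ ∈ (E.S : Subgroup G) → b⁻¹ * (n * b * n⁻¹) ∈ E.T₁ hη →
      (n * (t * b) * n⁻¹ ∈ Q ↔ t * b ∈ Q) := by
    intro n t ht b hb hx hbS hT
    have hnt : n * t * n⁻¹ ∈ E.T₁ hη := by
      refine (E.T₁_closed hη).2 t ht n ?_
      have := mul_mem hx (inv_mem hbS)
      rwa [show n * (t * b) * n⁻¹ * (n * b * n⁻¹)⁻¹ = n * t * n⁻¹ by group] at this
    have e : n * (t * b) * n⁻¹ = (n * t * n⁻¹ * (b⁻¹ * (n * b * n⁻¹))) * b := by
      rw [← conj_mul, mul_assoc (n * t * n⁻¹)]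
      congr 1
      rw [← (E.comm_cen (E.cen_B hb) (E.T₁_le hη hT)).eq, mul_inv_cancel_left]
    rw [e, hmem _ (mul_mem hnt hT) b hb, hmem t ht b hb]
  have hN : ∀ y ∈ normalizer ((E.S : Subgroup G) : Set G), ∀ t ∈ (E.S : Subgroup G),
      (y * t * y⁻¹ ∈ Q) = (t ∈ Q) := by
    intro y hy x hx
    obtain ⟨t, ht, b, hb, rfl⟩ := hdec x hx
    refine propext (hkey y t ht b hb ((mem_normalizer_iff.1 hy _).1 hx)
      ((mem_normalizer_iff.1 hy _).1 (E.SB hb)) ?_)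
    rw [hfix y hy b (E.cen_B hb), inv_mul_cancel]
    exact one_mem _
  refine iff_of_eq (fusion_invariant E.S (fun u => u ∈ Q) hN ?_ a ha g hg)
  intro U hF n hn _ x hx
  rcases E.fam_cases hF with rfl | ⟨r, hr, hU, -⟩
  · exact hN n hn x hx
  · obtain ⟨t, ht, b, hb, rfl⟩ := hdec x (hF.1.le hx)
    have hbU : b ∈ U := (hU b).2 ⟨E.SB hb, (E.comm_cen (E.cen_B hb) (E.SA hr.1)).eq⟩
    obtain ⟨hbS, hbr⟩ := (hU _).1 ((mem_normalizer_iff.1 hn b).1 hbU)
    obtain ⟨z, hz, h1, h3⟩ := E.retract hη hr hbS hbr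
    obtain ⟨y, hy, hye⟩ := E.cen_conj (E.cen_B hb) hz
      ((isConj_iff.2 ⟨n, rfl⟩ : IsConj b _).trans h1.symm)
    rw [← hye, hfix y hy b (E.cen_B hb)] at h3
    exact propext (hkey n t ht b hb (hF.1.le ((mem_normalizer_iff.1 hn _).1 hx)) hbS h3)

/-- The complement of `z` in the centre attached to a reflection. -/
theorem exists_fix {r : G} (hr : E.Refl r) :
    ∃ T : Subgroup G, Nonempty (E.B ≃* T) ∧
      (∀ x, x ∈ T ↔ E.Cen x ∧ ¬ IsConj x (x * (r * η r))) ∧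
      ∀ b ∈ E.B, b ∈ T ∨ b * E.dA.z ∈ T := by
  obtain ⟨m, hm1, hm2, hm3⟩ := E.mover hr (hη.mem r hr.1) (hη.moved r hr)
  have hd : ∀ c, E.Cen c → m * c * m⁻¹ = c ∨ m * c * m⁻¹ = c * (r * η r) :=
    fun c hc => hm3 c hc.1 (E.comm_cen hc (E.SA hr.1)).eq
  have hmz : m * E.dA.z * m⁻¹ ≠ E.dA.z := by
    rw [hm2, Ne, mul_eq_left]
    intro h
    exact (E.dA.refl_ne hr.2).1
      (E.coord_eq hr.1 (one_mem _) (hη.mem r hr.1) (one_mem _) (by rw [h, one_mul])).1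
  let φ : G → G := fun b => if m * b * m⁻¹ = b then 1 else E.dA.z
  have hφA : ∀ b ∈ E.B, φ b ∈ E.A := fun b _ => by
    simp only [φ]; split_ifs
    exacts [one_mem _, E.dA.hzD]
  have hφ : ∀ b ∈ E.B, m * (b * φ b) * m⁻¹ = b * φ b := by
    intro b hb
    simp only [φ]
    split_ifs with h
    · rw [mul_one, h]
    · rw [← conj_mul, (hd b (E.cen_B hb)).resolve_left h, hm2]
      have hsS := (E.star_data hη hr).1
      calc b * (r * η r) * (E.dA.z * (r * η r)) = b * ((r * η r) * E.dA.z) * (r * η r) := by group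
        _ = b * E.dA.z * ((r * η r) * (r * η r)) := by
          rw [← (E.comm_cen E.cen_zA hsS).eq]; group
        _ = _ := by
          rw [E.sq_mul hr.1 (hη.mem r hr.1), E.dA.refl r hr.1 hr.2, mul_one]
  have hval : ∀ b, φ b = 1 ∨ φ b = E.dA.z := fun b => by
    simp only [φ]; split_ifs
    exacts [Or.inl rfl, Or.inr rfl]
  have huniq : ∀ b e e', (e = 1 ∨ e = E.dA.z) → (e' = 1 ∨ e' = E.dA.z) →
      m * (b * e) * m⁻¹ = b * e → m * (b * e') * m⁻¹ = b * e' → e = e' := by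
    intro b e e' he he' h h'
    have h3 : m * (e⁻¹ * e') * m⁻¹ = e⁻¹ * e' := by
      calc m * (e⁻¹ * e') * m⁻¹ = (m * (b * e) * m⁻¹)⁻¹ * (m * (b * e') * m⁻¹) := by group
        _ = _ := by rw [h, h']; group
    rcases he with rfl | rfl <;> rcases he' with rfl | rfl
    · rfl
    · exact absurd (by simpa using h3) hmz
    · rw [mul_one, E.dA.z_inv] at h3; exact absurd h3 hmz
    · rfl
  have hφC : ∀ b, E.Cen (φ b) := fun b => by
    rcases hval b with h | h <;> rw [h]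
    exacts [E.cen_one, E.cen_zA]
  have hmul : ∀ b ∈ E.B, ∀ b' ∈ E.B, φ (b * b') = φ b * φ b' := by
    intro b hb b' hb'
    refine huniq (b * b') _ _ (hval _) ?_ (hφ _ (mul_mem hb hb')) ?_
    · rcases hval b with h | h <;> rcases hval b' with h' | h' <;> rw [h, h']
      exacts [Or.inl (one_mul 1), Or.inr (one_mul _), Or.inr (mul_one _), Or.inl E.dA.hzz]
    · have e : b * b' * (φ b * φ b') = (b * φ b) * (b' * φ b') := by
        rw [mul_assoc b, ← mul_assoc b', ← ((E.comm_cen (hφC b) (E.SB hb')).eq)]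
        group
      rw [e, ← conj_mul, hφ b hb, hφ b' hb']
  let T := graph E.B E.A φ hφA (internal_symm E.hp).2.2.1 hmul
  have hmemT : ∀ x, x ∈ T ↔ E.Cen x ∧ m * x * m⁻¹ = x := by
    refine fun x => ⟨?_, ?_⟩
    · rintro ⟨b, hb, rfl⟩
      exact ⟨E.cen_mul (E.cen_B hb) (hφC b), hφ b hb⟩
    · rintro ⟨hx, hfx⟩
      obtain ⟨b, hb, h | h⟩ := E.cen_cases hx
      · refine ⟨b, hb, h.trans ?_⟩
        have := huniq b (φ b) 1 (hval b) (Or.inl rfl) (hφ b hb)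
          (by rw [mul_one]; rw [h] at hfx; exact hfx)
        rw [this, mul_one]
      · rw [E.hc E.dA.hzD hb] at h
        refine ⟨b, hb, h.trans ?_⟩
        rw [huniq b (φ b) E.dA.z (hval b) (Or.inr rfl) (hφ b hb) (by rw [h] at hfx; exact hfx)]
  refine ⟨T, graph_equiv _ _ _ (by rw [inf_comm]; exact E.disj), fun x => ?_, fun b hb => ?_⟩
  · rw [hmemT]
    refine and_congr_right fun hx => ⟨fun h hc => ?_, fun h => ?_⟩
    · exact E.not_shift hx (hc.trans (E.coset_class hη hr hx hm2 h).2.symm)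
    · exact (hd x hx).resolve_right fun h' => h (isConj_iff.2 ⟨m, h'⟩)
  · have hb' : b * φ b ∈ T := ⟨b, hb, rfl⟩
    rcases hval b with h | h <;> rw [h] at hb'
    · exact Or.inl (by rwa [mul_one] at hb')
    · exact Or.inr hb'

/-- A complement attached to a reflection is invariant under the normalizer of `S`. -/
theorem fix_invariant {r : G} (hr : E.Refl r) {T : Subgroup G}
    (hT : ∀ x, x ∈ T ↔ E.Cen x ∧ ¬ IsConj x (x * (r * η r)))
    {y : G} (hy : y ∈ normalizer ((E.S : Subgroup G) : Set G)) {t : G} (ht : t ∈ T) :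
    y * t * y⁻¹ ∈ T := by
  obtain ⟨htC, htn⟩ := (hT t).1 ht
  have hyr := (mem_normalizer_iff.1 hy r).1 (E.SA hr.1)
  obtain ⟨a, ha, v, hv, he⟩ := exists_split E.hp hyr
  obtain ⟨haR, c, hcA, hca⟩ : a ∉ E.dA.R ∧ ∃ c ∈ E.A, c * r * c⁻¹ = a := by
    have hp := E.parity hy r (E.SA hr.1)
    rw [← he, E.mem_above ha hv, E.mem_above ha hv, E.mem_above_left hr.1, E.mem_above_left hr.1] at hp
    have hcomb : ∀ x y₀ : G, (∃ c ∈ E.A, c * y₀ * c⁻¹ = x) → (∃ d ∈ E.A, d * y₀ * d⁻¹ = r) →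
        ∃ c ∈ E.A, c * r * c⁻¹ = x := by
      rintro x y₀ ⟨c, hc, rfl⟩ ⟨d, hd, rfl⟩
      exact ⟨c * d⁻¹, mul_mem hc (inv_mem hd), by group⟩
    have haR : a ∉ E.dA.R := by
      intro haR
      have haa : a * a = 1 := by
        rw [← E.sq_mul ha hv, he, conj_mul, E.dA.refl r hr.1 hr.2]; group
      rcases E.dA.class_cases hr.1 hr.2 with ⟨h0, -, -⟩ | ⟨-, h1, -⟩
      · refine h0 (hp.1.1 ?_)
        rcases E.dA.hRinv a haR haa with rfl | rfl
        exacts [one_mem _, E.dA.zK₀]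
      · refine h1 (hp.2.1 ?_)
        rcases E.dA.hRinv a haR haa with rfl | rfl
        exacts [one_mem _, E.dA.zK₁]
    refine ⟨haR, ?_⟩
    rcases E.dA.class_cases hr.1 hr.2 with ⟨h0, -, h⟩ | ⟨h0, -, h⟩ <;>
      rcases E.dA.class_cases ha haR with ⟨k0, -, k⟩ | ⟨k0, -, k⟩
    · exact hcomb _ _ k h
    · exact absurd (hp.1.1 k0) h0
    · exact absurd (hp.1.2 h0) k0
    · exact hcomb _ _ k h
  have hcN : c⁻¹ ∈ normalizer ((E.S : Subgroup G) : Set G) := le_normalizer (E.SA (inv_mem hcA))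
  set n := c⁻¹ * y with hndef
  have hn : n ∈ normalizer ((E.S : Subgroup G) : Set G) := mul_mem hcN hy
  have hnr : n * r * n⁻¹ = r * v := by
    calc n * r * n⁻¹ = c⁻¹ * (y * r * y⁻¹) * c := by rw [hndef]; group
      _ = (c⁻¹ * (c * r * c⁻¹) * c) * (c⁻¹ * v * c) := by rw [← he, ← hca]; group
      _ = r * v := by
        rw [E.hc (inv_mem hcA) hv]
        group
  have hstar : n * (r * η r) * n⁻¹ = r * η r ∨ n * (r * η r) * n⁻¹ = r * η r * E.dA.z := by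
    have hmem : n * (r * η r) * n⁻¹ ∈ E.T₁ hη := by
      refine (E.T₁_closed hη).2 _ (E.star_mem_T₁ hη hr) n ?_
      exact (mem_normalizer_iff.1 hn _).1 (E.star_data hη hr).1
    obtain ⟨x, hx, hxe⟩ := hmem
    obtain ⟨b, hb, h | h⟩ := E.cen_cases (E.norm_cen hn (E.cen_B (hη.mem r hr.1)))
    · left
      have h1 : x * η x = r * (v * b) := by rw [← hxe, ← conj_mul, hnr, h, mul_assoc]
      rw [hxe, (E.coord_eq hx hr.1 (hη.mem x hx) (mul_mem hv hb) h1).1]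
    · right
      have h1 : x * η x = (r * E.dA.z) * (v * b) := by
        rw [← hxe, ← conj_mul, hnr, h, E.mul_split hv E.dA.hzD]
      rw [hxe, (E.coord_eq hx (mul_mem hr.1 E.dA.hzD) (hη.mem x hx) (mul_mem hv hb) h1).1,
        hη.mul r hr.1 _ E.dA.hzD, hη.hz, mul_one, mul_assoc, mul_assoc,
        E.hc E.dA.hzD (hη.mem r hr.1)]
  have htS : n * t * n⁻¹ = y * t * y⁻¹ := by
    have h := (E.norm_cen hy htC).2.2 _ (E.SA (inv_mem hcA))
    calc n * t * n⁻¹ = c⁻¹ * (y * t * y⁻¹) * c := by rw [hndef]; group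
      _ = _ := by rw [h]; group
  rw [← htS]
  refine (hT _).2 ⟨E.norm_cen hn htC, fun hc => ?_⟩
  obtain ⟨m, hm1, hm2, hm3⟩ := E.mover hr (hη.mem r hr.1) (hη.moved r hr)
  have hmt : m * t * m⁻¹ = t :=
    (hm3 t htC.1 (E.comm_cen htC (E.SA hr.1)).eq).resolve_right fun h => htn (isConj_iff.2 ⟨m, h⟩)
  rcases hstar with h | h
  · refine htn ?_
    have e : n * (t * (r * η r)) * n⁻¹ = n * t * n⁻¹ * (r * η r) := by rw [← conj_mul, h]
    exact ((isConj_iff.2 ⟨n, rfl⟩ : IsConj t _).trans hc).trans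
      (isConj_iff.2 ⟨n, e⟩ : IsConj (t * (r * η r)) _).symm
  · have e : n * (t * (E.dA.z * (r * η r))) * n⁻¹ = n * t * n⁻¹ * (r * η r) := by
      rw [← conj_mul, ← conj_mul, E.norm_zA hn, h,
        (E.comm_cen E.cen_zA (E.star_data hη hr).1).symm.eq, ← mul_assoc E.dA.z E.dA.z,
        E.dA.hzz, one_mul]
    exact E.not_shift htC ((((isConj_iff.2 ⟨n, rfl⟩ : IsConj t _).trans hc).trans
      (isConj_iff.2 ⟨n, e⟩ : IsConj (t * (E.dA.z * (r * η r))) _).symm).trans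
      (E.coset_class hη hr htC hm2 hmt).1.symm)

theorem zA_not_mem {r : G} (hr : E.Refl r) {T : Subgroup G}
    (hT : ∀ x, x ∈ T ↔ E.Cen x ∧ ¬ IsConj x (x * (r * η r))) : E.dA.z ∉ T := fun h => by
  obtain ⟨m, -, hm2, -⟩ := E.mover hr (hη.mem r hr.1) (hη.moved r hr)
  exact ((hT _).1 h).2 (isConj_iff.2 ⟨m, hm2⟩)

/-- All the complements coincide. -/
theorem fix_eq (h2 : ∀ N : Subgroup G, N.Normal → N.index ≠ 2) {r r' : G} (hr : E.Refl r)
    (hr' : E.Refl r') {T T' : Subgroup G} (hcard : Nat.card T = 4) (hcard' : Nat.card T' = 4)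
    (hT : ∀ x, x ∈ T ↔ E.Cen x ∧ ¬ IsConj x (x * (r * η r)))
    (hT' : ∀ x, x ∈ T' ↔ E.Cen x ∧ ¬ IsConj x (x * (r' * η r')))
    (hdec : ∀ b ∈ E.B, b ∈ T ∨ b * E.dA.z ∈ T) (hdec' : ∀ b ∈ E.B, b ∈ T' ∨ b * E.dA.z ∈ T') :
    T = T' := by
  obtain ⟨y, hy, ho, c, hc, hyc⟩ := E.exists_move hη h2
  have hyz := E.norm_zA hy
  have hfree : ∀ k ∈ T, k ≠ 1 → y * k * y⁻¹ ≠ k := by
    intro k hk hk1 hyk
    have hkk := ((hT k).1 hk).1.2.1
    have hK : (zpowers k).relIndex T = 2 := by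
      have h := Subgroup.card_mul_index ((zpowers k).subgroupOf T)
      rw [Nat.card_congr (subgroupOfEquivOfLe (zpowers_le.2 hk)).toEquiv, Nat.card_zpowers, hcard,
        orderOf_eq_prime (by rw [pow_two]; exact hkk) hk1] at h
      show ((zpowers k).subgroupOf T).index = 2
      omega
    have hall : ∀ l ∈ T, y * l * y⁻¹ = l := by
      intro l hl
      have hyl := E.fix_invariant hη hr hT hy hl
      by_cases hlk : l ∈ zpowers k
      · obtain ⟨i, rfl⟩ := mem_zpowers_iff.1 hlk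
        rw [← conj_zpow, hyk]
      have hyl' : y * l * y⁻¹ ∉ zpowers k := fun h => by
        obtain ⟨i, hi⟩ := mem_zpowers_iff.1 h
        have e : l = k ^ i := mul_left_cancel (mul_right_cancel
          (show y * l * y⁻¹ = y * k ^ i * y⁻¹ by rw [← conj_zpow, hyk, hi]))
        exact hlk (e ▸ zpow_mem (mem_zpowers k) i)
      have h := Subgroup.mul_mem_iff_of_index_two (H := (zpowers k).subgroupOf T) hK
        (a := ⟨l⁻¹, inv_mem hl⟩) (b := ⟨_, hyl⟩)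
      simp only [mem_subgroupOf, Subgroup.coe_mul, inv_mem_iff] at h
      obtain ⟨i, hi⟩ := mem_zpowers_iff.1 (h.2 (iff_of_false hlk hyl'))
      have h1 : k ^ i = 1 := eq_one_of_odd_shift ho (k := 1)
        (by rw [pow_one, pow_two, ← (Commute.refl k).mul_zpow, hkk, one_zpow]) (u := l)
        (by rw [hi]; group) (by rw [← conj_zpow, hyk])
      rw [hi] at h1
      exact (inv_mul_eq_one.1 h1).symm
    refine hyc ?_
    obtain ⟨b, hb, hcb⟩ := E.cen_cases hc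
    have hyb : y * b * y⁻¹ = b := by
      rcases hdec b hb with h | h
      · exact hall b h
      · have := hall _ h
        rw [← conj_mul, hyz] at this
        exact mul_right_cancel this
    rcases hcb with h | h <;> rw [h]
    · exact hyb
    · rw [← conj_mul, hyz, hyb]
  obtain ⟨k, hk, hk', hk1⟩ : ∃ k, k ∈ T ∧ k ∈ T' ∧ k ≠ 1 := by
    obtain ⟨b₁, hb₁, h1⟩ : ∃ b ∈ E.B, b ≠ 1 := by
      by_contra h
      push Not at h
      have : E.B = ⊥ := (eq_bot_iff_forall _).2 h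
      have h4 := E.hB4
      rw [this, card_bot] at h4
      omega
    obtain ⟨b₂, hb₂, hb₂'⟩ : ∃ b ∈ E.B, b ∉ zpowers b₁ := by
      by_contra h
      push Not at h
      have h4 := Subgroup.card_le_of_le h
      rw [Nat.card_zpowers, E.hB4, orderOf_eq_prime (by rw [pow_two]; exact E.hBsq b₁ hb₁) h1] at h4
      omega
    have h2ne : b₂ ≠ 1 := fun h => hb₂' (h ▸ one_mem _)
    have h12 : b₁ * b₂ ≠ 1 := fun h => hb₂' (by
      rw [← inv_eq_of_mul_eq_one_right h]; exact inv_mem (mem_zpowers _))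
    have key : ∀ b ∈ E.B, b ≠ 1 → (b ∈ T ∧ b * E.dA.z ∈ T') ∨ (b * E.dA.z ∈ T ∧ b ∈ T') ∨
        ∃ k, k ∈ T ∧ k ∈ T' ∧ k ≠ 1 := by
      intro b hb hb1
      have hbz : b * E.dA.z ≠ 1 := fun h => E.dA.hz1
        (E.coord_eq E.dA.hzD (one_mem _) hb (one_mem _) (by rw [E.hc E.dA.hzD hb, h, one_mul])).1
      rcases hdec b hb with h | h <;> rcases hdec' b hb with h' | h'
      exacts [Or.inr (Or.inr ⟨b, h, h', hb1⟩), Or.inl ⟨h, h'⟩, Or.inr (Or.inl ⟨h, h'⟩),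
        Or.inr (Or.inr ⟨_, h, h', hbz⟩)]
    have hprod : b₁ * E.dA.z * (b₂ * E.dA.z) = b₁ * b₂ := by
      calc b₁ * E.dA.z * (b₂ * E.dA.z) = b₁ * (E.dA.z * b₂) * E.dA.z := by group
        _ = b₁ * b₂ * (E.dA.z * E.dA.z) := by rw [E.hc E.dA.hzD hb₂]; group
        _ = _ := by rw [E.dA.hzz, mul_one]
    have hprod' : b₁ * E.dA.z * b₂ = b₁ * b₂ * E.dA.z := by
      rw [mul_assoc, E.hc E.dA.hzD hb₂, ← mul_assoc]
    have hne : b₁ * b₂ * E.dA.z ≠ 1 := fun h => E.dA.hz1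
      (E.coord_eq E.dA.hzD (one_mem _) (mul_mem hb₁ hb₂) (one_mem _)
        (by rw [E.hc E.dA.hzD (mul_mem hb₁ hb₂), h, one_mul])).1
    rcases key b₁ hb₁ h1 with ⟨p, p'⟩ | ⟨p, p'⟩ | h <;>
      rcases key b₂ hb₂ h2ne with ⟨q, q'⟩ | ⟨q, q'⟩ | h'
    any_goals assumption
    · exact ⟨_, mul_mem p q, hprod ▸ mul_mem p' q', h12⟩
    · exact ⟨_, mul_assoc b₁ b₂ E.dA.z ▸ mul_mem p q, hprod' ▸ mul_mem p' q', hne⟩
    · exact ⟨_, hprod' ▸ mul_mem p q, mul_assoc b₁ b₂ E.dA.z ▸ mul_mem p' q', hne⟩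
    · exact ⟨_, hprod ▸ mul_mem p q, mul_mem p' q', h12⟩
  have hyk := E.fix_invariant hη hr hT hy hk
  have hyk' := E.fix_invariant hη hr' hT' hy hk'
  have hbig : 3 ≤ Nat.card ↥(T ⊓ T') := by
    have hne : y * k * y⁻¹ ≠ 1 := by rw [Ne, mul_inv_eq_one, mul_eq_left]; exact hk1
    haveI := Fintype.ofFinite ↥(T ⊓ T')
    rw [Nat.card_eq_fintype_card, ← Finset.card_univ]
    refine le_trans (le_of_eq ?_) (Finset.card_le_univ
      ({1, ⟨k, hk, hk'⟩, ⟨_, hyk, hyk'⟩} : Finset ↥(T ⊓ T')))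
    have a1 : (1 : ↥(T ⊓ T')) ≠ ⟨k, hk, hk'⟩ := fun h => hk1 (congrArg Subtype.val h).symm
    have a2 : (1 : ↥(T ⊓ T')) ≠ ⟨_, hyk, hyk'⟩ := fun h => hne (congrArg Subtype.val h).symm
    have a3 : (⟨k, hk, hk'⟩ : ↥(T ⊓ T')) ≠ ⟨_, hyk, hyk'⟩ :=
      fun h => hfree k hk hk1 (congrArg Subtype.val h).symm
    rw [Finset.card_insert_of_notMem (by simp [a1, a2]), Finset.card_pair a3]
  have hdvd := hcard ▸ Subgroup.card_dvd_of_le (inf_le_left : T ⊓ T' ≤ T)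
  have h4 : Nat.card ↥(T ⊓ T') = 4 := by
    have := Nat.le_of_dvd (by norm_num) hdvd
    interval_cases hc : Nat.card ↥(T ⊓ T') <;> omega
  have e1 := Subgroup.eq_of_le_of_card_ge (inf_le_left : T ⊓ T' ≤ T) (by omega)
  have e2 := Subgroup.eq_of_le_of_card_ge (inf_le_right : T ⊓ T' ≤ T') (by omega)
  exact e1.symm.trans e2

omit hη in
/-- Two strongly closed subgroups whose product is the Sylow subgroup. -/
theorem exists_closed (h2 : ∀ N : Subgroup G, N.Normal → N.index ≠ 2) :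
    ∃ T₁ T₂ : Subgroup G, Cfsg.IsStronglyClosed T₁ (E.S : Subgroup G) ∧
      Cfsg.IsStronglyClosed T₂ (E.S : Subgroup G) ∧
      Cfsg.IsInternalDirectProduct T₁ T₂ (E.S : Subgroup G) ∧
      Nonempty (E.A ≃* T₁) ∧ Nonempty (E.B ≃* T₂) := by
  obtain ⟨η, hm, hz, hmul, hmov⟩ := E.exists_eta h2
  have hη : E.IsEta η := ⟨hm, hz, hmul, hmov⟩
  have hr₀ : E.Refl E.dA.r₀ := E.dA.hr₀
  obtain ⟨T, ⟨eT⟩, hT, hdec⟩ := E.exists_fix hη hr₀
  have hcard : Nat.card T = 4 := by rw [← Nat.card_congr eT.toEquiv, E.hB4]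
  have hTS : T ≤ (E.S : Subgroup G) := fun x hx => ((hT x).1 hx).1.1
  have hN : ∀ y ∈ normalizer ((E.S : Subgroup G) : Set G), ∀ t ∈ (E.S : Subgroup G),
      (y * t * y⁻¹ ∈ T) = (t ∈ T) := by
    intro y hy t _
    refine propext ⟨fun h => ?_, E.fix_invariant hη hr₀ hT hy⟩
    have := E.fix_invariant hη hr₀ hT (inv_mem hy) h
    simpa [mul_assoc] using this
  have hcl : Cfsg.IsStronglyClosed T (E.S : Subgroup G) := by
    refine ⟨hTS, fun x hx g hg => ?_⟩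
    refine (iff_of_eq (fusion_invariant E.S (fun u => u ∈ T) hN ?_ x (hTS hx) g hg)).2 hx
    intro U hF n hn _ t ht
    rcases E.fam_cases hF with rfl | ⟨r, hr, hU, -⟩
    · exact hN n hn t ht
    obtain ⟨T', ⟨eT'⟩, hT', hdec'⟩ := E.exists_fix hη hr
    have hcard' : Nat.card T' = 4 := by rw [← Nat.card_congr eT'.toEquiv, E.hB4]
    have heq := E.fix_eq hη h2 hr₀ hr hcard hcard' hT hT' hdec hdec'
    subst heq
    have hstep : ∀ n ∈ normalizer (U : Set G), ∀ t ∈ U, t ∈ T → n * t * n⁻¹ ∈ T := by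
      intro n hn t ht htT
      obtain ⟨htC, -⟩ := (hT t).1 htT
      obtain ⟨hxS, hxr⟩ := (hU _).1 ((mem_normalizer_iff.1 hn t).1 ht)
      obtain ⟨z, hz, h1, hw⟩ := E.retract hη hr hxS hxr
      obtain ⟨y, hy, hye⟩ := E.cen_conj htC hz ((isConj_iff.2 ⟨n, rfl⟩ : IsConj t _).trans h1.symm)
      have hzT : z ∈ T := hye ▸ E.fix_invariant hη hr₀ hT hy htT
      obtain ⟨m, -, hm2, hm3⟩ := E.mover hr (hη.mem r hr.1) (hη.moved r hr)
      have hmz : m * z * m⁻¹ = z := (hm3 z hz.1 (E.comm_cen hz (E.SA hr.1)).eq).resolve_right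
        fun h => ((hT' z).1 hzT).2 (isConj_iff.2 ⟨m, h⟩)
      obtain ⟨x, hx, hxe⟩ := hw
      have hxe' : n * t * n⁻¹ = z * (x * η x) := by rw [← hxe, mul_inv_cancel_left]
      have hcomm : x * r = r * x := E.comm_of_mul hx (hη.mem x hx) hr.1 (one_mem _) (by
        rw [mul_one, ← hxe, mul_assoc z⁻¹, hxr, ← mul_assoc z⁻¹,
          (E.comm_cen hz (E.SA hr.1)).inv_left.eq, mul_assoc r])
      have hcos := E.coset_class hη hr hz hm2 hmz
      rcases E.dA.cent_refl hr.1 hr.2 hx hcomm with rfl | rfl | rfl | rfl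
      · rw [hxe', E.eta_one hη, mul_one, mul_one]; exact hzT
      · rw [hxe', hη.hz, mul_one] at h1
        exact (E.not_shift hz h1).elim
      · rw [hxe'] at h1
        exact (E.not_shift hz (h1.trans hcos.2.symm)).elim
      · have e : r * E.dA.z * η (r * E.dA.z) = E.dA.z * (r * η r) := by
          rw [hη.mul r hr.1 _ E.dA.hzD, hη.hz, mul_one,
            (E.comm_cen E.cen_zA (E.SA hr.1)).symm.eq, mul_assoc]
        rw [hxe', e] at h1
        exact (E.not_shift hz (h1.trans hcos.1.symm)).elim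
    refine propext ⟨fun h => ?_, hstep n hn t ht⟩
    have := hstep n⁻¹ (inv_mem hn) _ ((mem_normalizer_iff.1 hn t).1 ht) h
    simpa [mul_assoc] using this
  refine ⟨E.T₁ hη, T, E.T₁_closed hη, hcl, ⟨E.T₁_le hη, hTS, ?_, ?_, ?_⟩,
    graph_equiv _ _ _ E.disj, ⟨eT⟩⟩
  · intro a ha b hb
    exact (E.comm_cen ((hT b).1 hb).1 (E.T₁_le hη ha)).symm.eq
  · rw [eq_bot_iff]
    rintro t ⟨⟨x, hx, rfl⟩, ht⟩
    rw [mem_bot]
    obtain ⟨b, hb, h | h⟩ := E.cen_cases ((hT _).1 ht).1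
    · obtain ⟨h1, -⟩ := E.coord_eq hx (one_mem _) (hη.mem x hx) hb (h.trans (one_mul b).symm)
      rw [h1, E.eta_one hη, mul_one]
    · obtain ⟨rfl, -⟩ := E.coord_eq hx E.dA.hzD (hη.mem x hx) hb h
      change E.dA.z * η E.dA.z ∈ T at ht
      rw [hη.hz, mul_one] at ht
      exact absurd ht (E.zA_not_mem hη hr₀ hT)
  · refine le_antisymm (sup_le (E.T₁_le hη) hTS) ?_
    have hB : E.B ≤ E.T₁ hη ⊔ T := by
      intro b hb
      rcases hdec b hb with h | h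
      · exact mem_sup_right h
      · have := mul_mem (mem_sup_right h : _ ∈ E.T₁ hη ⊔ T)
          (inv_mem (mem_sup_left (E.z_mem_T₁ hη)))
        rwa [mul_inv_cancel_right] at this
    conv_lhs => rw [← E.hp.2.2.2.2]
    refine sup_le (fun a ha => ?_) hB
    have := mul_mem (mem_sup_left ⟨a, ha, rfl⟩ : a * η a ∈ E.T₁ hη ⊔ T) (inv_mem (hB (hη.mem a ha)))
    rwa [mul_inv_cancel_right] at this

end FPair

end CfsgLib.DihTimesDih
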