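import Cfsg.Prelude.Def_TwoFusion
import Cfsg.Agent.Lib.TwoFusion.DihedralFusion

/-!
Dihedral groups of order at least eight and internal products of two subgroups.
-/

set_option autoImplicit false
set_option linter.unusedSectionVars false

open Subgroup

namespace CfsgLib.DihTimesDih

variable {G : Type*} [Group G]

/-- What is used about a dihedral 2-group of order at least eight. -/
structure Dih (D : Subgroup G) where
  z : G
  q : G
  R : Subgroup G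
  r₀ : G
  r₁ : G
  K₀ : Subgroup G
  K₁ : Subgroup G
  hzD : z ∈ D
  hz1 : z ≠ 1
  hzz : z * z = 1
  hzc : ∀ d ∈ D, d * z = z * d
  hqR : q ∈ R
  hqq : q * q = z
  hRD : R ≤ D
  hRcomm : ∀ a ∈ R, ∀ b ∈ R, a * b = b * a
  hRinv : ∀ r ∈ R, r * r = 1 → r = 1 ∨ r = z
  refl : ∀ d ∈ D, d ∉ R → d * d = 1
  refl_inv : ∀ d ∈ D, d ∉ R → ∀ r ∈ R, d * r * d⁻¹ = r⁻¹
  refl_mul : ∀ d ∈ D, ∀ e ∈ D, d ∉ R → e ∉ R → d * e ∈ R
  hr₀ : r₀ ∈ D ∧ r₀ ∉ R
  hr₁ : r₁ ∈ D ∧ r₁ ∉ R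
  cover : ∀ d ∈ D, d ∉ R → ∃ c ∈ D, c * r₀ * c⁻¹ = d ∨ c * r₁ * c⁻¹ = d
  hK₀ : K₀.relIndex D = 2
  hK₁ : K₁.relIndex D = 2
  zK₀ : z ∈ K₀
  zK₁ : z ∈ K₁
  r₀K₀ : r₀ ∉ K₀
  r₁K₀ : r₁ ∈ K₀
  r₀K₁ : r₀ ∈ K₁
  r₁K₁ : r₁ ∉ K₁

namespace Dih

variable {D : Subgroup G} (d : Dih D)

theorem hqD : d.q ∈ D := d.hRD d.hqR

theorem zR : d.z ∈ d.R := d.hqq ▸ d.R.mul_mem d.hqR d.hqR

theorem z_inv : d.z⁻¹ = d.z := inv_eq_of_mul_eq_one_right d.hzz

theorem q_inv : d.q⁻¹ = d.q * d.z := by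
  refine inv_eq_of_mul_eq_one_right ?_
  rw [← mul_assoc, d.hqq, d.hzz]

theorem q_ne : d.q * d.q ≠ 1 := by rw [d.hqq]; exact d.hz1

theorem mem_R_of_sq {x : G} (hx : x ∈ D) (h : x * x ≠ 1) : x ∈ d.R :=
  by_contra fun hn => h (d.refl x hx hn)

theorem refl_ne {r : G} (hrR : r ∉ d.R) : r ≠ 1 ∧ r ≠ d.z :=
  ⟨fun h => hrR (h ▸ one_mem _), fun h => hrR (h ▸ d.zR)⟩

/-- The elements commuting with a reflection. -/
theorem cent_refl {r x : G} (hr : r ∈ D) (hrR : r ∉ d.R) (hx : x ∈ D) (hc : x * r = r * x) :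
    x = 1 ∨ x = d.z ∨ x = r ∨ x = r * d.z := by
  have hrr := d.refl r hr hrR
  by_cases hxR : x ∈ d.R
  · have h := d.refl_inv r hr hrR x hxR
    rw [← hc, mul_inv_cancel_right] at h
    have hxx : x * x = 1 := by nth_rw 1 [h]; exact inv_mul_cancel x
    rcases d.hRinv x hxR hxx with h1 | h1
    · exact Or.inl h1
    · exact Or.inr (Or.inl h1)
  · have hm : r * x ∈ d.R := d.refl_mul r hr x hx hrR hxR
    have hmm : (r * x) * (r * x) = 1 := by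
      rw [mul_assoc, ← mul_assoc x, hc, mul_assoc, d.refl x hx hxR, mul_one, hrr]
    have hx' : x = r * (r * x) := by rw [← mul_assoc, hrr, one_mul]
    rcases d.hRinv _ hm hmm with h | h
    · rw [h, mul_one] at hx'; exact Or.inr (Or.inr (Or.inl hx'))
    · rw [h] at hx'; exact Or.inr (Or.inr (Or.inr hx'))

/-- The elements commuting with a rotation that is not an involution are rotations. -/
theorem cent_rot {x y : G} (hx : x ∈ d.R) (hxx : x * x ≠ 1) (hy : y ∈ D) (hc : y * x = x * y) :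
    y ∈ d.R := by
  by_contra hyR
  have h := d.refl_inv y hy hyR x hx
  rw [hc, mul_inv_cancel_right] at h
  refine hxx ?_
  nth_rw 1 [h]
  exact inv_mul_cancel x

theorem cent_q {y : G} (hy : y ∈ D) (hc : y * d.q = d.q * y) : y ∈ d.R :=
  d.cent_rot d.hqR d.q_ne hy hc

theorem conj_q {x : G} (hx : x ∈ D) : x * d.q * x⁻¹ = d.q ∨ x * d.q * x⁻¹ = d.q * d.z := by
  by_cases hxR : x ∈ d.R
  · exact Or.inl (by rw [d.hRcomm x hxR _ d.hqR, mul_inv_cancel_right])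
  · exact Or.inr (by rw [d.refl_inv x hx hxR _ d.hqR, d.q_inv])

theorem q_conj {x : G} (hx : x ∈ D) : d.q * x * d.q⁻¹ = x ∨ d.q * x * d.q⁻¹ = x * d.z := by
  rcases d.conj_q hx with h | h <;> rw [mul_inv_eq_iff_eq_mul] at h
  · exact Or.inl (by rw [← h, mul_inv_cancel_right])
  · refine Or.inr ?_
    rw [mul_inv_eq_iff_eq_mul, mul_assoc x, ← d.hzc _ d.hqD, ← mul_assoc, h, mul_assoc (d.q * d.z),
      d.hzc x hx, ← mul_assoc, mul_assoc d.q, d.hzz, mul_one]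

theorem q_conj_refl {r : G} (hr : r ∈ D) (hrR : r ∉ d.R) : d.q * r * d.q⁻¹ = r * d.z := by
  have h := d.refl_inv r hr hrR _ d.hqR
  have hri : r⁻¹ = r := inv_eq_of_mul_eq_one_right (d.refl r hr hrR)
  rw [hri, d.q_inv] at h
  calc d.q * r * d.q⁻¹ = r * (r * d.q) * r * d.q⁻¹ := by
        rw [← mul_assoc r r, d.refl r hr hrR, one_mul]
    _ = r * (r * d.q * r) * d.q⁻¹ := by simp only [mul_assoc]
    _ = r * d.z := by
      rw [h, d.q_inv, mul_assoc, ← d.q_inv, show d.q⁻¹ * d.q⁻¹ = d.z from ?_]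
      rw [← mul_inv_rev, d.hqq, d.z_inv]

theorem sqrt_z {x : G} (hx : x ∈ D) (h : x * x = d.z) : x = d.q ∨ x = d.q * d.z := by
  have hxR : x ∈ d.R := d.mem_R_of_sq hx (by rw [h]; exact d.hz1)
  have hm : x * d.q⁻¹ ∈ d.R := d.R.mul_mem hxR (d.R.inv_mem d.hqR)
  have hmm : (x * d.q⁻¹) * (x * d.q⁻¹) = 1 := by
    calc (x * d.q⁻¹) * (x * d.q⁻¹) = x * (d.q⁻¹ * x) * d.q⁻¹ := by group
      _ = x * (x * d.q⁻¹) * d.q⁻¹ := by rw [d.hRcomm _ (d.R.inv_mem d.hqR) _ hxR]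
      _ = (x * x) * (d.q * d.q)⁻¹ := by group
      _ = 1 := by rw [h, d.hqq, mul_inv_cancel]
  have hx' : x = x * d.q⁻¹ * d.q := by group
  rcases d.hRinv _ hm hmm with h1 | h1
  · rw [h1, one_mul] at hx'; exact Or.inl hx'
  · rw [h1, ← d.hzc _ d.hqD] at hx'; exact Or.inr hx'

/-- An element that is not an involution has a 2-power equal to `z`. -/
theorem exists_pow_eq_z (hD : IsPGroup 2 D) {x : G} (hx : x ∈ D) (h : x * x ≠ 1) :
    ∃ k : ℕ, x ^ 2 ^ (k + 1) = d.z := by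
  have hxR := d.mem_R_of_sq hx h
  obtain ⟨k, hk⟩ := hD ⟨x, hx⟩
  have hk' : x ^ 2 ^ k = 1 := congrArg Subtype.val hk
  clear hk
  induction k with
  | zero => rw [pow_zero, pow_one] at hk'; exact absurd (by rw [hk', one_mul]) h
  | succ k ih =>
    by_cases hk1 : x ^ 2 ^ k = 1
    · exact ih hk1
    · have hsq : x ^ 2 ^ k * x ^ 2 ^ k = 1 := by rw [← pow_two, ← pow_mul, ← pow_succ]; exact hk'
      have hz := (d.hRinv _ (pow_mem hxR _) hsq).resolve_left hk1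
      cases k with
      | zero =>
        rw [pow_zero, pow_one] at hz
        exact absurd (by rw [hz, d.hzz]) h
      | succ j => exact ⟨j, hz⟩

end Dih

/-- Two commuting subgroups meeting trivially. -/
theorem split_unique {A B : Subgroup G} (hdisj : A ⊓ B = ⊥) {a a' b b' : G} (ha : a ∈ A)
    (ha' : a' ∈ A) (hb : b ∈ B) (hb' : b' ∈ B) (h : a * b = a' * b') : a = a' ∧ b = b' := by
  have h1 : a'⁻¹ * a = b' * b⁻¹ := by
    rw [eq_mul_inv_iff_mul_eq, mul_assoc, h, inv_mul_cancel_left]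
  have h2 : a'⁻¹ * a ∈ (⊥ : Subgroup G) := by
    rw [← hdisj]
    exact ⟨A.mul_mem (A.inv_mem ha') ha, h1 ▸ B.mul_mem hb' (B.inv_mem hb)⟩
  rw [mem_bot, inv_mul_eq_one] at h2
  subst h2
  exact ⟨rfl, mul_left_cancel h⟩

theorem exists_split {A B C : Subgroup G} (h : Cfsg.IsInternalDirectProduct A B C) {u : G}
    (hu : u ∈ C) : ∃ a ∈ A, ∃ b ∈ B, a * b = u := by
  obtain ⟨-, -, hc, -, hs⟩ := h
  rw [← hs, sup_eq_closure_mul] at hu
  induction hu using closure_induction with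
  | mem x hx =>
    obtain ⟨a, ha, b, hb, rfl⟩ := hx
    exact ⟨a, ha, b, hb, rfl⟩
  | one => exact ⟨1, one_mem _, 1, one_mem _, one_mul 1⟩
  | mul x y _ _ hx hy =>
    obtain ⟨a, ha, b, hb, rfl⟩ := hx
    obtain ⟨a', ha', b', hb', rfl⟩ := hy
    refine ⟨a * a', mul_mem ha ha', b * b', mul_mem hb hb', ?_⟩
    rw [mul_assoc a, ← mul_assoc a', hc a' ha' b hb]
    group
  | inv x _ hx =>
    obtain ⟨a, ha, b, hb, rfl⟩ := hx
    exact ⟨a⁻¹, inv_mem ha, b⁻¹, inv_mem hb, by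
      rw [mul_inv_rev]; exact hc _ (inv_mem ha) _ (inv_mem hb)⟩

/-- The graph of a map which is multiplicative on `A` with values in a subgroup commuting with `A`. -/
def graph (A B : Subgroup G) (η : G → G) (hη : ∀ a ∈ A, η a ∈ B) (hc : ∀ a ∈ A, ∀ b ∈ B, a * b = b * a)
    (hm : ∀ a ∈ A, ∀ a' ∈ A, η (a * a') = η a * η a') : Subgroup G where
  carrier := {u | ∃ a ∈ A, u = a * η a}
  one_mem' := by
    refine ⟨1, one_mem _, ?_⟩
    have h := hm 1 (one_mem _) 1 (one_mem _)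
    rw [mul_one, left_eq_mul] at h
    rw [h, mul_one]
  mul_mem' := by
    rintro _ _ ⟨a, ha, rfl⟩ ⟨a', ha', rfl⟩
    refine ⟨a * a', mul_mem ha ha', ?_⟩
    rw [hm a ha a' ha', mul_assoc a, ← mul_assoc (η a), ← hc a' ha' _ (hη a ha)]
    group
  inv_mem' := by
    rintro _ ⟨a, ha, rfl⟩
    refine ⟨a⁻¹, inv_mem ha, ?_⟩
    have h1 := hm 1 (one_mem _) 1 (one_mem _)
    rw [mul_one, left_eq_mul] at h1
    have h := hm a ha a⁻¹ (inv_mem ha)
    rw [mul_inv_cancel, h1, eq_comm, ← eq_inv_iff_mul_eq_one] at h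
    rw [mul_inv_rev, h, inv_inv, hc a⁻¹ (inv_mem ha) _ (hη _ (inv_mem ha))]

variable {A B : Subgroup G} {η : G → G} (hη : ∀ a ∈ A, η a ∈ B)
  (hc : ∀ a ∈ A, ∀ b ∈ B, a * b = b * a) (hm : ∀ a ∈ A, ∀ a' ∈ A, η (a * a') = η a * η a')

theorem mem_graph {u : G} : u ∈ graph A B η hη hc hm ↔ ∃ a ∈ A, u = a * η a := Iff.rfl

theorem graph_equiv (hdisj : A ⊓ B = ⊥) : Nonempty (A ≃* graph A B η hη hc hm) := by
  let f : A →* graph A B η hη hc hm :=
    MonoidHom.mk' (fun a => ⟨(a : G) * η a, a, a.2, rfl⟩) fun a a' => Subtype.ext (by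
      show ((a : G) * a') * η ((a : G) * a') = (a : G) * η a * ((a' : G) * η a')
      rw [hm _ a.2 _ a'.2, mul_assoc (a : G) (η a), ← mul_assoc (η a), ← hc _ a'.2 _ (hη _ a.2)]
      group)
  refine ⟨MulEquiv.ofBijective f ⟨fun a a' h => Subtype.ext ?_, ?_⟩⟩
  · exact (split_unique hdisj a.2 a'.2 (hη _ a.2) (hη _ a'.2) (congrArg Subtype.val h)).1
  · rintro ⟨_, a, ha, rfl⟩
    exact ⟨⟨a, ha⟩, rfl⟩

/-- Construction from generators. -/
theorem exists_dih [Finite G] {D : Subgroup G} (E : CfsgLib.TwoFusion.DihedralFusion.DihGens D)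
    (hk : 1 ≤ E.k) : Nonempty (Dih D) := by
  have hz : E.z ∈ Subgroup.zpowers E.a := E.z_mem
  let K : ℤ → Subgroup G := fun c =>
    { carrier := {x | ∃ i : ℤ, (x = E.a ^ i ∧ Even i) ∨ (x = E.a ^ i * E.b ∧ Even (i + c))}
      one_mem' := ⟨0, Or.inl ⟨(zpow_zero _).symm, even_iff_two_dvd.2 (dvd_zero 2)⟩⟩
      mul_mem' := by
        rintro x y ⟨i, hi⟩ ⟨j, hj⟩
        rcases hi with ⟨rfl, hi⟩ | ⟨rfl, hi⟩ <;> rcases hj with ⟨rfl, hj⟩ | ⟨rfl, hj⟩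
        · exact ⟨i + j, Or.inl ⟨(zpow_add _ _ _).symm, hi.add hj⟩⟩
        · exact ⟨i + j, Or.inr ⟨by rw [zpow_add, mul_assoc], by rw [add_assoc]; exact hi.add hj⟩⟩
        · refine ⟨i + (-j), Or.inr ⟨?_, by rw [add_right_comm]; exact hi.add hj.neg⟩⟩
          rw [mul_assoc, E.b_mul_zpow, ← mul_assoc, ← zpow_add]
        · refine ⟨i - j, Or.inl ⟨E.refl_mul_refl i j, ?_⟩⟩
          have := hi.sub hj
          rwa [add_sub_add_right_eq_sub] at this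
      inv_mem' := by
        rintro x ⟨i, hi⟩
        rcases hi with ⟨rfl, hi⟩ | ⟨rfl, hi⟩
        · exact ⟨-i, Or.inl ⟨(zpow_neg _ _).symm, hi.neg⟩⟩
        · exact ⟨i, Or.inr ⟨inv_eq_of_mul_eq_one_right (E.refl_sq i), hi⟩⟩ }
  have hpar : ∀ i j : ℤ, E.a ^ i = E.a ^ j → (Even i ↔ Even j) := by
    intro i j h
    have h1 : E.a ^ (i - j) = 1 := by rw [zpow_sub, h, mul_inv_cancel]
    rw [E.zpow_eq_one_iff] at h1
    have h2 : (2 : ℤ) ∣ ((2 ^ (E.k + 1) : ℕ) : ℤ) := by push_cast; exact dvd_pow_self 2 (by omega)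
    have := h2.trans h1
    rw [Int.even_iff, Int.even_iff]
    omega
  have hKb : ∀ c i : ℤ, (E.a ^ i * E.b ∈ K c ↔ Even (i + c)) := by
    intro c i
    refine ⟨?_, fun h => ⟨i, Or.inr ⟨rfl, h⟩⟩⟩
    rintro ⟨j, ⟨h, -⟩ | ⟨h, hj⟩⟩
    · exact absurd (h ▸ zpow_mem (mem_zpowers E.a) j) (E.refl_not_mem_rot i)
    · have := hpar i j (mul_right_cancel h)
      rw [Int.even_add] at hj ⊢
      rw [this]; exact hj
  have hidx : ∀ c : ℤ, (K c).relIndex D = 2 := by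
    intro c
    rw [relIndex, index_eq_two_iff]
    refine ⟨⟨E.a, E.ha⟩, fun x => ?_⟩
    have hKa : ∀ i : ℤ, (E.a ^ i ∈ K c ↔ Even i) := fun i => by
      refine ⟨?_, fun h => ⟨i, Or.inl ⟨rfl, h⟩⟩⟩
      rintro ⟨j, ⟨h, hj⟩ | ⟨h, -⟩⟩
      · exact (hpar i j h).2 hj
      · exact absurd (h ▸ zpow_mem (mem_zpowers E.a) i) (E.refl_not_mem_rot j)
    simp only [mem_subgroupOf, Subgroup.coe_mul]
    rcases E.cases x x.2 with ⟨i, h | h⟩ <;> rw [h]
    · rw [← zpow_add_one, hKa, hKa, Int.even_add_one]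
      by_cases hi : Even i <;> simp [hi]
    · have e : E.a ^ i * E.b * E.a = E.a ^ (i + -1) * E.b := by
        conv_lhs => rw [mul_assoc]; arg 2; arg 2; rw [← zpow_one E.a]
        rw [E.b_mul_zpow, ← mul_assoc, ← zpow_add]
      rw [e, hKb, hKb, show i + -1 + c = (i + c) - 1 by ring, Int.even_sub_one]
      by_cases hi : Even (i + c) <;> simp [hi]
  have hzero : E.b = E.a ^ (0 : ℤ) * E.b := by rw [zpow_zero, one_mul]
  have hone : E.a * E.b = E.a ^ (1 : ℤ) * E.b := by rw [zpow_one]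
  have hzK : ∀ c, E.z ∈ K c := fun c => by
    refine ⟨((2 ^ E.k : ℕ) : ℤ), Or.inl ⟨rfl, ?_⟩⟩
    rw [Int.even_coe_nat, Nat.even_pow]
    exact ⟨even_two, by omega⟩
  refine ⟨{
    z := E.z, q := E.q, R := zpowers E.a, r₀ := E.b, r₁ := E.a * E.b, K₀ := K 1, K₁ := K 0
    hzD := E.z_mem_S, hz1 := E.z_ne_one, hzz := E.z_sq
    hzc := fun s hs => (E.z_comm hs).eq.symm
    hqR := zpow_mem (mem_zpowers _) _, hqq := E.q_sq hk
    hRD := zpowers_le.2 E.ha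
    hRcomm := ?_, hRinv := ?_, refl := ?_, refl_inv := ?_, refl_mul := ?_
    hr₀ := ⟨E.hb, E.b_not_mem⟩
    hr₁ := ⟨mul_mem E.ha E.hb, by rw [hone]; exact E.refl_not_mem_rot 1⟩
    cover := ?_
    hK₀ := hidx 1, hK₁ := hidx 0, zK₀ := hzK 1, zK₁ := hzK 0
    r₀K₀ := by rw [hzero, hKb]; decide
    r₁K₀ := by rw [hone, hKb]; decide
    r₀K₁ := by rw [hzero, hKb]; decide
    r₁K₁ := by rw [hone, hKb]; decide }⟩
  · intro a ha b hb
    obtain ⟨i, rfl⟩ := mem_zpowers_iff.1 ha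
    obtain ⟨j, rfl⟩ := mem_zpowers_iff.1 hb
    exact ((Commute.refl E.a).zpow_zpow i j).eq
  · exact fun r hr h => E.rot_sq_eq_one hr h
  · intro x hx hxR
    rcases E.cases x hx with ⟨i, rfl | rfl⟩
    · exact absurd (zpow_mem (mem_zpowers _) i) hxR
    · exact E.refl_sq i
  · intro x hx hxR r hr
    obtain ⟨j, rfl⟩ := mem_zpowers_iff.1 hr
    rcases E.cases x hx with ⟨i, rfl | rfl⟩
    · exact absurd (zpow_mem (mem_zpowers _) i) hxR
    · calc E.a ^ i * E.b * E.a ^ j * (E.a ^ i * E.b)⁻¹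
          = E.a ^ i * (E.b * E.a ^ j * E.b⁻¹) * (E.a ^ i)⁻¹ := by group
        _ = _ := by rw [E.b_conj_zpow, ← zpow_neg, ← zpow_neg, ← zpow_add, ← zpow_add]; congr 1; ring
  · intro x hx y hy hxR hyR
    rcases E.cases x hx with ⟨i, rfl | rfl⟩
    · exact absurd (zpow_mem (mem_zpowers _) i) hxR
    rcases E.cases y hy with ⟨j, rfl | rfl⟩
    · exact absurd (zpow_mem (mem_zpowers _) j) hyR
    rw [E.refl_mul_refl]; exact zpow_mem (mem_zpowers _) _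
  · intro x hx hxR
    rcases E.cases x hx with ⟨i, rfl | rfl⟩
    · exact absurd (zpow_mem (mem_zpowers _) i) hxR
    have hconj : ∀ l j : ℤ, E.a ^ l * (E.a ^ j * E.b) * (E.a ^ l)⁻¹ = E.a ^ (j + 2 * l) * E.b := by
      intro l j
      rw [← zpow_neg, mul_assoc (E.a ^ l), mul_assoc (E.a ^ j), E.b_mul_zpow, neg_neg, ← mul_assoc,
        ← mul_assoc, ← zpow_add, ← zpow_add]
      congr 2; ring
    rcases Int.even_or_odd i with ⟨l, hl⟩ | ⟨l, hl⟩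
    · refine ⟨E.a ^ l, zpow_mem E.ha l, Or.inl ?_⟩
      rw [hzero, hconj]; congr 2; omega
    · refine ⟨E.a ^ l, zpow_mem E.ha l, Or.inr ?_⟩
      rw [hone, hconj]; congr 2; omega

end CfsgLib.DihTimesDih
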