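import Cfsg.Agent.Lib.DihTimesDih.Basic
import Cfsg.Agent.Lib.DihTimesDih.Shape

/-!
Odd elements normalizing subgroups of a direct product with a dihedral factor.
-/

set_option autoImplicit false
set_option linter.unusedSectionVars false

open Subgroup CfsgLib.ConjFunctor CfsgLib.LocEven.StrongAlperin

namespace CfsgLib.DihTimesDih

variable {G : Type*} [Group G]

theorem mul_sq_of_commute {a b : G} (h : a * b = b * a) : (a * b) * (a * b) = (a * a) * (b * b) := by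
  rw [mul_assoc, ← mul_assoc b, ← h, mul_assoc a b, ← mul_assoc a a]

/-- Conjugation by the coordinates. -/
theorem conj_mul_comm {a b x y : G} (hab : a * y = y * a) (hax : a * b = b * a) (hbx : b * x = x * b)
    (hxy : x * y = y * x) (hby : a * x * a⁻¹ * (b * y * b⁻¹) = (b * y * b⁻¹) * (a * x * a⁻¹)) :
    (a * b) * (x * y) * (a * b)⁻¹ = (a * x * a⁻¹) * (b * y * b⁻¹) := by
  calc (a * b) * (x * y) * (a * b)⁻¹ = a * (b * x) * y * b⁻¹ * a⁻¹ := by group
    _ = a * x * (b * y * b⁻¹) * a⁻¹ := by rw [hbx]; group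
    _ = (a * x * a⁻¹) * (a * (b * y * b⁻¹) * a⁻¹) := by group
    _ = _ := by
      congr 1
      rw [mul_inv_eq_iff_eq_mul]
      have h1 : a * b⁻¹ = b⁻¹ * a := (Commute.inv_right (show Commute a b from hax)).eq
      calc a * (b * y * b⁻¹) = (a * b) * y * b⁻¹ := by group
        _ = b * (a * y) * b⁻¹ := by rw [hax]; group
        _ = b * y * (a * b⁻¹) := by rw [hab]; group
        _ = b * y * b⁻¹ * a := by rw [h1]; group

section FourTimes

variable {A B P U : Subgroup G}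

/-- `U = V × (U ∩ B)` with `V` of exponent two. -/
structure FourTimes (A B U V : Subgroup G) : Prop where
  hVA : V ≤ A
  hVU : V ≤ U
  hVsq : ∀ v ∈ V, v * v = 1
  split : ∀ u ∈ U, ∃ v ∈ V, ∃ b ∈ B, b ∈ U ∧ v * b = u

variable {V : Subgroup G} (hp : Cfsg.IsInternalDirectProduct A B P) (hU : FourTimes A B U V)
  (dB : Dih B)

include hp hU

theorem FourTimes.comm_V : ∀ v ∈ V, ∀ w ∈ V, v * w = w * v := by
  intro v hv w hw
  have h1 := hU.hVsq _ (V.mul_mem hv hw)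
  calc v * w = v * (v * w * (v * w)) * w := by rw [h1, mul_one]
    _ = (v * v) * (w * v) * (w * w) := by group
    _ = w * v := by rw [hU.hVsq v hv, hU.hVsq w hw, one_mul, mul_one]

theorem FourTimes.sq_eq {v b : G} (hv : v ∈ V) (hb : b ∈ B) : (v * b) * (v * b) = b * b := by
  rw [mul_sq_of_commute (hp.2.2.1 v (hU.hVA hv) b hb), hU.hVsq v hv, one_mul]

/-- Every element normalizing `U` fixes the central involution of the dihedral factor. -/
theorem FourTimes.fix_z (hB : IsPGroup 2 B) (hx : ∃ u ∈ U, u * u ≠ 1) {n : G}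
    (hn : n ∈ normalizer (U : Set G)) : n * dB.z * n⁻¹ = dB.z := by
  obtain ⟨u, hu, hu2⟩ := hx
  obtain ⟨v, hv, b, hb, -, rfl⟩ := hU.split u hu
  rw [hU.sq_eq hp hv hb] at hu2
  obtain ⟨k, hk⟩ := dB.exists_pow_eq_z hB hb hu2
  have hpow : ∀ v ∈ V, ∀ b ∈ B, (v * b) ^ 2 ^ (k + 1) = (b * b) ^ 2 ^ k := by
    intro v hv b hb
    rw [pow_succ', pow_mul, pow_two, hU.sq_eq hp hv hb]
  obtain ⟨v', hv', b', hb', -, he⟩ := hU.split _ ((mem_normalizer_iff.1 hn _).1 hu)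
  have h1 : n * dB.z * n⁻¹ = (b' * b') ^ 2 ^ k := by
    rw [← hpow v' hv' b' hb', he, conj_pow, hpow v hv b hb, ← hk, pow_succ', pow_mul, pow_two]
  have hR : (b' * b') ^ 2 ^ k ∈ dB.R := by
    refine pow_mem ?_ _
    by_cases hb'R : b' ∈ dB.R
    · exact mul_mem hb'R hb'R
    · rw [dB.refl b' hb' hb'R]; exact one_mem _
  rw [← h1] at hR
  refine (dB.hRinv _ hR ?_).resolve_left ?_
  · rw [conj_mul, dB.hzz, mul_one, mul_inv_cancel]
  · rw [mul_inv_eq_one, mul_eq_left]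
    exact dB.hz1

include dB in
/-- An odd element fixing `V` and the central involution centralizes `U`. -/
theorem FourTimes.centralizes [Finite G] (hP : IsPGroup 2 P) (hUP : U ≤ P)
    (hx : ∃ u ∈ U, u * u ≠ 1) {n : G} (hn : n ∈ normalizer (U : Set G)) (ho : Odd (orderOf n))
    (hV : ∀ v ∈ V, n * v * n⁻¹ = v) : ∀ u ∈ U, n * u * n⁻¹ = u := by
  obtain ⟨hAP, hBP, hc, hd, hsup⟩ := hp
  have hp : Cfsg.IsInternalDirectProduct A B P := ⟨hAP, hBP, hc, hd, hsup⟩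
  have hB : IsPGroup 2 B := hP.to_le hBP
  have hz := hU.fix_z hp dB hB hx hn
  let R : Subgroup G :=
    { carrier := {u | u ∈ U ∧ ∃ v ∈ V, ∃ b ∈ dB.R, v * b = u}
      one_mem' := ⟨one_mem _, 1, one_mem _, 1, one_mem _, one_mul 1⟩
      mul_mem' := by
        rintro x y ⟨hx, v, hv, b, hb, rfl⟩ ⟨hy, v', hv', b', hb', rfl⟩
        refine ⟨mul_mem hx hy, v * v', mul_mem hv hv', b * b', mul_mem hb hb', ?_⟩
        rw [mul_assoc v, ← mul_assoc v', hc v' (hU.hVA hv') b (dB.hRD hb)]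
        group
      inv_mem' := by
        rintro x ⟨hx, v, hv, b, hb, rfl⟩
        refine ⟨inv_mem hx, v⁻¹, inv_mem hv, b⁻¹, inv_mem hb, ?_⟩
        rw [mul_inv_rev]
        exact hc _ (inv_mem (hU.hVA hv)) _ (inv_mem (dB.hRD hb)) }
  refine centralizes_of_abelian ho (hP.to_le hUP) (fun u hu => (mem_normalizer_iff.1 hn u).1 hu)
    (R := R) (fun u hu => hu.1) ?_ ?_ ?_ ?_ ?_
  · rintro r ⟨hrU, v, hv, b, hb, rfl⟩
    have hn' := (mem_normalizer_iff.1 hn (v * b)).1 hrU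
    refine ⟨hn', ?_⟩
    by_cases hbb : b * b = 1
    · rcases dB.hRinv b hb hbb with rfl | rfl
      · exact ⟨v, hv, 1, one_mem _, by rw [mul_one, hV v hv]⟩
      · exact ⟨v, hv, dB.z, hb, by rw [← conj_mul, hV v hv, hz]⟩
    · obtain ⟨v', hv', b', hb', -, he⟩ := hU.split _ hn'
      refine ⟨v', hv', b', dB.mem_R_of_sq hb' fun h' => hbb ?_, he⟩
      have h1 : (v' * b') * (v' * b') = 1 := by
        rw [hU.sq_eq hp hv' hb', h']
      rw [he, conj_mul, mul_inv_eq_one, mul_eq_left,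
        hU.sq_eq hp hv (dB.hRD hb)] at h1
      exact h1
  · rintro u hu r ⟨hrU, v, hv, b, hb, rfl⟩
    obtain ⟨v', hv', b', hb', -, rfl⟩ := hU.split u hu
    refine ⟨mul_mem (mul_mem hu hrU) (inv_mem hu), v, hv, b' * b * b'⁻¹, ?_, ?_⟩
    · by_cases hb'R : b' ∈ dB.R
      · exact mul_mem (mul_mem hb'R hb) (inv_mem hb'R)
      · rw [dB.refl_inv b' hb' hb'R b hb]; exact inv_mem hb
    · have hbb : b' * b * b'⁻¹ ∈ B := mul_mem (mul_mem hb' (dB.hRD hb)) (inv_mem hb')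
      have hvc : v' * v * v'⁻¹ = v := by
        rw [hU.comm_V hp v' hv' v hv, mul_inv_cancel_right]
      rw [conj_mul_comm (hc _ (hU.hVA hv') _ (dB.hRD hb)) (hc _ (hU.hVA hv') _ hb')
        (hc _ (hU.hVA hv) _ hb').symm (hc _ (hU.hVA hv) _ (dB.hRD hb))
        (by rw [hvc]; exact hc _ (hU.hVA hv) _ hbb), hvc]
  · rintro x ⟨-, v, hv, b, hb, rfl⟩ y ⟨-, v', hv', b', hb', rfl⟩
    have h1 := hc v (hU.hVA hv) b' (dB.hRD hb')
    have h2 := hc v' (hU.hVA hv') b (dB.hRD hb)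
    have h3 := hU.comm_V hp v hv v' hv'
    calc v * b * (v' * b') = v * (b * v') * b' := by group
      _ = (v * v') * (b * b') := by rw [← h2]; group
      _ = v' * v * (b' * b) := by rw [h3, dB.hRcomm b hb b' hb']
      _ = v' * (v * b') * b := by group
      _ = _ := by rw [h1]; group
  · rintro r ⟨-, v, hv, b, hb, rfl⟩ hrr
    rw [hU.sq_eq hp hv (dB.hRD hb)] at hrr
    rcases dB.hRinv b hb hrr with rfl | rfl
    · rw [mul_one, hV v hv]
    · rw [← conj_mul, hV v hv, hz]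
  · intro u hu hcomm
    obtain ⟨u0, hu0, hu02⟩ := hx
    obtain ⟨v0, hv0, b0, hb0, -, rfl⟩ := hU.split u0 hu0
    rw [hU.sq_eq hp hv0 hb0] at hu02
    have hb0R := dB.mem_R_of_sq hb0 hu02
    obtain ⟨v, hv, b, hb, -, rfl⟩ := hU.split u hu
    refine ⟨hu, v, hv, b, dB.cent_rot hb0R hu02 hb ?_, rfl⟩
    have h := hcomm _ ⟨hu0, v0, hv0, b0, hb0R, rfl⟩
    have h1 : (v * v0) * (b * b0) = (v0 * v) * (b0 * b) := by
      calc (v * v0) * (b * b0) = v * (v0 * b) * b0 := by group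
        _ = v * b * (v0 * b0) := by rw [hc v0 (hU.hVA hv0) b hb]; group
        _ = v0 * b0 * (v * b) := h
        _ = v0 * (b0 * v) * b := by group
        _ = _ := by rw [← hc v (hU.hVA hv) b0 hb0]; group
    exact (split_unique hd (mul_mem (hU.hVA hv) (hU.hVA hv0)) (mul_mem (hU.hVA hv0) (hU.hVA hv))
      (mul_mem hb hb0) (mul_mem hb0 hb) h1).2

/-- The involutions commuting with all of `U`. -/
theorem FourTimes.omega_center (hx : ∃ u ∈ U, u * u ≠ 1) {w : G} (hw : w ∈ U) (hww : w * w = 1)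
    (hc' : ∀ u ∈ U, w * u = u * w) : ∃ v ∈ V, w = v ∨ w = v * dB.z := by
  obtain ⟨hAP, hBP, hc, hd, hsup⟩ := hp
  have hp : Cfsg.IsInternalDirectProduct A B P := ⟨hAP, hBP, hc, hd, hsup⟩
  obtain ⟨u0, hu0, hu02⟩ := hx
  obtain ⟨v0, hv0, b0, hb0, -, rfl⟩ := hU.split u0 hu0
  rw [hU.sq_eq hp hv0 hb0] at hu02
  obtain ⟨v, hv, b, hb, -, rfl⟩ := hU.split w hw
  refine ⟨v, hv, ?_⟩
  rw [hU.sq_eq hp hv hb] at hww
  have h1 : (v * v0) * (b * b0) = (v0 * v) * (b0 * b) := by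
    calc (v * v0) * (b * b0) = v * (v0 * b) * b0 := by group
      _ = v * b * (v0 * b0) := by rw [hc v0 (hU.hVA hv0) b hb]; group
      _ = v0 * b0 * (v * b) := hc' _ hu0
      _ = v0 * (b0 * v) * b := by group
      _ = _ := by rw [← hc v (hU.hVA hv) b0 hb0]; group
  have h2 := (split_unique hd (mul_mem (hU.hVA hv) (hU.hVA hv0)) (mul_mem (hU.hVA hv0) (hU.hVA hv))
      (mul_mem hb hb0) (mul_mem hb0 hb) h1).2
  have hbR := dB.cent_rot (dB.mem_R_of_sq hb0 hu02) hu02 hb h2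
  rcases dB.hRinv b hbR hww with rfl | rfl
  · exact Or.inl (mul_one v)
  · exact Or.inr rfl

/-- In a member of the family the dihedral factor is contained. -/
theorem FourTimes.right_le [Finite G] (S : Sylow 2 G) (hS : P = (S : Subgroup G))
    (hF : Fam 2 (S : Subgroup G) U) (hzU : dB.z ∈ U) (hx : ∃ u ∈ U, u * u ≠ 1) : B ≤ U := by
  haveI : Fact (Nat.Prime 2) := ⟨Nat.prime_two⟩
  obtain ⟨hAP, hBP, hc, hd, hsup⟩ := hp
  have hp : Cfsg.IsInternalDirectProduct A B P := ⟨hAP, hBP, hc, hd, hsup⟩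
  have hP : IsPGroup 2 P := hS ▸ S.isPGroup'
  have hUP : U ≤ P := hS ▸ hF.1.le
  have hzc : ∀ u ∈ U, dB.z * u = u * dB.z := by
    intro u hu
    obtain ⟨v, hv, b, hb, -, rfl⟩ := hU.split u hu
    rw [← mul_assoc, ← hc v (hU.hVA hv) _ dB.hzD, mul_assoc, ← dB.hzc b hb, ← mul_assoc]
  have hVc : ∀ v ∈ V, ∀ u ∈ U, v * u = u * v := by
    intro v hv u hu
    obtain ⟨v', hv', b, hb, -, rfl⟩ := hU.split u hu
    rw [← mul_assoc, hU.comm_V hp v hv v' hv', mul_assoc, hc v (hU.hVA hv) b hb, ← mul_assoc]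
  let M : Subgroup G :=
    { carrier := {n | n ∈ normalizer (U : Set G) ∧ ∀ v ∈ V, n * v * n⁻¹ = v}
      one_mem' := ⟨one_mem _, fun v _ => by simp⟩
      mul_mem' := fun {a b} ha hb => ⟨mul_mem ha.1 hb.1, fun v hv => by
        calc a * b * v * (a * b)⁻¹ = a * (b * v * b⁻¹) * a⁻¹ := by group
          _ = v := by rw [hb.2 v hv, ha.2 v hv]⟩
      inv_mem' := fun {a} ha => ⟨inv_mem ha.1, fun v hv => by
        conv_lhs => rw [← ha.2 v hv]
        group⟩ }
  have hMn : normalizer (U : Set G) ≤ normalizer (M : Set G) := by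
    intro g hg
    apply CfsgLib.TwoFusion.ConjUtil.mem_normalizer_of_conj_mem
    rintro n ⟨hnN, hnV⟩
    refine ⟨mul_mem (mul_mem hg hnN) (inv_mem hg), fun v hv => ?_⟩
    have hw : g⁻¹ * v * g ∈ U := (mem_normalizer_iff''.1 hg v).1 (hU.hVU hv)
    have hfix : n * (g⁻¹ * v * g) * n⁻¹ = g⁻¹ * v * g := by
      obtain ⟨v', hv', h | h⟩ := hU.omega_center hp dB hx hw
        (by
          calc g⁻¹ * v * g * (g⁻¹ * v * g) = g⁻¹ * (v * v) * g := by group
            _ = 1 := by rw [hU.hVsq v hv]; group)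
        (fun u hu => by
          have := hVc v hv _ ((mem_normalizer_iff.1 hg u).1 hu)
          calc g⁻¹ * v * g * u = g⁻¹ * (v * (g * u * g⁻¹)) * g := by group
            _ = _ := by rw [this]; group)
      · rw [h, hnV v' hv']
      · rw [h, ← conj_mul, hnV v' hv', hU.fix_z hp dB (hP.to_le hBP) hx hnN]
    calc g * n * g⁻¹ * v * (g * n * g⁻¹)⁻¹ = g * (n * (g⁻¹ * v * g) * n⁻¹) * g⁻¹ := by group
      _ = v := by rw [hfix]; group
  by_contra hBU
  obtain ⟨b, hb, hbN, hbU⟩ : ∃ b ∈ B, b ∈ normalizer (U : Set G) ∧ b ∉ U := by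
    have hlt : U ⊓ B < B := lt_of_le_of_ne inf_le_right fun h => hBU (h ▸ inf_le_left)
    obtain ⟨b, hb, hbI⟩ := SetLike.exists_of_lt
      (CfsgLib.ConjFunctor.lt_inf_normalizer (hP.to_le hBP) hlt)
    refine ⟨b, hb.1, ?_, fun h => hbI ⟨h, hb.1⟩⟩
    apply CfsgLib.TwoFusion.ConjUtil.mem_normalizer_of_conj_mem
    intro u hu
    obtain ⟨v, hv, b', hb', hb'U, rfl⟩ := hU.split u hu
    have h1 : b * v * b⁻¹ = v := by rw [← hc v (hU.hVA hv) b hb.1, mul_inv_cancel_right]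
    rw [← conj_mul, h1]
    exact mul_mem (hU.hVU hv) ((mem_normalizer_iff.1 hb.2 b').1 ⟨hb'U, hb'⟩).1
  refine hbU (mem_of_normal_fixing S hF M (fun n hn => hn.1) hMn ?_ (hS ▸ hBP hb) ⟨hbN, ?_⟩)
  · intro m hm hodd
    exact hU.centralizes hp dB hP hUP hx hm.1 hodd hm.2
  · intro v hv
    rw [← hc v (hU.hVA hv) b hb, mul_inv_cancel_right]

end FourTimes

section Rotations

variable {A B P U : Subgroup G} (dA : Dih A) (dB : Dih B) (hp : Cfsg.IsInternalDirectProduct A B P)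

include hp

theorem fix_involutions_centralizes [Finite G] (hP : IsPGroup 2 P) (hUP : U ≤ P)
    (hq : dA.q * dB.q ∈ U) {n : G} (hn : n ∈ normalizer (U : Set G)) (ho : Odd (orderOf n))
    (hzA : n * dA.z * n⁻¹ = dA.z) (hzB : n * dB.z * n⁻¹ = dB.z) :
    ∀ u ∈ U, n * u * n⁻¹ = u := by
  obtain ⟨hAP, hBP, hc, hd, hsup⟩ := hp
  have hp : Cfsg.IsInternalDirectProduct A B P := ⟨hAP, hBP, hc, hd, hsup⟩
  have hsq : ∀ a ∈ A, ∀ b ∈ B, (a * b) * (a * b) = (a * a) * (b * b) :=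
    fun a ha b hb => mul_sq_of_commute (hc a ha b hb)
  set j := dA.q * dB.q with hj
  have hjj : j * j = dA.z * dB.z := by rw [hsq _ dA.hqD _ dB.hqD, dA.hqq, dB.hqq]
  have hjn : n * j * n⁻¹ = j := by
    have hm := (mem_normalizer_iff.1 hn j).1 hq
    obtain ⟨a, ha, b, hb, he⟩ := exists_split hp (hUP hm)
    have h2 : (a * b) * (a * b) = dA.z * dB.z := by
      rw [he, conj_mul, hjj, ← conj_mul, hzA, hzB]
    rw [hsq a ha b hb] at h2
    obtain ⟨h3, h4⟩ := split_unique hd (mul_mem ha ha) dA.hzD (mul_mem hb hb) dB.hzD h2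
    set c := j⁻¹ * (n * j * n⁻¹) with hcdef
    have hcz : c = 1 ∨ c = dA.z ∨ c = dB.z ∨ c = dA.z * dB.z := by
      have e : c = (dA.q⁻¹ * a) * (dB.q⁻¹ * b) := by
        rw [hcdef, ← he, hj, mul_inv_rev,
          show dB.q⁻¹ * dA.q⁻¹ = dA.q⁻¹ * dB.q⁻¹ from
            (hc _ (inv_mem dA.hqD) _ (inv_mem dB.hqD)).symm]
        calc dA.q⁻¹ * dB.q⁻¹ * (a * b) = dA.q⁻¹ * (dB.q⁻¹ * a) * b := by group
          _ = _ := by rw [← hc a ha _ (inv_mem dB.hqD)]; group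
      rcases dA.sqrt_z ha h3 with rfl | rfl <;> rcases dB.sqrt_z hb h4 with rfl | rfl <;> rw [e] <;>
        simp only [inv_mul_cancel, inv_mul_cancel_left, one_mul, mul_one, true_or, or_true]
    have hcn : n * c * n⁻¹ = c := by
      rcases hcz with h | h | h | h <;> rw [h]
      · simp
      · exact hzA
      · exact hzB
      · rw [← conj_mul, hzA, hzB]
    have hcc : c * c = 1 := by
      rcases hcz with h | h | h | h <;> rw [h]
      · simp
      · exact dA.hzz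
      · exact dB.hzz
      · rw [hsq _ dA.hzD _ dB.hzD, dA.hzz, dB.hzz, one_mul]
    have := eq_one_of_odd_shift ho (k := 1) (by simpa [pow_two] using hcc) (u := j)
      (by rw [hcdef]; group) hcn
    rw [hcdef, inv_mul_eq_one] at this
    exact this.symm
  have hcj : ∀ u ∈ P, u * j = j * u → ∃ a ∈ dA.R, ∃ b ∈ dB.R, a * b = u := by
    intro u hu h
    obtain ⟨a, ha, b, hb, rfl⟩ := exists_split hp hu
    have h1 : (a * dA.q) * (b * dB.q) = (dA.q * a) * (dB.q * b) := by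
      calc (a * dA.q) * (b * dB.q) = a * (dA.q * b) * dB.q := by group
        _ = a * b * (dA.q * dB.q) := by rw [hc _ dA.hqD b hb]; group
        _ = dA.q * dB.q * (a * b) := h
        _ = dA.q * (dB.q * a) * b := by group
        _ = _ := by rw [← hc a ha _ dB.hqD]; group
    obtain ⟨h2, h3⟩ := split_unique hd (mul_mem ha dA.hqD) (mul_mem dA.hqD ha) (mul_mem hb dB.hqD)
      (mul_mem dB.hqD hb) h1
    exact ⟨a, dA.cent_q ha h2, b, dB.cent_q hb h3, rfl⟩
  have hRc : ∀ a ∈ dA.R, ∀ b ∈ dB.R, ∀ a' ∈ dA.R, ∀ b' ∈ dB.R,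
      (a * b) * (a' * b') = (a' * b') * (a * b) := by
    intro a ha b hb a' ha' b' hb'
    calc a * b * (a' * b') = a * (b * a') * b' := by group
      _ = (a * a') * (b * b') := by rw [← hc a' (dA.hRD ha') b (dB.hRD hb)]; group
      _ = (a' * a) * (b' * b) := by rw [dA.hRcomm a ha a' ha', dB.hRcomm b hb b' hb']
      _ = a' * (a * b') * b := by group
      _ = _ := by rw [hc a (dA.hRD ha) b' (dB.hRD hb')]; group
  have hjR : ∀ u ∈ U ⊓ centralizer ({j} : Set G), u * j = j * u :=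
    fun u hu => (mem_centralizer_singleton_iff.1 hu.2)
  refine centralizes_of_abelian ho (hP.to_le hUP) (fun u hu => (mem_normalizer_iff.1 hn u).1 hu)
    (R := U ⊓ centralizer ({j} : Set G)) inf_le_left ?_ ?_ ?_ ?_ ?_
  · intro r hr
    refine ⟨(mem_normalizer_iff.1 hn r).1 hr.1, mem_centralizer_singleton_iff.2 ?_⟩
    calc n * r * n⁻¹ * j = n * r * n⁻¹ * (n * j * n⁻¹) := by rw [hjn]
      _ = n * (r * j) * n⁻¹ := by group
      _ = n * (j * r) * n⁻¹ := by rw [hjR r hr]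
      _ = (n * j * n⁻¹) * (n * r * n⁻¹) := by group
      _ = _ := by rw [hjn]
  · intro u hu r hr
    refine ⟨U.mul_mem (U.mul_mem hu hr.1) (U.inv_mem hu), mem_centralizer_singleton_iff.2 ?_⟩
    obtain ⟨a, ha, b, hb, rfl⟩ := hcj r (hUP hr.1) (hjR r hr)
    obtain ⟨a', ha', b', hb', rfl⟩ := exists_split hp (hUP hu)
    have hR1 : ∀ {D : Subgroup G} (d : Dih D), ∀ x ∈ D, ∀ r ∈ d.R, x * r * x⁻¹ ∈ d.R := by
      intro D d x hx r hr
      by_cases hxR : x ∈ d.R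
      · exact mul_mem (mul_mem hxR hr) (inv_mem hxR)
      · rw [d.refl_inv x hx hxR r hr]; exact inv_mem hr
    have hca := hR1 dA a' ha' a ha
    have hcb := hR1 dB b' hb' b hb
    rw [conj_mul_comm (hc _ ha' _ (dB.hRD hb)) (hc _ ha' _ hb') (hc _ (dA.hRD ha) _ hb').symm
      (hc _ (dA.hRD ha) _ (dB.hRD hb)) (hc _ (dA.hRD hca) _ (dB.hRD hcb))]
    exact hRc _ hca _ hcb _ dA.hqR _ dB.hqR
  · intro x hx y hy
    obtain ⟨a, ha, b, hb, rfl⟩ := hcj x (hUP hx.1) (hjR x hx)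
    obtain ⟨a', ha', b', hb', rfl⟩ := hcj y (hUP hy.1) (hjR y hy)
    exact hRc a ha b hb a' ha' b' hb'
  · intro r hr hrr
    obtain ⟨a, ha, b, hb, rfl⟩ := hcj r (hUP hr.1) (hjR r hr)
    rw [hsq a (dA.hRD ha) b (dB.hRD hb)] at hrr
    obtain ⟨h1, h2⟩ := split_unique hd (mul_mem (dA.hRD ha) (dA.hRD ha)) (one_mem _)
      (mul_mem (dB.hRD hb) (dB.hRD hb)) (one_mem _) (by rw [hrr, one_mul])
    rcases dA.hRinv a ha h1 with rfl | rfl <;> rcases dB.hRinv b hb h2 with rfl | rfl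
    · simp
    · rw [one_mul]; exact hzB
    · rw [mul_one]; exact hzA
    · rw [← conj_mul, hzA, hzB]
  · intro u hu hcomm
    exact ⟨hu, mem_centralizer_singleton_iff.2 (hcomm j ⟨hq, mem_centralizer_singleton_iff.2 rfl⟩)⟩

end Rotations

end CfsgLib.DihTimesDih
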